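import Groth.Agent.AlgSp.K613.Chart
import Groth.Agent.AlgSp.K613.Diag
import Mathlib.AlgebraicGeometry.Limits
import Mathlib.AlgebraicGeometry.Morphisms.Separated
import Mathlib.AlgebraicGeometry.Morphisms.ClosedImmersion

/-!
# Disjoint unions of charts of algebraic spaces
-/

set_option autoImplicit false
universe v w u

open CategoryTheory CategoryTheory.Limits AlgebraicGeometry Opposite

namespace K651.Sigma

open AlgSp K613.Basic K613.Cover K613.Chart K613.Diag

/-- A disjoint union of schemes separated over `S` is separated over `S`. -/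
theorem isSeparated_sigmaDesc {S : Scheme.{u}} {ι : Type u} (Z : ι → Scheme.{u}) (f : ∀ i, Z i ⟶ S)
    (hf : ∀ i, IsSeparated (f i)) : IsSeparated (Sigma.desc f) := by
  constructor
  apply IsClosedImmersion.of_isPreimmersion
  rw [← isOpen_compl_iff, isOpen_iff_mem_nhds]
  intro w hw
  obtain ⟨i, y₁, h1⟩ := (sigmaOpenCover Z).exists_eq (pullback.fst (Sigma.desc f) (Sigma.desc f) w)
  obtain ⟨j, y₂, h2⟩ := (sigmaOpenCover Z).exists_eq (pullback.snd (Sigma.desc f) (Sigma.desc f) w)
  change Sigma.ι Z i y₁ = _ at h1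
  change Sigma.ι Z j y₂ = _ at h2
  by_cases hij : i = j
  · subst hij
    let m : pullback (f i) (f i) ⟶ pullback (Sigma.desc f) (Sigma.desc f) :=
      pullback.map _ _ _ _ (Sigma.ι Z i) (Sigma.ι Z i) (𝟙 S) (by simp) (by simp)
    have hm : IsOpenImmersion m := inferInstance
    have hm1 : m ≫ pullback.fst _ _ = pullback.fst _ _ ≫ Sigma.ι Z i := pullback.lift_fst _ _ _
    have hm2 : m ≫ pullback.snd _ _ = pullback.snd _ _ ≫ Sigma.ι Z i := pullback.lift_snd _ _ _
    have hrange : w ∈ Set.range m := by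
      rw [Scheme.Pullback.range_map]
      exact ⟨⟨y₁, h1⟩, ⟨y₂, h2⟩⟩
    obtain ⟨w', rfl⟩ := hrange
    have hΔ : pullback.diagonal (f i) ≫ m = Sigma.ι Z i ≫ pullback.diagonal (Sigma.desc f) := by
      apply pullback.hom_ext
      · rw [Category.assoc, hm1, pullback.diagonal_fst_assoc, Category.assoc, pullback.diagonal_fst, Category.comp_id]
      · rw [Category.assoc, hm2, pullback.diagonal_snd_assoc, Category.assoc, pullback.diagonal_snd, Category.comp_id]
    have hcl : IsOpen (Set.range (pullback.diagonal (f i)))ᶜ := by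
      rw [isOpen_compl_iff]
      exact (pullback.diagonal (f i)).isClosedEmbedding.isClosed_range
    have hw' : w' ∈ (Set.range (pullback.diagonal (f i)))ᶜ := by
      rintro ⟨z, rfl⟩
      apply hw
      refine ⟨Sigma.ι Z i z, ?_⟩
      rw [← Scheme.Hom.comp_apply, ← hΔ, Scheme.Hom.comp_apply]
    refine Filter.mem_of_superset ((m.isOpenEmbedding.isOpenMap _ hcl).mem_nhds ⟨w', hw', rfl⟩) ?_
    rintro _ ⟨o, ho, rfl⟩ ⟨z, hz⟩
    have hz' : z = Sigma.ι Z i (pullback.fst (f i) (f i) o) := by
      have := congrArg (pullback.fst (Sigma.desc f) (Sigma.desc f)) hz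
      rw [← Scheme.Hom.comp_apply, ← Scheme.Hom.comp_apply, pullback.diagonal_fst, hm1, Scheme.Hom.comp_apply] at this
      exact this
    apply ho
    refine ⟨pullback.fst (f i) (f i) o, ?_⟩
    apply m.isOpenEmbedding.injective
    rw [← hz, hz', ← Scheme.Hom.comp_apply, hΔ, Scheme.Hom.comp_apply]
  · let U := (pullback.fst (Sigma.desc f) (Sigma.desc f)) ⁻¹ᵁ (Sigma.ι Z i).opensRange ⊓
      (pullback.snd (Sigma.desc f) (Sigma.desc f)) ⁻¹ᵁ (Sigma.ι Z j).opensRange
    refine Filter.mem_of_superset (U.isOpen.mem_nhds ⟨⟨y₁, h1⟩, ⟨y₂, h2⟩⟩) ?_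
    rintro _ ⟨⟨a, ha⟩, ⟨b, hb⟩⟩ ⟨z, rfl⟩
    rw [← Scheme.Hom.comp_apply, pullback.diagonal_fst] at ha
    rw [← Scheme.Hom.comp_apply, pullback.diagonal_snd] at hb
    have := disjoint_opensRange_sigmaι Z i j hij
    have h3 : (𝟙 (∐ Z) : ∐ Z ⟶ ∐ Z) z ∈ (Sigma.ι Z i).opensRange ⊓ (Sigma.ι Z j).opensRange := ⟨⟨a, ha⟩, ⟨b, hb⟩⟩
    rw [this.eq_bot] at h3
    exact h3

variable {S : Scheme.{u}} {X : Sp S}

/-- maps from the empty scheme to a sheaf agree -/
theorem eq_of_isEmpty {R : Over S} (h : IsEmpty R.left) (a b : (yon S).obj R ⟶ X) : a = b := by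
  obtain ⟨y, -, hy⟩ := glueFam (F := X) (T := R) (ι := PEmpty.{u + 1}) (fun i => i.elim) (fun i => i.elim)
    (fun i => i.elim) (fun i => i.elim) (fun t => (h.false t).elim) (fun i => i.elim) (fun i => i.elim)
  rw [hy a (fun i => i.elim), hy b (fun i => i.elim)]

/-- the disjoint union in `Over S` -/
noncomputable def sig {ι : Type u} (Z : ι → Over S) : Over S := Over.mk (Sigma.desc fun i => (Z i).hom)

noncomputable def inc {ι : Type u} (Z : ι → Over S) (i : ι) : Z i ⟶ sig Z :=
  Over.homMk (Sigma.ι (fun i => (Z i).left) i) (by simp [sig])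

instance {ι : Type u} (Z : ι → Over S) (i : ι) : IsOpenImmersion (inc Z i).left :=
  inferInstanceAs (IsOpenImmersion (Sigma.ι (fun i => (Z i).left) i))

theorem inc_surj {ι : Type u} (Z : ι → Over S) (t : (sig Z).left) : ∃ (i : ι) (t' : (Z i).left), (inc Z i).left t' = t :=
  (sigmaOpenCover (fun i => (Z i).left)).exists_eq t

theorem isSeparated_sig {ι : Type u} (Z : ι → Over S) (h : ∀ i, IsSeparated (Z i).hom) : IsSeparated (sig Z).hom :=
  isSeparated_sigmaDesc _ _ h

theorem isAffine_sig {ι : Type u} [Finite ι] (Z : ι → Over S) (h : ∀ i, IsAffine (Z i).left) : IsAffine (sig Z).left := by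
  change IsAffine (∐ fun i => (Z i).left)
  infer_instance

/-- Being étale is local on the source for Zariski coverings of a chart. -/
theorem etale_of_openCover (hX : Representable (Limits.diag X)) {T : Over S} (q : (yon S).obj T ⟶ X) {ι : Type u}
    (Z : ι → Over S) (c : ∀ i, Z i ⟶ T) (hc : ∀ i, IsOpenImmersion (c i).left)
    (hs : ∀ t : T.left, ∃ (i : ι) (t' : (Z i).left), (c i).left t' = t)
    (hp : ∀ i, RepWith @Etale ((yon S).map (c i) ≫ q)) : RepWith @Etale q := by
  refine ⟨Functor.relativelyRepresentable.of_diag hX q, ?_⟩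
  intro T' V g fst snd sq
  obtain ⟨d, rfl⟩ := (yon S).map_surjective fst
  -- the cover of `V`
  let P : ι → Scheme.{u} := fun i => pullback d.left (c i).left
  have hcov : ∀ v : V.left, ∃ (i : ι) (p : P i), pullback.fst d.left (c i).left p = v := by
    intro v
    obtain ⟨i, z, hz⟩ := hs (d.left v)
    obtain ⟨p, hp1, -⟩ := Scheme.Pullback.exists_preimage_pullback v z hz.symm
    exact ⟨i, p, hp1⟩
  let 𝒰 : V.left.OpenCover :=
    { I₀ := ι
      X := P
      f := fun i => pullback.fst d.left (c i).left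
      mem₀ := by
        rw [Scheme.presieve₀_mem_precoverage_iff]
        refine ⟨fun v => ?_, fun i => inferInstance⟩
        obtain ⟨i, p, hp⟩ := hcov v
        exact ⟨i, p, hp⟩ }
  change Etale snd.left
  rw [IsZariskiLocalAtSource.iff_of_openCover (P := @Etale) 𝒰]
  intro i
  change Etale (pullback.fst d.left (c i).left ≫ snd.left)
  -- the map `P i → W`
  let Pi : Over S := Over.mk (pullback.fst d.left (c i).left ≫ V.hom)
  let a1 : Pi ⟶ V := Over.homMk (pullback.fst d.left (c i).left) rfl
  let a2 : Pi ⟶ Z i := Over.homMk (pullback.snd d.left (c i).left) (by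
    change pullback.snd d.left (c i).left ≫ (Z i).hom = pullback.fst d.left (c i).left ≫ V.hom
    rw [← Over.w (c i), ← pullback.condition_assoc, Over.w d])
  have ha : a1 ≫ d = a2 ≫ c i := by
    ext1
    exact pullback.condition
  have sqP : IsPullback a1 a2 d (c i) := by
    refine ⟨⟨ha⟩, ⟨PullbackCone.IsLimit.mk _ (fun s => Over.homMk (pullback.lift s.fst.left s.snd.left
      (congrArg (·.left) s.condition)) ?_) ?_ ?_ ?_⟩⟩
    · change pullback.lift _ _ _ ≫ pullback.fst d.left (c i).left ≫ V.hom = _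
      rw [pullback.lift_fst_assoc]
      exact Over.w s.fst
    · intro s
      ext1
      exact pullback.lift_fst _ _ _
    · intro s
      ext1
      exact pullback.lift_snd _ _ _
    · intro s m h1 h2
      ext1
      apply pullback.hom_ext
      · exact (congrArg (·.left) h1).trans (pullback.lift_fst (f := d.left) (g := (c i).left) s.fst.left s.snd.left
          (congrArg (·.left) s.condition)).symm
      · exact (congrArg (·.left) h2).trans (pullback.lift_snd (f := d.left) (g := (c i).left) s.fst.left s.snd.left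
          (congrArg (·.left) s.condition)).symm
  have sqP' : IsPullback ((yon S).map a2) ((yon S).map a1) ((yon S).map (c i)) ((yon S).map d) :=
    (sqP.map (yon S)).flip
  have sq3 : IsPullback ((yon S).map a2) ((yon S).map (a1 ≫ snd)) ((yon S).map (c i) ≫ q) g := by
    have := sqP'.paste_vert sq
    rwa [← Functor.map_comp] at this
  exact (hp i).2 _ _ _ sq3

/-- The disjoint union of étale charts is an étale chart. -/
theorem exists_union (hX : Representable (Limits.diag X)) {ι : Type u} (Z : ι → Over S)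
    (p : ∀ i, (yon S).obj (Z i) ⟶ X) (hp : ∀ i, RepWith @Etale (p i)) :
    ∃ q : (yon S).obj (sig Z) ⟶ X, RepWith @Etale q ∧ ∀ i, (yon S).map (inc Z i) ≫ q = p i := by
  obtain ⟨q, hq, -⟩ := glueFam (F := X) Z (inc Z) (fun i => inferInstance) (fun i => inferInstance) (inc_surj Z) p (by
    intro i j R a b hab
    by_cases hij : i = j
    · subst hij
      have : a = b := by
        ext1
        rw [← cancel_mono (inc Z i).left]
        exact congrArg (·.left) hab
      rw [this]
    · apply eq_of_isEmpty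
      constructor
      intro r
      have h1 := congrArg (fun f => f.left r) hab
      have h2 : (inc Z i).left (a.left r) = (inc Z j).left (b.left r) := h1
      have := disjoint_opensRange_sigmaι (fun i => (Z i).left) i j hij
      have h3 : (inc Z i).left (a.left r) ∈ (Sigma.ι (fun i => (Z i).left) i).opensRange ⊓
          (Sigma.ι (fun i => (Z i).left) j).opensRange := ⟨⟨a.left r, rfl⟩, ⟨b.left r, h2.symm⟩⟩
      rw [this.eq_bot] at h3
      exact h3)
  refine ⟨q, etale_of_openCover hX q Z (inc Z) (fun i => inferInstance) (inc_surj Z) (fun i => ?_), hq⟩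
  rw [hq i]
  exact hp i

end K651.Sigma
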