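import Mathlib.AlgebraicGeometry.Morphisms.ClosedImmersion
import Mathlib.AlgebraicGeometry.Stalk

/-!
# Infinitesimal neighbourhoods of closed points
-/

set_option autoImplicit false
universe u

open CategoryTheory CategoryTheory.Limits AlgebraicGeometry

namespace K651.ClosedPt

theorem range_infNhd (S : Scheme.{u}) (s : S) (n : ℕ) :
    Set.range (Spec.map (CommRingCat.ofHom (Ideal.Quotient.mk
      (IsLocalRing.maximalIdeal ↑(S.presheaf.stalk s) ^ (n + 1)))) ≫ S.fromSpecStalk s) = {s} := by
  let R := S.presheaf.stalk s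
  let I := IsLocalRing.maximalIdeal R ^ (n + 1)
  have key : ∀ x : Spec (CommRingCat.of (R ⧸ I)), Spec.map (CommRingCat.ofHom (Ideal.Quotient.mk I)) x =
      IsLocalRing.closedPoint R := by
    intro x
    apply PrimeSpectrum.ext
    change Ideal.comap (Ideal.Quotient.mk I) x.asIdeal = IsLocalRing.maximalIdeal R
    have hp : (Ideal.comap (Ideal.Quotient.mk I) x.asIdeal).IsPrime := inferInstance
    have h1 : I ≤ Ideal.comap (Ideal.Quotient.mk I) x.asIdeal := by
      intro y hy
      rw [Ideal.mem_comap, Ideal.Quotient.eq_zero_iff_mem.2 hy]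
      exact zero_mem _
    have h2 : IsLocalRing.maximalIdeal R ≤ Ideal.comap (Ideal.Quotient.mk I) x.asIdeal :=
      fun y hy => hp.mem_of_pow_mem (n + 1) (h1 (Ideal.pow_mem_pow hy _))
    exact (IsLocalRing.maximalIdeal.isMaximal R).eq_of_le hp.ne_top h2 |>.symm
  apply Set.Subset.antisymm
  · rintro _ ⟨x, rfl⟩
    rw [Scheme.Hom.comp_apply, key x]
    exact Scheme.fromSpecStalk_closedPoint
  · rintro _ rfl
    have hne : Nontrivial (R ⧸ I) := by
      apply Ideal.Quotient.nontrivial_iff.2
      intro h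
      have h3 : IsLocalRing.maximalIdeal R = ⊤ := by
        rw [Ideal.eq_top_iff_one] at h ⊢
        exact Ideal.pow_le_self (by omega) h
      exact (IsLocalRing.maximalIdeal.isMaximal R).ne_top h3
    obtain ⟨x⟩ : Nonempty (PrimeSpectrum (R ⧸ I)) := inferInstance
    refine ⟨x, ?_⟩
    have hx : Spec.map (CommRingCat.ofHom (Ideal.Quotient.mk I)) x = _ := key x
    rw [Scheme.Hom.comp_apply, hx]
    exact Scheme.fromSpecStalk_closedPoint

theorem isClosedImmersion_infNhd (S : Scheme.{u}) (s : S) (hs : IsClosed ({s} : Set S)) (n : ℕ) :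
    IsClosedImmersion (Spec.map (CommRingCat.ofHom (Ideal.Quotient.mk
      (IsLocalRing.maximalIdeal ↑(S.presheaf.stalk s) ^ (n + 1)))) ≫ S.fromSpecStalk s) := by
  have h1 : IsClosedImmersion (Spec.map (CommRingCat.ofHom (Ideal.Quotient.mk
      (IsLocalRing.maximalIdeal ↑(S.presheaf.stalk s) ^ (n + 1))))) :=
    IsClosedImmersion.spec_of_surjective _ Ideal.Quotient.mk_surjective
  apply IsClosedImmersion.of_isPreimmersion
  rw [range_infNhd]
  exact hs

theorem isPreimmersion_infNhd (S : Scheme.{u}) (s : S) (n : ℕ) :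
    IsPreimmersion (Spec.map (CommRingCat.ofHom (Ideal.Quotient.mk
      (IsLocalRing.maximalIdeal ↑(S.presheaf.stalk s) ^ (n + 1)))) ≫ S.fromSpecStalk s) := by
  have h1 : IsClosedImmersion (Spec.map (CommRingCat.ofHom (Ideal.Quotient.mk
      (IsLocalRing.maximalIdeal ↑(S.presheaf.stalk s) ^ (n + 1))))) :=
    IsClosedImmersion.spec_of_surjective _ Ideal.Quotient.mk_surjective
  infer_instance

end K651.ClosedPt
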