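import Groth.Agent.AlgSp.K651.FibPinch
import Groth.Agent.AlgSp.K651.ClosedPt
import Groth.Agent.S2492

/-!
# Representability over a Dedekind base from the flat closure and the fibres
-/

set_option autoImplicit false
universe u

open CategoryTheory CategoryTheory.Limits AlgebraicGeometry Opposite

namespace K651.PinchMain

open AlgSp K613.Basic K628.Fqc K651.FpqcSh K651.Pinch K651.FibPinch K651.FlatClosure K625.Prod K610.ZarGlue

section setup

variable {S : Scheme.{u}} {G : Sp S} {T X' : Over S} {q : X' ⟶ T}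

theorem isPullback_of_iso (e : (yon S).obj X' ≅ G ⨯ (yon S).obj T) (he : e.hom ≫ prod.snd = (yon S).map q) :
    IsPullback (e.hom ≫ prod.fst) ((yon S).map q) ((isTerminalBase S).from G) ((yon S).map (toBase T)) := by
  have h := isPullback_prod G ((yon S).obj T)
  rw [from_eq] at h
  refine IsPullback.of_iso h e.symm (Iso.refl _) (Iso.refl _) (Iso.refl _) ?_ ?_ ?_ ?_
  · simp
  · simp [← he]
  · simp
  · simp

theorem exists_of_isRepresentable {D : Over S} (h : (G ⨯ (yon S).obj D).obj.IsRepresentable) :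
    ∃ (G₁ : Over S) (j₁ : (yon S).obj G₁ ⟶ G) (d₁ : G₁ ⟶ D),
      IsPullback j₁ ((yon S).map d₁) ((isTerminalBase S).from G) ((yon S).map (toBase D)) := by
  obtain ⟨G₁, ⟨e₁⟩⟩ := isRepresentable_iff.1 h
  obtain ⟨d₁, hd₁⟩ := (yon S).map_surjective (e₁.hom ≫ prod.snd)
  exact ⟨G₁, e₁.hom ≫ prod.fst, d₁, isPullback_of_iso e₁ hd₁.symm⟩

theorem fqC_toBase (T : Over S) [Flat T.hom] [Surjective T.hom] [QuasiCompact T.hom] : FqC (toBase T) :=
  ⟨inferInstanceAs (Flat T.hom), inferInstanceAs (QuasiCompact T.hom), inferInstanceAs (Surjective T.hom)⟩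

theorem comp_toBase_left (q : X' ⟶ T) : (q ≫ toBase T).left = X'.hom := by
  rw [Over.comp_left]
  exact Over.w q

end setup

theorem mem_range_gen (A : Type u) [CommRing A] [IsDomain A] (x : Spec (CommRingCat.of A)) (hx : x.asIdeal = ⊥) :
    x ∈ Set.range (gen A) := by
  refine ⟨(⟨⊥, Ideal.isPrime_bot⟩ : PrimeSpectrum (FractionRing A)), ?_⟩
  apply PrimeSpectrum.ext
  change Ideal.comap (algebraMap A (FractionRing A)) ⊥ = x.asIdeal
  rw [hx]
  exact (RingHom.injective_iff_ker_eq_bot _).1 (IsFractionRing.injective A (FractionRing A))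

end K651.PinchMain
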