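import Groth.Agent.AlgSp.K651.DedPinch

/-!
# Gluing over the affine opens of a Dedekind scheme
-/

set_option autoImplicit false
universe u

open CategoryTheory CategoryTheory.Limits AlgebraicGeometry Opposite

namespace K651.DedGlue

open AlgSp K613.Basic K628.Fqc K651.FpqcSh K651.Pinch K651.FibPinch K651.FlatClosure K651.TorFree K625.Prod
  K651.PinchMain K610.Base K610.ZarGlue

variable {S : Scheme.{u}} {G : Sp S}

theorem isPullback_restrict {T X' Z : Over S} {p : (yon S).obj X' ⟶ G} {q : X' ⟶ T}
    (sq : IsPullback p ((yon S).map q) ((isTerminalBase S).from G) ((yon S).map (toBase T))) (t : T ⟶ Z) :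
    IsPullback (prod.lift p ((yon S).map (q ≫ t))) ((yon S).map q) (prod.snd : G ⨯ (yon S).obj Z ⟶ _)
      ((yon S).map t) := by
  have h1 := isPullback_prod G ((yon S).obj Z)
  have h2 : t ≫ toBase Z = toBase T := by
    ext1
    exact (Over.w t).trans rfl
  rw [← h2, Functor.map_comp, ← prod.lift_fst p ((yon S).map (q ≫ t))] at sq
  have h3 : (isTerminalBase S).from ((yon S).obj Z) = (yon S).map (toBase Z) := from_eq Z
  rw [h3] at h1
  exact IsPullback.of_right sq (by rw [prod.lift_snd, Functor.map_comp]) h1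

/-- The local statement. -/
theorem exists_rep_open (hG : IsFpqcSh G)
    (hbar : ∃ (Gb : Over S) (j : (yon S).obj Gb ⟶ G), Flat Gb.hom ∧ Mono j ∧
      ∀ (T' : Over S), Flat T'.hom → ∀ a : (yon S).obj T' ⟶ G, ∃ b : T' ⟶ Gb, (yon S).map b ≫ j = a)
    (hinf : ∀ (s : ↥S) (n : ℕ), (G ⨯ (yon S).obj (Over.mk (Spec.map (CommRingCat.ofHom
        (Ideal.Quotient.mk (IsLocalRing.maximalIdeal ↑(S.presheaf.stalk s) ^ (n + 1)))) ≫
          S.fromSpecStalk s))).obj.IsRepresentable)
    {T X' : Over S} [Flat T.hom] [Surjective T.hom] [QuasiCompact T.hom] {q : X' ⟶ T}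
    [LocallyOfFinitePresentation q.left] {p : (yon S).obj X' ⟶ G}
    (sq : IsPullback p ((yon S).map q) ((isTerminalBase S).from G) ((yon S).map (toBase T)))
    (U : S.Opens) (hU : IsAffineOpen U) [IsDedekindDomain Γ(S, U)] :
    ∃ X : Over S, Nonempty ((yon S).obj X ≅ G ⨯ (yon S).obj (Over.mk U.ι)) := by
  let Z : Over S := Over.mk U.ι
  have haU : IsAffine (U : Scheme.{u}) := hU
  -- the affine cover of `T` over `U`
  have hcU : CompactSpace (U : Scheme.{u}) := inferInstance
  have hc1 : CompactSpace ↥(pullback T.hom U.ι) :=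
    QuasiCompact.compactSpace_of_compactSpace (pullback.snd T.hom U.ι)
  obtain ⟨Z₀, r, hrs, hrl, hZ₀⟩ :=
    (pullback T.hom U.ι).exists_hom_isAffine_of_isZariskiLocalAtSource @IsLocalIso
  have hrf : Flat r := IsLocalIso.le_of_isZariskiLocalAtSource @Flat _ _ _ hrl
  let Z' : Over S := Over.mk (r ≫ pullback.fst T.hom U.ι ≫ T.hom)
  let t : Z' ⟶ T := Over.homMk (r ≫ pullback.fst T.hom U.ι) (Category.assoc _ _ _)
  let c : Z' ⟶ Z := Over.homMk (r ≫ pullback.snd T.hom U.ι) (by
    change (r ≫ pullback.snd T.hom U.ι) ≫ U.ι = r ≫ pullback.fst T.hom U.ι ≫ T.hom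
    rw [Category.assoc, pullback.condition])
  have hc : FqC c := by
    have h1 : c.left = r ≫ pullback.snd T.hom U.ι := rfl
    refine ⟨?_, ?_, ?_⟩
    · rw [h1]; infer_instance
    · have : IsAffine Z'.left := hZ₀
      have : IsAffine Z.left := haU
      infer_instance
    · rw [h1]; infer_instance
  -- the base change of `X'`
  have hsq' : IsPullback (pullback.fst q t) (pullback.snd q t) q t := IsPullback.of_hasPullback q t
  have sq2 : IsPullback ((yon S).map (pullback.fst q t) ≫ p) ((yon S).map (pullback.snd q t))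
      ((isTerminalBase S).from G) ((yon S).map (toBase Z')) := by
    have h2 : t ≫ toBase T = toBase Z' := by
      ext1
      exact (Over.w t).trans rfl
    rw [← h2, Functor.map_comp]
    exact (isPullback_yon hsq').flip.paste_vert sq.flip |>.flip
  have sq3 := isPullback_restrict sq2 c
  have hlfp : LocallyOfFinitePresentation (pullback.snd q t).left :=
    MorphismProperty.of_isPullback (P := @LocallyOfFinitePresentation) (hsq'.map (Over.forget S))
      ‹LocallyOfFinitePresentation q.left›
  refine DedPinch.exists_rep (A := Γ(S, U)) (hG.prod (isFpqcSh_yon Z)) hc hZ₀ sq3 hlfp hU.isoSpec ?_ ?_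
  · obtain ⟨Gb, j, hGb, hj, hup⟩ := hbar
    have hb : IsPullback (pullback.fst (toBase Gb) (toBase Z)) (pullback.snd (toBase Gb) (toBase Z))
      (toBase Gb) (toBase Z) := IsPullback.of_hasPullback _ _
    refine ⟨_, prod.lift ((yon S).map (pullback.fst (toBase Gb) (toBase Z)) ≫ j)
      ((yon S).map (pullback.snd (toBase Gb) (toBase Z))), pullback.snd (toBase Gb) (toBase Z), ?_, ?_, ?_, ?_⟩
    · rw [prod.lift_snd]
    · exact MorphismProperty.of_isPullback (P := @Flat) (hb.map (Over.forget S)) hGb
    · refine mono_of_injective fun R a b hab => ?_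
      have h1 := congrArg (fun f => f ≫ prod.fst) hab
      have h2 := congrArg (fun f => f ≫ prod.snd) hab
      simp only [Category.assoc, prod.lift_fst, prod.lift_snd] at h1 h2
      apply (isPullback_yon hb).hom_ext
      · rw [← cancel_mono j, Category.assoc, Category.assoc, h1]
      · exact h2
    · intro Y y a ha hy
      have hY : Flat Y.hom := by
        rw [← Over.w y]
        have : Flat Z.hom := inferInstanceAs (Flat U.ι)
        infer_instance
      obtain ⟨b, hb'⟩ := hup Y hY (a ≫ prod.fst)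
      have hw : b ≫ toBase Gb = y ≫ toBase Z := by
        ext1
        exact (Over.w b).trans (Over.w y).symm
      refine ⟨pullback.lift b y hw, ?_⟩
      apply prod.hom_ext
      · rw [Category.assoc, prod.lift_fst, ← Category.assoc, ← Functor.map_comp, pullback.lift_fst, hb']
      · rw [Category.assoc, prod.lift_snd, ← Functor.map_comp, pullback.lift_snd, ha]
  · intro s hs
    let D : Over S := Over.mk (Spec.map (CommRingCat.ofHom
        (Ideal.Quotient.mk (IsLocalRing.maximalIdeal ↑(S.presheaf.stalk s.1) ^ (0 + 1)))) ≫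
          S.fromSpecStalk s.1)
    have hDr : Set.range D.hom = {s.1} := K651.ClosedPt.range_infNhd S s.1 0
    have hr : Set.range D.hom ⊆ Set.range U.ι := by
      rw [hDr, Scheme.Opens.range_ι]
      rintro _ rfl
      exact s.2
    have hd' : IsOpenImmersion.lift U.ι D.hom hr ≫ U.ι = D.hom := IsOpenImmersion.lift_fac _ _ _
    let d : D ⟶ Z := Over.homMk (IsOpenImmersion.lift U.ι D.hom hr) hd'
    have hdr : Set.range d.left = {s} := by
      apply Set.Subset.antisymm
      · rintro _ ⟨x, rfl⟩
        apply Subtype.ext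
        have h3 : D.hom x ∈ ({s.1} : Set S) := by rw [← hDr]; exact ⟨x, rfl⟩
        rw [← hd'] at h3
        exact h3
      · rintro x hx
        obtain rfl : x = s := hx
        have h3 : x.1 ∈ Set.range D.hom := by rw [hDr]; rfl
        obtain ⟨x, hx⟩ := h3
        refine ⟨x, Subtype.ext ?_⟩
        rw [← hd'] at hx
        exact hx
    have hdc : IsClosedImmersion d.left := by
      have h4 : IsPreimmersion (d.left ≫ U.ι) := by
        have h5 : d.left ≫ U.ι = D.hom := hd'
        rw [h5]
        exact K651.ClosedPt.isPreimmersion_infNhd S s.1 0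
      have h7 : IsPreimmersion d.left := IsPreimmersion.of_comp d.left U.ι
      apply IsClosedImmersion.of_isPreimmersion
      rw [hdr]
      exact hs
    obtain ⟨G₁, j₁, d₁, sq1⟩ := exists_of_isRepresentable (hinf s.1 0)
    exact ⟨D, G₁, d, _, d₁, hdc, hdr, isPullback_restrict sq1 d⟩

/-- Gluing. -/
theorem exists_rep_glue (H : ∀ s : S, ∃ (U : S.Opens) (X : Over S), s ∈ U ∧
      Nonempty ((yon S).obj X ≅ G ⨯ (yon S).obj (Over.mk U.ι))) :
    ∃ X : Over S, Nonempty ((yon S).obj X ≅ G) := by
  choose U X hU e using H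
  have hrep : ∀ s, RepWith @IsOpenImmersion ((e s).some.hom ≫
      (prod.fst : G ⨯ (yon S).obj (Over.mk (U s).ι) ⟶ G)) := by
    intro s
    exact (MorphismProperty.cancel_left_of_respectsIso (RepWith @IsOpenImmersion) _ _).2
      (repWith_fst _ G _ (inferInstanceAs (IsOpenImmersion (U s).ι)))
  obtain ⟨H, e', -⟩ := exists_iso_of_openCover (F := G) X _ hrep (by
    intro ξ
    obtain ⟨R, g, t, rfl⟩ := exists_ofPt_eq ξ
    let s := R.hom t
    let O : R.left.Opens := R.hom ⁻¹ᵁ (U s)
    have ht : t ∈ O := hU s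
    let i : opnObj O ⟶ R := opnInc O
    let r : opnObj O ⟶ Over.mk (U s).ι := Over.homMk (R.hom ∣_ (U s)) (morphismRestrict_ι R.hom (U s))
    obtain ⟨t', ht'⟩ : t ∈ Set.range i.left := by rw [range_opnInc]; exact ht
    refine ⟨s, Points.ofPt (prod.lift ((yon S).map i ≫ g) ((yon S).map r) ≫ (e s).some.inv) t', ?_⟩
    rw [← ofPt_comp, Category.assoc, Iso.inv_hom_id_assoc, prod.lift_fst, ofPt_map_comp, ht'])
  exact ⟨H, ⟨e'⟩⟩

end K651.DedGlue
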