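import Groth.Agent.AlgSp.K628.Core
import Groth.Agent.AlgSp.K625.Prod
import Groth.Agent.Desc.MorDescent
import Mathlib.AlgebraicGeometry.Morphisms.LocalFlatDescent
import Mathlib.FieldTheory.IsAlgClosed.AlgebraicClosure

/-!
# Algebraic spaces which become affine schemes over an extension field
-/

set_option autoImplicit false
universe v w u

open CategoryTheory CategoryTheory.Limits AlgebraicGeometry Opposite

namespace K651.AffDesc

open AlgSp K613.Basic K613.Cover K628.Fqc K628.ZarRep K628.Core Groth.Agent.Ega2.QuasiAffine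

theorem qAff_of_isAffineHom {X Y : Scheme.{u}} (f : X ⟶ Y) (hf : IsAffineHom f) : QAff f :=
  ⟨inferInstance, fun V hV => by
    have : IsAffine (f ⁻¹ᵁ V : Scheme.{u}) := hV.preimage f
    infer_instance⟩

/-- An algebraic space over an affine base which becomes affine after a faithfully flat affine base change is affine. -/
theorem exists_affine {S : Scheme.{u}} [IsAffine S] {X : Sp S} (hX : IsAlgSpace X) {A : Scheme.{u}} (g : A ⟶ S)
    [IsAffine A] [Flat g] [Surjective g] (T : Over S) (hT : IsAffine T.left)
    (e : X ⨯ (yon S).obj (Over.mk g) ≅ (yon S).obj T) :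
    ∃ U : Over S, IsAffine U.left ∧ Nonempty (X ≅ (yon S).obj U) := by
  let c : Over.mk g ⟶ Over.mk (𝟙 S) := Over.homMk g (Category.comp_id _)
  have hc : FqC c := ⟨‹Flat g›, inferInstanceAs (QuasiCompact g), ‹Surjective g›⟩
  obtain ⟨s, hs⟩ := (yon S).map_surjective (e.inv ≫ prod.snd)
  have sq : IsPullback (e.inv ≫ prod.fst) ((yon S).map s) ((K625.Prod.isTerminalBase S).from X) ((yon S).map c) := by
    have h0 := K625.Prod.isPullback_prod X ((yon S).obj (Over.mk g))
    rw [hs]
    refine IsPullback.of_iso h0 e (Iso.refl _) (Iso.refl _) (Iso.refl _) ?_ ?_ ?_ ?_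
    · simp
    · simp
    · simp
    · simp only [Iso.refl_hom, Category.comp_id, Category.id_comp]
      exact (K625.Prod.isTerminalBase S).hom_ext _ _
  have hsa : IsAffineHom s.left := by
    have h1 : IsAffine (Over.mk g : Over S).left := inferInstanceAs (IsAffine A)
    exact isAffineHom_of_isAffine s.left
  obtain ⟨U, q, m, hm, hmq, hU⟩ := exists_rep (f := (K625.Prod.isTerminalBase S).from X) (c := c) hX hc
    ⟨T, _, s, sq, qAff_of_isAffineHom _ hsa⟩
  obtain ⟨r, hr⟩ := hU T _ s sq
  refine ⟨U, ?_, ⟨asIso m⟩⟩
  have hq : IsAffineHom q.left := by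
    have h2 : IsPullback r.left s.left q.left c.left := by
      have := hr.map (Over.forget S)
      exact this.flip
    have := Groth.Agent.Desc.MorDescent.descendsAlong_isAffineHom.{u}
    exact MorphismProperty.of_isPullback_of_descendsAlong (P := @IsAffineHom)
      (Q := @Surjective ⊓ @Flat ⊓ @QuasiCompact) h2.flip hc.mem hsa
  have h3 : IsAffine (Over.mk (𝟙 S) : Over S).left := inferInstanceAs (IsAffine S)
  exact isAffine_of_isAffineHom q.left

end K651.AffDesc
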