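import Groth.Agent.AlgSp.K651.FpqcSh
import Groth.Agent.S0593
import Groth.Agent.Ega1.CDLift

/-!
# Affine open neighbourhoods in a union of two closed subschemes

* `isAffine_of_union` : a scheme which is the union of two affine closed subschemes is affine.
* `exists_pinch` : compatible affine opens in `G₁` and `G₂` for closed immersions `G₁ ← G₁₂ → G₂`.
* `exists_stable_affine` : affine opens of `X'` stable under the equivalence relation of `X' ⟶ G`.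
-/

set_option autoImplicit false
universe u

open CategoryTheory CategoryTheory.Limits AlgebraicGeometry Opposite

namespace K651.Pinch

theorem isAffine_of_union {X Y₁ Y₂ : Scheme.{u}} (i₁ : Y₁ ⟶ X) (i₂ : Y₂ ⟶ X) [IsClosedImmersion i₁]
    [IsClosedImmersion i₂] [IsAffine Y₁] [IsAffine Y₂]
    (h : ∀ x : X, x ∈ Set.range i₁ ∨ x ∈ Set.range i₂) : IsAffine X := by
  have h1 : IsProper (coprod.desc i₁ i₂) := Groth.Agent.Ega1.CDLift.isProper_coprodDesc i₁ i₂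
  have h2 : Surjective (coprod.desc i₁ i₂) := by
    refine ⟨fun x => ?_⟩
    rcases h x with ⟨y, rfl⟩ | ⟨y, rfl⟩
    · refine ⟨(coprod.inl : Y₁ ⟶ Y₁ ⨿ Y₂) y, ?_⟩
      rw [← Scheme.Hom.comp_apply, coprod.inl_desc]
    · refine ⟨(coprod.inr : Y₂ ⟶ Y₁ ⨿ Y₂) y, ?_⟩
      rw [← Scheme.Hom.comp_apply, coprod.inr_desc]
  exact Groth.Agent.S0593.result _ _ (coprod.desc i₁ i₂)

/-- Compatible affine opens for a pair of closed immersions. -/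
theorem exists_pinch {G₁₂ G₁ G₂ : Scheme.{u}} (k₁ : G₁₂ ⟶ G₁) (k₂ : G₁₂ ⟶ G₂) [IsClosedImmersion k₁]
    [IsClosedImmersion k₂] (W₁ : G₁.Opens) (W₂ : G₂.Opens) (y : G₁₂) (h₁ : k₁ y ∈ W₁) (h₂ : k₂ y ∈ W₂) :
    ∃ (V₁ : G₁.Opens) (V₂ : G₂.Opens), IsAffineOpen V₁ ∧ IsAffineOpen V₂ ∧ V₁ ≤ W₁ ∧ V₂ ≤ W₂ ∧
      k₁ ⁻¹ᵁ V₁ = k₂ ⁻¹ᵁ V₂ ∧ k₁ y ∈ V₁ := by
  obtain ⟨A₁, hA₁, hyA₁, hAW₁⟩ := exists_isAffineOpen_mem_and_subset h₁
  obtain ⟨A₂, hA₂, hyA₂, hAW₂⟩ := exists_isAffineOpen_mem_and_subset h₂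
  have hC₁ : IsAffineOpen (k₁ ⁻¹ᵁ A₁) := hA₁.preimage k₁
  have hC₂ : IsAffineOpen (k₂ ⁻¹ᵁ A₂) := hA₂.preimage k₂
  obtain ⟨c, hc, hyc⟩ := hC₂.exists_basicOpen_le (V := k₁ ⁻¹ᵁ A₁) ⟨y, hyA₁⟩ hyA₂
  obtain ⟨g, hg⟩ := Scheme.Hom.app_surjective k₂ A₂ hA₂ c
  -- the first shrinking in `G₂`
  have hB : k₂ ⁻¹ᵁ (G₂.basicOpen g) = G₁₂.basicOpen c := by
    rw [Scheme.preimage_basicOpen, hg]
  have hV₂' : IsAffineOpen (G₂.basicOpen g) := hA₂.basicOpen g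
  obtain ⟨d, hd, hyd⟩ := hC₁.exists_basicOpen_le (V := G₁₂.basicOpen c) ⟨y, hyc⟩ hyA₁
  obtain ⟨f, hf⟩ := Scheme.Hom.app_surjective k₁ A₁ hA₁ d
  have hD : k₁ ⁻¹ᵁ (G₁.basicOpen f) = G₁₂.basicOpen d := by
    rw [Scheme.preimage_basicOpen, hf]
  have hle : k₂ ⁻¹ᵁ (G₂.basicOpen g) ≤ k₁ ⁻¹ᵁ A₁ := by rw [hB]; exact hc
  obtain ⟨g', hg'⟩ := Scheme.Hom.app_surjective k₂ (G₂.basicOpen g) hV₂'
    (G₁₂.presheaf.map (homOfLE hle).op d)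
  have hD' : k₂ ⁻¹ᵁ (G₂.basicOpen g') = G₁₂.basicOpen d := by
    rw [Scheme.preimage_basicOpen, hg', Scheme.basicOpen_res, hB]
    exact inf_eq_right.2 hd
  refine ⟨G₁.basicOpen f, G₂.basicOpen g', hA₁.basicOpen f, hV₂'.basicOpen g',
    (G₁.basicOpen_le f).trans hAW₁, ((G₂.basicOpen_le g').trans (G₂.basicOpen_le g)).trans hAW₂, ?_, ?_⟩
  · rw [hD, hD']
  · change y ∈ k₁ ⁻¹ᵁ (G₁.basicOpen f)
    rw [hD]
    exact hyd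

/-- Compatible affine opens for a pair of closed immersions, around any point of `G₁`. -/
theorem exists_pinch' {G₁₂ G₁ G₂ : Scheme.{u}} (k₁ : G₁₂ ⟶ G₁) (k₂ : G₁₂ ⟶ G₂) [IsClosedImmersion k₁]
    [IsClosedImmersion k₂] (W₁ : G₁.Opens) (W₂ : G₂.Opens) (hW : k₁ ⁻¹ᵁ W₁ = k₂ ⁻¹ᵁ W₂) (y₁ : G₁)
    (h₁ : y₁ ∈ W₁) :
    ∃ (V₁ : G₁.Opens) (V₂ : G₂.Opens), IsAffineOpen V₁ ∧ IsAffineOpen V₂ ∧ V₁ ≤ W₁ ∧ V₂ ≤ W₂ ∧
      k₁ ⁻¹ᵁ V₁ = k₂ ⁻¹ᵁ V₂ ∧ y₁ ∈ V₁ := by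
  by_cases hy : y₁ ∈ Set.range k₁
  · obtain ⟨y, rfl⟩ := hy
    refine exists_pinch k₁ k₂ W₁ W₂ y h₁ ?_
    change y ∈ k₂ ⁻¹ᵁ W₂
    rw [← hW]
    exact h₁
  · let C : G₁.Opens := ⟨(Set.range k₁)ᶜ, k₁.isClosedEmbedding.isClosed_range.isOpen_compl⟩
    obtain ⟨A₁, hA₁, hyA₁, hAW₁⟩ := exists_isAffineOpen_mem_and_subset (U := W₁ ⊓ C) (x := y₁) ⟨h₁, hy⟩
    refine ⟨A₁, ⊥, hA₁, isAffineOpen_bot _, hAW₁.trans inf_le_left, bot_le, ?_, hyA₁⟩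
    have h2 : k₂ ⁻¹ᵁ (⊥ : G₂.Opens) = ⊥ := rfl
    rw [h2]
    refine eq_bot_iff.2 fun x hx => ?_
    exact (hAW₁ hx).2 ⟨x, rfl⟩

open AlgSp K613.Basic K628.Fqc K651.FpqcSh

variable {S : Scheme.{u}} {G : Sp S} {Z Z' X' : Over S} {f : G ⟶ (yon S).obj Z} {c : Z' ⟶ Z}
  {p : (yon S).obj X' ⟶ G} {q : X' ⟶ Z'}

theorem stable_image {G₁ X₁ : Over S} {j : (yon S).obj G₁ ⟶ G} {ρ : X₁ ⟶ G₁} {ι : X₁ ⟶ X'}
    (sq : IsPullback ((yon S).map ρ) ((yon S).map ι) j p) (C : Set G₁.left) :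
    Stable p (ι.left '' (ρ.left ⁻¹' C)) := by
  rintro R a b hab r ⟨x, hx, hxr⟩
  obtain ⟨z, hz1, hz2⟩ := Scheme.exists_preimage_of_isPullback
        ((IsPullback.of_hasPullback a ι).map (Over.forget S)) r x hxr.symm
  have hz1 : (pullback.fst a ι).left z = r := hz1
  have hz2 : (pullback.snd a ι).left z = x := hz2
  have hw : (yon S).map (pullback.snd a ι ≫ ρ) ≫ j = (yon S).map (pullback.fst a ι ≫ b) ≫ p := by
    rw [Functor.map_comp, Functor.map_comp, Category.assoc, Category.assoc, sq.w, ← hab, ← Category.assoc,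
      ← Category.assoc, ← Functor.map_comp, ← Functor.map_comp, pullback.condition]
  obtain ⟨l, hl⟩ := (yon S).map_surjective (sq.lift _ _ hw)
  have hl1 : l ≫ ρ = pullback.snd a ι ≫ ρ := by
    apply (yon S).map_injective
    rw [Functor.map_comp, hl, sq.lift_fst]
  have hl2 : l ≫ ι = pullback.fst a ι ≫ b := by
    apply (yon S).map_injective
    rw [Functor.map_comp, hl, sq.lift_snd]
  refine ⟨l.left z, ?_, ?_⟩
  · change (l ≫ ρ).left z ∈ C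
    rw [hl1]
    change ρ.left ((pullback.snd a ι).left z) ∈ C
    rw [hz2]
    exact hx
  · change (l ≫ ι).left z = _
    rw [hl2]
    change b.left ((pullback.fst a ι).left z) = _
    rw [hz1]

theorem opens_le_of_pr {T T₁ T₂ : Over S} {g₁ : (yon S).obj T₁ ⟶ G} {g₂ : (yon S).obj T₂ ⟶ G}
    {t₁ : T ⟶ T₁} {t₂ : T ⟶ T₂} (ht : (yon S).map t₁ ≫ g₁ = (yon S).map t₂ ≫ g₂) {P : ∀ T : Over S, ((yon S).obj T ⟶ G) → Prop}
    {W₁ : T₁.left.Opens} {W₂ : T₂.left.Opens}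
    (h₁ : ∀ (R : Over S) (r : R ⟶ T₁), P R ((yon S).map r ≫ g₁) ↔ Set.range r.left ⊆ W₁)
    (h₂ : ∀ (R : Over S) (r : R ⟶ T₂), P R ((yon S).map r ≫ g₂) ↔ Set.range r.left ⊆ W₂) :
    t₁.left ⁻¹ᵁ W₁ ≤ t₂.left ⁻¹ᵁ W₂ := by
  let i := opnInc (t₁.left ⁻¹ᵁ W₁)
  have hi : Set.range i.left = (t₁.left ⁻¹ᵁ W₁ : Set T.left) := range_opnInc _
  have h3 : Set.range (i ≫ t₂).left ⊆ W₂ := by
    rw [← h₂, Functor.map_comp, Category.assoc, ← ht, ← Category.assoc, ← Functor.map_comp, h₁]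
    rintro _ ⟨x, rfl⟩
    have : i.left x ∈ Set.range i.left := ⟨x, rfl⟩
    rw [hi] at this
    exact this
  intro x hx
  obtain ⟨y, rfl⟩ : x ∈ Set.range i.left := by rw [hi]; exact hx
  exact h3 ⟨y, rfl⟩

/-- **Stable affine neighbourhoods.** -/
theorem exists_stable_affine (hc : FqC c) (sq : IsPullback p ((yon S).map q) f ((yon S).map c))
    {G₁ G₂ G₁₂ X₁ X₂ : Over S} {j₁ : (yon S).obj G₁ ⟶ G} {j₂ : (yon S).obj G₂ ⟶ G}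
    {k₁ : G₁₂ ⟶ G₁} {k₂ : G₁₂ ⟶ G₂} (h12 : IsPullback ((yon S).map k₁) ((yon S).map k₂) j₁ j₂)
    [IsClosedImmersion k₁.left] [IsClosedImmersion k₂.left]
    {ρ₁ : X₁ ⟶ G₁} {ι₁ : X₁ ⟶ X'} (sq₁ : IsPullback ((yon S).map ρ₁) ((yon S).map ι₁) j₁ p)
    {ρ₂ : X₂ ⟶ G₂} {ι₂ : X₂ ⟶ X'} (sq₂ : IsPullback ((yon S).map ρ₂) ((yon S).map ι₂) j₂ p)
    [IsClosedImmersion ι₁.left] [IsClosedImmersion ι₂.left] [IsAffineHom ρ₁.left] [IsAffineHom ρ₂.left]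
    {N : Set X'.left} (hN : IsClosed N) (hNs : Stable p N)
    (hcov : ∀ x, x ∉ N → x ∈ Set.range ι₁.left ∨ x ∈ Set.range ι₂.left) {x : X'.left} (hx : x ∉ N)
    (hx1 : x ∈ Set.range ι₁.left) :
    ∃ O : X'.left.Opens, x ∈ O ∧ Stable p (O : Set X'.left) ∧ IsAffineOpen O := by
  let O0 : X'.left.Opens := ⟨Nᶜ, hN.isOpen_compl⟩
  have hO0 : Stable p (O0 : Set X'.left) := hNs.compl
  obtain ⟨W₁, hW₁⟩ := opn_iff hc sq O0 hO0 j₁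
  obtain ⟨W₂, hW₂⟩ := opn_iff hc sq O0 hO0 j₂
  have hp : ∀ (R : Over S) (r : R ⟶ X'), (opn p (O0 : Set X'.left)).pr R ((yon S).map r ≫ p) ↔
    Set.range r.left ⊆ O0 := fun R r => opn_pr_iff _ hO0 r
  have e1 : ρ₁.left ⁻¹ᵁ W₁ = ι₁.left ⁻¹ᵁ O0 :=
    le_antisymm (opens_le_of_pr sq₁.w hW₁ hp) (opens_le_of_pr sq₁.w.symm hp hW₁)
  have e12 : k₁.left ⁻¹ᵁ W₁ = k₂.left ⁻¹ᵁ W₂ :=
    le_antisymm (opens_le_of_pr h12.w hW₁ hW₂) (opens_le_of_pr h12.w.symm hW₂ hW₁)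
  have e2 : ρ₂.left ⁻¹ᵁ W₂ = ι₂.left ⁻¹ᵁ O0 :=
    le_antisymm (opens_le_of_pr sq₂.w hW₂ hp) (opens_le_of_pr sq₂.w.symm hp hW₂)
  obtain ⟨x₁, rfl⟩ := hx1
  have hx₁ : ρ₁.left x₁ ∈ W₁ := by
    change x₁ ∈ ρ₁.left ⁻¹ᵁ W₁
    rw [e1]
    exact hx
  obtain ⟨V₁, V₂, hV₁, hV₂, hVW₁, hVW₂, hV12, hxV⟩ :=
    exists_pinch' k₁.left k₂.left W₁ W₂ e12 (ρ₁.left x₁) hx₁
  have key : ∀ (z₁ : X₁.left) (z₂ : X₂.left), ι₁.left z₁ = ι₂.left z₂ → (ρ₁.left z₁ ∈ V₁ ↔ ρ₂.left z₂ ∈ V₂) := by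
    intro z₁ z₂ hz
    obtain ⟨z, hz1, hz2⟩ := Scheme.exists_preimage_of_isPullback
        ((IsPullback.of_hasPullback ι₁ ι₂).map (Over.forget S)) z₁ z₂ hz
    have hz1 : (pullback.fst ι₁ ι₂).left z = z₁ := hz1
    have hz2 : (pullback.snd ι₁ ι₂).left z = z₂ := hz2
    have hw : (yon S).map (pullback.fst ι₁ ι₂ ≫ ρ₁) ≫ j₁ = (yon S).map (pullback.snd ι₁ ι₂ ≫ ρ₂) ≫ j₂ := by
      rw [Functor.map_comp, Functor.map_comp, Category.assoc, Category.assoc, sq₁.w, sq₂.w, ← Category.assoc,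
        ← Category.assoc, ← Functor.map_comp, ← Functor.map_comp, pullback.condition]
    obtain ⟨l, hl⟩ := (yon S).map_surjective (h12.lift _ _ hw)
    have hl1 : l ≫ k₁ = pullback.fst ι₁ ι₂ ≫ ρ₁ := by
      apply (yon S).map_injective
      rw [Functor.map_comp, hl, h12.lift_fst]
    have hl2 : l ≫ k₂ = pullback.snd ι₁ ι₂ ≫ ρ₂ := by
      apply (yon S).map_injective
      rw [Functor.map_comp, hl, h12.lift_snd]
    have h1 : ρ₁.left z₁ = k₁.left (l.left z) := by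
      rw [← hz1]
      change (pullback.fst ι₁ ι₂ ≫ ρ₁).left z = (l ≫ k₁).left z
      rw [hl1]
    have h2 : ρ₂.left z₂ = k₂.left (l.left z) := by
      rw [← hz2]
      change (pullback.snd ι₁ ι₂ ≫ ρ₂).left z = (l ≫ k₂).left z
      rw [hl2]
    rw [h1, h2]
    change l.left z ∈ k₁.left ⁻¹ᵁ V₁ ↔ l.left z ∈ k₂.left ⁻¹ᵁ V₂
    rw [hV12]
  let C₁ : Set X'.left := ι₁.left '' (ρ₁.left ⁻¹' (V₁ : Set G₁.left)ᶜ)
  let C₂ : Set X'.left := ι₂.left '' (ρ₂.left ⁻¹' (V₂ : Set G₂.left)ᶜ)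
  have hC₁ : IsClosed C₁ := ι₁.left.isClosedEmbedding.isClosedMap _
    (V₁.2.isClosed_compl.preimage ρ₁.left.continuous)
  have hC₂ : IsClosed C₂ := ι₂.left.isClosedEmbedding.isClosedMap _
    (V₂.2.isClosed_compl.preimage ρ₂.left.continuous)
  have hCs₁ : Stable p C₁ := stable_image sq₁ _
  have hCs₂ : Stable p C₂ := stable_image sq₂ _
  let O : X'.left.Opens := ⟨(N ∪ C₁ ∪ C₂)ᶜ, ((hN.union hC₁).union hC₂).isOpen_compl⟩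
  have hOs : Stable p (O : Set X'.left) := ((hNs.union hCs₁).union hCs₂).compl
  have hinj₁ : Function.Injective ι₁.left := ι₁.left.isClosedEmbedding.injective
  have hinj₂ : Function.Injective ι₂.left := ι₂.left.isClosedEmbedding.injective
  have m1 : ∀ z₁ : X₁.left, ι₁.left z₁ ∈ O ↔ ρ₁.left z₁ ∈ V₁ := by
    intro z₁
    constructor
    · intro h
      by_contra hcon
      exact h (Or.inl (Or.inr ⟨z₁, hcon, rfl⟩))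
    · rintro h ((h' | ⟨z, hz, hz'⟩) | ⟨z, hz, hz'⟩)
      · have h3 : z₁ ∈ ρ₁.left ⁻¹ᵁ W₁ := hVW₁ h
        rw [e1] at h3
        exact h3 h'
      · rw [hinj₁ hz'] at hz
        exact hz h
      · exact hz ((key z₁ z hz'.symm).1 h)
  have m2 : ∀ z₂ : X₂.left, ι₂.left z₂ ∈ O ↔ ρ₂.left z₂ ∈ V₂ := by
    intro z₂
    constructor
    · intro h
      by_contra hcon
      exact h (Or.inr ⟨z₂, hcon, rfl⟩)
    · rintro h ((h' | ⟨z, hz, hz'⟩) | ⟨z, hz, hz'⟩)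
      · have h3 : z₂ ∈ ρ₂.left ⁻¹ᵁ W₂ := hVW₂ h
        rw [e2] at h3
        exact h3 h'
      · exact hz ((key z z₂ hz').2 h)
      · rw [hinj₂ hz'] at hz
        exact hz h
  refine ⟨O, (m1 x₁).2 hxV, hOs, ?_⟩
  have a1 : IsAffineOpen (ι₁.left ⁻¹ᵁ O) := by
    have : ι₁.left ⁻¹ᵁ O = ρ₁.left ⁻¹ᵁ V₁ := by
      ext z
      exact m1 z
    rw [this]
    exact hV₁.preimage _
  have a2 : IsAffineOpen (ι₂.left ⁻¹ᵁ O) := by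
    have : ι₂.left ⁻¹ᵁ O = ρ₂.left ⁻¹ᵁ V₂ := by
      ext z
      exact m2 z
    rw [this]
    exact hV₂.preimage _
  have : IsAffine (ι₁.left ⁻¹ᵁ O : Scheme.{u}) := a1
  have : IsAffine (ι₂.left ⁻¹ᵁ O : Scheme.{u}) := a2
  refine isAffine_of_union (ι₁.left ∣_ O) (ι₂.left ∣_ O) fun z => ?_
  have hz : z.1 ∉ N := fun h => z.2 (Or.inl (Or.inl h))
  rcases hcov z.1 hz with ⟨y, hy⟩ | ⟨y, hy⟩
  · refine Or.inl ⟨⟨y, ?_⟩, ?_⟩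
    · change ι₁.left y ∈ O
      rw [hy]; exact z.2
    · apply Subtype.ext
      exact (morphismRestrict_base_coe _ _ _).trans hy
  · refine Or.inr ⟨⟨y, ?_⟩, ?_⟩
    · change ι₂.left y ∈ O
      rw [hy]; exact z.2
    · apply Subtype.ext
      exact (morphismRestrict_base_coe _ _ _).trans hy

/-- **Representability from two closed pieces.** -/
theorem exists_rep_of_pinch (hG : IsFpqcSh G) (hc : FqC c) (haff : IsAffine Z'.left)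
    (sq : IsPullback p ((yon S).map q) f ((yon S).map c))
    (H : ∀ x : X'.left, ∃ (G₁ G₂ G₁₂ X₁ X₂ : Over S) (j₁ : (yon S).obj G₁ ⟶ G) (j₂ : (yon S).obj G₂ ⟶ G)
      (k₁ : G₁₂ ⟶ G₁) (k₂ : G₁₂ ⟶ G₂) (ρ₁ : X₁ ⟶ G₁) (ι₁ : X₁ ⟶ X') (ρ₂ : X₂ ⟶ G₂) (ι₂ : X₂ ⟶ X')
      (N : Set X'.left),
      IsPullback ((yon S).map k₁) ((yon S).map k₂) j₁ j₂ ∧ IsClosedImmersion k₁.left ∧
      IsClosedImmersion k₂.left ∧ IsPullback ((yon S).map ρ₁) ((yon S).map ι₁) j₁ p ∧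
      IsPullback ((yon S).map ρ₂) ((yon S).map ι₂) j₂ p ∧ IsClosedImmersion ι₁.left ∧
      IsClosedImmersion ι₂.left ∧ IsAffineHom ρ₁.left ∧ IsAffineHom ρ₂.left ∧ IsClosed N ∧ Stable p N ∧
      (∀ x, x ∉ N → x ∈ Set.range ι₁.left ∨ x ∈ Set.range ι₂.left) ∧ x ∉ N) :
    ∃ (X : Over S), Nonempty ((yon S).obj X ≅ G) := by
  refine exists_rep_of_stable_cover hG hc sq fun x => ?_
  obtain ⟨G₁, G₂, G₁₂, X₁, X₂, j₁, j₂, k₁, k₂, ρ₁, ι₁, ρ₂, ι₂, N, h12, hk₁, hk₂, sq₁, sq₂, hι₁, hι₂, hρ₁, hρ₂, hN,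
    hNs, hcov, hx⟩ := H x
  have : ∃ O : X'.left.Opens, x ∈ O ∧ Stable p (O : Set X'.left) ∧ IsAffineOpen O := by
    rcases hcov x hx with h | h
    · exact exists_stable_affine hc sq h12 sq₁ sq₂ hN hNs hcov hx h
    · exact exists_stable_affine hc sq h12.flip sq₂ sq₁ hN hNs (fun x hx => (hcov x hx).symm) hx h
  obtain ⟨O, h1, h2, h3⟩ := this
  refine ⟨O, h1, h2, ?_⟩
  have : IsAffine (O : Scheme.{u}) := h3
  have h4 : IsAffineHom (O.ι ≫ q.left) := inferInstance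
  refine ⟨inferInstance, fun V hV => ?_⟩
  have h5 : IsAffine ((O.ι ≫ q.left) ⁻¹ᵁ V : Scheme.{u}) := h4.1 V hV
  infer_instance

end K651.Pinch
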