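import Groth.Agent.AlgSp.K628.Core
import Groth.Agent.AlgSp.K610.ZarGlue

/-!
# Fpqc descent of representability with a stable open cover

* `IsFpqcSh G` : elementary form of the fpqc sheaf property.
* `isFpqcSh_of_isSheaf`, `IsFpqcSh.of_isPullback`.
* `exists_rep_of_stable_cover` : let `f : G ⟶ h_Z` with `G` an fpqc sheaf and `c : Z' ⟶ Z` flat surjective
  quasi-compact such that `G ×_Z Z'` is a scheme `X'`; if `X'` is covered by opens, stable under the
  equivalence relation given by `X' ⟶ G` and quasi-affine over `Z'`, then `G` is a scheme.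
-/

set_option autoImplicit false
universe u

open CategoryTheory CategoryTheory.Limits AlgebraicGeometry Opposite

namespace K651.FpqcSh

open AlgSp K613.Basic K613.Cover K628.Fqc K628.Core K610.Base K610.Sub K610.ZarGlue

variable {S : Scheme.{u}} {F G H P : Sp S}

/-- The elementary form of the fpqc sheaf property. -/
def IsFpqcSh (G : Sp S) : Prop :=
  ∀ {T T' : Over S} (d : T' ⟶ T), FqC d → ∀ x : (yon S).obj T' ⟶ G,
    (∀ (R : Over S) (a b : R ⟶ T'), a ≫ d = b ≫ d → (yon S).map a ≫ x = (yon S).map b ≫ x) →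
      ∃! y : (yon S).obj T ⟶ G, (yon S).map d ≫ y = x

theorem isFpqcSh_of_isSheaf (h : Presheaf.IsSheaf (Scheme.fpqcTopology.over S) G.obj) : IsFpqcSh G := by
  intro T T' d hd x hx
  have := hd.flat; have := hd.qc; have := hd.surj
  have h1 : Presieve.IsSheafFor G.obj (Presieve.ofArrows (fun _ : PUnit.{u + 1} => T') (fun _ => d)) := by
    have h2 := (isSheaf_iff_isSheaf_of_type _ _).1 h
    rw [Presieve.isSheafFor_iff_generate]
    apply h2
    change Sieve.ofArrows (fun _ : PUnit.{u + 1} => T') (fun _ => d) ∈ (Scheme.fpqcTopology.over S) T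
    rw [GrothendieckTopology.mem_over_iff, Sieve.overEquiv_ofArrows, Sieve.ofArrows]
    refine Precoverage.generate_mem_toGrothendieck ?_
    rw [Presieve.ofArrows_pUnit]
    exact Scheme.Hom.singleton_mem_fpqcPrecoverage d.left
  rw [Presieve.isSheafFor_arrows_iff] at h1
  obtain ⟨y, hy, hy'⟩ := h1 (fun i => (J S).uliftYonedaEquiv x) (fun i j R a b hab => by
    rw [GrothendieckTopology.uliftYonedaEquiv_naturality, GrothendieckTopology.uliftYonedaEquiv_naturality]
    exact congrArg _ (hx R a b hab))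
  refine ⟨(J S).uliftYonedaEquiv.symm y, ?_, fun z hz => ?_⟩
  · dsimp only
    rw [GrothendieckTopology.uliftYonedaEquiv_symm_naturality_left, hy PUnit.unit, Equiv.symm_apply_apply]
  · rw [Equiv.eq_symm_apply]
    refine hy' _ fun i => ?_
    rw [GrothendieckTopology.uliftYonedaEquiv_naturality]
    exact congrArg _ hz

theorem IsFpqcSh.ext (h : IsFpqcSh G) {T T' : Over S} {d : T' ⟶ T} (hd : FqC d) {x y : (yon S).obj T ⟶ G}
    (hxy : (yon S).map d ≫ x = (yon S).map d ≫ y) : x = y := by
  obtain ⟨z, -, hz⟩ := h d hd ((yon S).map d ≫ y) (fun R a b hab => by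
    rw [← Category.assoc, ← Category.assoc, ← Functor.map_comp, ← Functor.map_comp, hab])
  exact (hz x hxy).trans (hz y rfl).symm

theorem isFpqcSh_yon (V : Over S) : IsFpqcSh ((yon S).obj V) := by
  intro T T' d hd x hx
  obtain ⟨x, rfl⟩ := (yon S).map_surjective x
  obtain ⟨y, hy, hy'⟩ := hd.desc x (fun R a b hab => by
    apply (yon S).map_injective
    rw [Functor.map_comp, Functor.map_comp]
    exact hx R a b hab)
  refine ⟨(yon S).map y, by dsimp only; rw [← Functor.map_comp, hy], fun z hz => ?_⟩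
  obtain ⟨z, rfl⟩ := (yon S).map_surjective z
  rw [hy' z ((yon S).map_injective (by rw [Functor.map_comp]; exact hz))]

theorem IsFpqcSh.of_isPullback {f : F ⟶ G} {g : H ⟶ G} {fst : P ⟶ F} {snd : P ⟶ H}
    (sq : IsPullback fst snd f g) (hF : IsFpqcSh F) (hH : IsFpqcSh H) (hG : IsFpqcSh G) : IsFpqcSh P := by
  intro T T' d hd x hx
  obtain ⟨a, ha, ha'⟩ := hF d hd (x ≫ fst) (fun R a b hab => by
    rw [← Category.assoc, hx R a b hab, Category.assoc])
  obtain ⟨b, hb, hb'⟩ := hH d hd (x ≫ snd) (fun R a b hab => by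
    rw [← Category.assoc, hx R a b hab, Category.assoc])
  have hw : a ≫ f = b ≫ g := by
    apply hG.ext hd
    rw [← Category.assoc, ha, ← Category.assoc, hb, Category.assoc, Category.assoc, sq.w]
  refine ⟨sq.lift a b hw, ?_, fun z hz => ?_⟩
  · apply sq.hom_ext
    · rw [Category.assoc, sq.lift_fst, ha]
    · rw [Category.assoc, sq.lift_snd, hb]
  · apply sq.hom_ext
    · rw [sq.lift_fst]
      exact ha' _ (by dsimp only; rw [← Category.assoc, hz])
    · rw [sq.lift_snd]
      exact hb' _ (by dsimp only; rw [← Category.assoc, hz])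

theorem IsFpqcSh.of_iso (e : F ≅ G) (hG : IsFpqcSh G) : IsFpqcSh F := by
  intro T T' d hd x hx
  obtain ⟨y, hy, hy'⟩ := hG d hd (x ≫ e.hom) (fun R a b hab => by
    rw [← Category.assoc, hx R a b hab, Category.assoc])
  refine ⟨y ≫ e.inv, by dsimp only; rw [← Category.assoc, hy, Category.assoc, e.hom_inv_id, Category.comp_id],
    fun z hz => ?_⟩
  rw [← cancel_mono e.hom, Category.assoc, e.inv_hom_id, Category.comp_id]
  exact hy' _ (by dsimp only; rw [← Category.assoc, hz])

theorem IsFpqcSh.prod (hF : IsFpqcSh F) (hG : IsFpqcSh G) : IsFpqcSh (F ⨯ G) := by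
  intro T T' d hd x hx
  obtain ⟨a, ha, ha'⟩ := hF d hd (x ≫ prod.fst) (fun R a b hab => by
    rw [← Category.assoc, hx R a b hab, Category.assoc])
  obtain ⟨b, hb, hb'⟩ := hG d hd (x ≫ prod.snd) (fun R a b hab => by
    rw [← Category.assoc, hx R a b hab, Category.assoc])
  refine ⟨prod.lift a b, ?_, fun z hz => ?_⟩
  · apply prod.hom_ext
    · rw [Category.assoc, prod.lift_fst, ha]
    · rw [Category.assoc, prod.lift_snd, hb]
  · apply prod.hom_ext
    · rw [prod.lift_fst]
      exact ha' _ (by dsimp only; rw [← Category.assoc, hz])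
    · rw [prod.lift_snd]
      exact hb' _ (by dsimp only; rw [← Category.assoc, hz])

/-- the open subscheme as a scheme over `S` -/
noncomputable def opnObj {T : Over S} (O : T.left.Opens) : Over S := Over.mk (O.ι ≫ T.hom)

/-- the inclusion of an open subscheme -/
noncomputable def opnInc {T : Over S} (O : T.left.Opens) : opnObj O ⟶ T := Over.homMk O.ι rfl

theorem opnInc_left {T : Over S} (O : T.left.Opens) : (opnInc O).left = O.ι := rfl

instance {T : Over S} (O : T.left.Opens) : Mono (opnInc O) := by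
  have hm : Mono ((Over.forget S).map (opnInc O)) := inferInstanceAs (Mono O.ι)
  exact (Over.forget S).mono_of_mono_map hm

instance {T : Over S} (O : T.left.Opens) : IsOpenImmersion (opnInc O).left := inferInstanceAs (IsOpenImmersion O.ι)

theorem range_opnInc {T : Over S} (O : T.left.Opens) : Set.range (opnInc O).left = (O : Set T.left) := by
  change Set.range O.ι = _
  simp

theorem opnInc_iff {T : Over S} (O : T.left.Opens) {R : Over S} (r : R ⟶ T) :
    (∃ r' : R ⟶ opnObj O, r' ≫ opnInc O = r) ↔ Set.range r.left ⊆ O := by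
  rw [← range_opnInc O]
  constructor
  · rintro ⟨r', rfl⟩
    rintro _ ⟨x, rfl⟩
    rw [Over.comp_left, Scheme.Hom.comp_apply]
    exact ⟨_, rfl⟩
  · intro h
    have h2 : IsOpenImmersion.lift (opnInc O).left r.left h ≫ (opnInc O).left = r.left :=
      IsOpenImmersion.lift_fac _ _ _
    refine ⟨Over.homMk (IsOpenImmersion.lift (opnInc O).left r.left h) ?_, ?_⟩
    · rw [← Over.w (opnInc O), ← Category.assoc, h2, Over.w]
    · ext1
      exact h2

section cover

variable {Z Z' X' : Over S} {f : G ⟶ (yon S).obj Z} {c : Z' ⟶ Z} {p : (yon S).obj X' ⟶ G} {q : X' ⟶ Z'}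

/-- An open of `X'` stable under the equivalence relation of `X' ⟶ G`. -/
def Stable (p : (yon S).obj X' ⟶ G) (O : Set X'.left) : Prop :=
  ∀ (R : Over S) (a b : R ⟶ X'), (yon S).map a ≫ p = (yon S).map b ≫ p → ∀ r : R.left,
    a.left r ∈ O → b.left r ∈ O

theorem Stable.compl {O : Set X'.left} (h : Stable p O) : Stable p Oᶜ :=
  fun R a b hab r hr hr' => hr (h R b a hab.symm r hr')

theorem Stable.union {O O' : Set X'.left} (h : Stable p O) (h' : Stable p O') : Stable p (O ∪ O') :=
  fun R a b hab r hr => hr.imp (h R a b hab r) (h' R a b hab r)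

theorem Stable.inter {O O' : Set X'.left} (h : Stable p O) (h' : Stable p O') : Stable p (O ∩ O') :=
  fun R a b hab r hr => ⟨h R a b hab r hr.1, h' R a b hab r hr.2⟩

/-- lifts of a section along the covering -/
theorem exists_cover (hc : FqC c) (sq : IsPullback p ((yon S).map q) f ((yon S).map c)) {T : Over S}
    (g : (yon S).obj T ⟶ G) :
    ∃ (T' : Over S) (a : T' ⟶ T) (v₀ : T' ⟶ X'), FqC a ∧ (yon S).map v₀ ≫ p = (yon S).map a ≫ g ∧
      ∀ (R : Over S) (ρ : R ⟶ T) (v : R ⟶ X'), (yon S).map v ≫ p = (yon S).map ρ ≫ g →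
        ∃ k : R ⟶ T', k ≫ a = ρ ∧ k ≫ v₀ = v := by
  obtain ⟨τ, hτ⟩ := (yon S).map_surjective (g ≫ f)
  have ha : FqC (pullback.fst τ c) := hc.pullback_fst τ
  have hw : ((yon S).map (pullback.fst τ c) ≫ g) ≫ f = (yon S).map (pullback.snd τ c) ≫ (yon S).map c := by
    rw [Category.assoc, ← hτ, ← Functor.map_comp, ← Functor.map_comp, pullback.condition]
  obtain ⟨v₀, hv₀⟩ := (yon S).map_surjective (sq.lift _ _ hw)
  have hv1 : (yon S).map v₀ ≫ p = (yon S).map (pullback.fst τ c) ≫ g := by rw [hv₀, sq.lift_fst]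
  have hv2 : v₀ ≫ q = pullback.snd τ c := by
    apply (yon S).map_injective
    rw [Functor.map_comp, hv₀, sq.lift_snd]
  refine ⟨_, pullback.fst τ c, v₀, ha, hv1, fun R ρ v hv => ?_⟩
  have h1 : ρ ≫ τ = (v ≫ q) ≫ c := by
    apply (yon S).map_injective
    rw [Functor.map_comp, hτ, ← Category.assoc, ← hv, Category.assoc, sq.w, Functor.map_comp, Functor.map_comp,
      Category.assoc]
  refine ⟨pullback.lift ρ (v ≫ q) h1, pullback.lift_fst _ _ _, ?_⟩
  apply (yon S).map_injective
  apply sq.hom_ext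
  · rw [Functor.map_comp, Category.assoc, hv1, ← Category.assoc, ← Functor.map_comp, pullback.lift_fst, hv]
  · rw [← Functor.map_comp, ← Functor.map_comp, Category.assoc, hv2, pullback.lift_snd]

/-- The subsheaf of `G` attached to a stable open. -/
noncomputable def opn (p : (yon S).obj X' ⟶ G) (O : Set X'.left) : LocPred G where
  pr T g := ∀ (R : Over S) (ρ : R ⟶ T) (v : R ⟶ X'), (yon S).map v ≫ p = (yon S).map ρ ≫ g →
    ∀ r : R.left, v.left r ∈ O
  map {T T'} φ g h := fun R ρ v hv => h R (ρ ≫ φ) v (by rw [hv, Functor.map_comp, Category.assoc])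
  loc {T} g h := by
    intro R ρ v hv r
    obtain ⟨Y, φ, -, -, ⟨y, hy⟩, hφ⟩ := h (ρ.left r)
    obtain ⟨z, hz, -⟩ := Scheme.exists_preimage_of_isPullback
      ((IsPullback.of_hasPullback ρ φ).map (Over.forget S)) r y hy.symm
    have hz : (pullback.fst ρ φ).left z = r := hz
    rw [← hz]
    have h1 := hφ _ (pullback.snd ρ φ) (pullback.fst ρ φ ≫ v) (by
      rw [Functor.map_comp, Category.assoc, hv, ← Category.assoc, ← Functor.map_comp, pullback.condition,
        Functor.map_comp, Category.assoc]) z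
    exact h1

theorem opn_iff (hc : FqC c) (sq : IsPullback p ((yon S).map q) f ((yon S).map c)) (O : X'.left.Opens)
    (hO : Stable p (O : Set X'.left)) {T : Over S} (g : (yon S).obj T ⟶ G) :
    ∃ OT : T.left.Opens, ∀ (R : Over S) (r : R ⟶ T), (opn p (O : Set X'.left)).pr R ((yon S).map r ≫ g) ↔
      Set.range r.left ⊆ OT := by
  obtain ⟨T', a, v₀, ha, hv, hu⟩ := exists_cover hc sq g
  have := ha.flat; have := ha.qc; have := ha.surj
  -- the image of the preimage of `O` is open
  let OT : Set T.left := a.left '' (v₀.left ⁻¹' O)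
  have hsat : a.left ⁻¹' OT = v₀.left ⁻¹' O := by
    apply Set.Subset.antisymm
    · rintro x ⟨y, hy, hxy⟩
      obtain ⟨z, hz1, hz2⟩ := Scheme.exists_preimage_of_isPullback
        ((IsPullback.of_hasPullback a a).map (Over.forget S)) y x hxy
      have hz1 : (pullback.fst a a).left z = y := hz1
      have hz2 : (pullback.snd a a).left z = x := hz2
      have h1 := hO _ (pullback.fst a a ≫ v₀) (pullback.snd a a ≫ v₀) (by
        rw [Functor.map_comp, Functor.map_comp, Category.assoc, Category.assoc, hv, ← Category.assoc,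
          ← Category.assoc, ← Functor.map_comp, ← Functor.map_comp, pullback.condition]) z (by
        change v₀.left ((pullback.fst a a).left z) ∈ _
        rw [hz1]
        exact hy)
      change v₀.left ((pullback.snd a a).left z) ∈ _ at h1
      rwa [hz2] at h1
    · exact fun x hx => ⟨x, hx, rfl⟩
  have hopen : IsOpen OT := by
    rw [← (Flat.isQuotientMap_of_surjective a.left).isOpen_preimage]
    rw [hsat]
    exact O.2.preimage v₀.left.continuous
  refine ⟨⟨OT, hopen⟩, fun R r => ⟨fun h => ?_, fun h => ?_⟩⟩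
  · rintro _ ⟨t, rfl⟩
    have ht : r.left t ∈ Set.range a.left := (a.left.surjective _)
    obtain ⟨t', ht'⟩ := ht
    obtain ⟨z, hz1, hz2⟩ := Scheme.exists_preimage_of_isPullback
        ((IsPullback.of_hasPullback r a).map (Over.forget S)) t t' ht'.symm
    have hz1 : (pullback.fst r a).left z = t := hz1
    have hz2 : (pullback.snd r a).left z = t' := hz2
    have h1 := h _ (pullback.fst r a) (pullback.snd r a ≫ v₀) (by
      rw [Functor.map_comp, Category.assoc, hv, ← Category.assoc, ← Category.assoc, ← Functor.map_comp,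
        ← Functor.map_comp, pullback.condition]) z
    change v₀.left ((pullback.snd r a).left z) ∈ _ at h1
    rw [hz2] at h1
    exact ⟨t', h1, ht'⟩
  · intro R' ρ v hv' t
    obtain ⟨k, hk1, hk2⟩ := hu R' (ρ ≫ r) v (by rw [hv', Functor.map_comp, Category.assoc])
    rw [← hk2]
    change k.left t ∈ v₀.left ⁻¹' O
    rw [← hsat]
    change a.left (k.left t) ∈ OT
    have h1 : a.left (k.left t) = r.left (ρ.left t) := by
      change (k ≫ a).left t = _
      rw [hk1]
      rfl
    rw [h1]
    exact h ⟨_, rfl⟩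

theorem repWith_opn (hc : FqC c) (sq : IsPullback p ((yon S).map q) f ((yon S).map c)) (O : X'.left.Opens)
    (hO : Stable p (O : Set X'.left)) : RepWith @IsOpenImmersion (opn p (O : Set X'.left)).ι := by
  apply LocPred.repWith
  intro T g
  obtain ⟨OT, h⟩ := opn_iff hc sq O hO g
  obtain ⟨V, i, h1, h2, h3⟩ := exists_open (T := T) OT
  exact ⟨V, i, h1, h2, fun R r => by rw [h3, h]⟩

theorem opn_pr_iff (O : Set X'.left) (hO : Stable p O) {R : Over S} (r : R ⟶ X') :
    (opn p O).pr R ((yon S).map r ≫ p) ↔ Set.range r.left ⊆ O := by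
  constructor
  · rintro h _ ⟨t, rfl⟩
    exact h R (𝟙 R) r (by rw [(yon S).map_id, Category.id_comp]) t
  · intro h R' ρ v hv t
    exact hO R' (ρ ≫ r) v (by rw [hv, Functor.map_comp, Category.assoc]) t (h ⟨ρ.left t, rfl⟩)

theorem opn_pr_of_cover (O : Set X'.left) (hO : Stable p O) {T T' : Over S} (a : T' ⟶ T)
    (ha : Surjective a.left) (v : T' ⟶ X') (g : (yon S).obj T ⟶ G) (hv : (yon S).map v ≫ p = (yon S).map a ≫ g)
    (hvO : Set.range v.left ⊆ O) : (opn p O).pr T g := by
  intro R ρ w hw t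
  obtain ⟨t', ht'⟩ := a.left.surjective (ρ.left t)
  obtain ⟨z, hz1, hz2⟩ := Scheme.exists_preimage_of_isPullback
        ((IsPullback.of_hasPullback ρ a).map (Over.forget S)) t t' ht'.symm
  have hz1 : (pullback.fst ρ a).left z = t := hz1
  have hz2 : (pullback.snd ρ a).left z = t' := hz2
  have h1 := hO _ (pullback.snd ρ a ≫ v) (pullback.fst ρ a ≫ w) (by
    rw [Functor.map_comp, Functor.map_comp, Category.assoc, Category.assoc, hv, hw, ← Category.assoc,
      ← Category.assoc, ← Functor.map_comp, ← Functor.map_comp, pullback.condition]) z (by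
      change v.left ((pullback.snd ρ a).left z) ∈ O
      exact hvO ⟨_, rfl⟩)
  change w.left ((pullback.fst ρ a).left z) ∈ O at h1
  rwa [hz1] at h1

/-- The open subsheaf attached to a stable open quasi-affine over `Z'` is representable. -/
theorem exists_rep_opn (hG : IsFpqcSh G) (hc : FqC c)
    (sq : IsPullback p ((yon S).map q) f ((yon S).map c)) (O : X'.left.Opens)
    (hO : Stable p (O : Set X'.left)) (hQ : Mor2.IsQuasiAffine (O.ι ≫ q.left)) :
    ∃ (U : Over S), Nonempty ((yon S).obj U ≅ (opn p (O : Set X'.left)).sub) := by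
  let Q := opn p (O : Set X'.left)
  let i : opnObj O ⟶ X' := opnInc O
  obtain ⟨fst, hfst⟩ := Q.isPullback p i (fun R r => by rw [opnInc_iff, opn_pr_iff _ hO])
  have sq1 : IsPullback fst ((yon S).map (i ≫ q)) (Q.ι ≫ f) ((yon S).map c) := by
    rw [Functor.map_comp]
    exact hfst.paste_vert sq
  have hQ' : Mor2.IsQuasiAffine (i ≫ q).left := hQ
  obtain ⟨U, q', r, hpb, hr⟩ := exists_descent hc sq1 hQ'
  obtain ⟨m, hm, hm'⟩ := exists_map hc sq1 hpb (fun T v w h => (hr T v w).1 h)
  have hr' : FqC r := hc.of_isPullback hpb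
  have hsq2 := isPullback_map sq1 hpb hm hm'
  -- the inverse
  obtain ⟨y, hy, -⟩ := hG r hr' (fst ≫ Q.ι) (fun R a b hab => by
    rw [← Category.assoc, (hr R a b).2 hab, Category.assoc])
  have hyQ : Q.pr U y := by
    refine opn_pr_of_cover _ hO r hr'.surj i y ?_ ?_
    · rw [hy, hfst.w]
    · exact (opnInc_iff O i).1 ⟨𝟙 _, by rw [Category.id_comp]⟩
  obtain ⟨y', hy'⟩ := (Q.exists_lift_iff y).2 hyQ
  have hry : (yon S).map r ≫ y' = fst := by
    rw [← cancel_mono Q.ι, Category.assoc, hy', hy]
  have h1 : y' ≫ m = 𝟙 _ := by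
    obtain ⟨z, hz⟩ := (yon S).map_surjective (y' ≫ m)
    have := hr'.epi
    have hz' : z = 𝟙 U := by
      rw [← cancel_epi r, Category.comp_id]
      apply (yon S).map_injective
      rw [Functor.map_comp, hz, ← Category.assoc, hry, hm']
    rw [← hz, hz', (yon S).map_id]
  have h2 : m ≫ y' = 𝟙 _ := by
    refine hom_ext fun T ξ => ?_
    obtain ⟨t, ht⟩ := (yon S).map_surjective (ξ ≫ m)
    have ha : FqC (pullback.fst t r) := hr'.pullback_fst t
    rw [Category.comp_id, ← cancel_mono Q.ι]
    apply hG.ext ha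
    have hw : ((yon S).map (pullback.fst t r) ≫ ξ) ≫ m = (yon S).map (pullback.snd t r) ≫ (yon S).map r := by
      rw [Category.assoc, ← ht, ← Functor.map_comp, ← Functor.map_comp, pullback.condition]
    have h3 := hsq2.lift_fst _ _ hw
    have h4 := hsq2.lift_snd _ _ hw
    rw [Category.comp_id] at h4
    rw [h4] at h3
    calc (yon S).map (pullback.fst t r) ≫ (ξ ≫ m ≫ y') ≫ Q.ι
        = (((yon S).map (pullback.fst t r) ≫ ξ) ≫ m) ≫ y' ≫ Q.ι := by simp only [Category.assoc]
      _ = ((yon S).map (pullback.snd t r) ≫ (yon S).map r ≫ y') ≫ Q.ι := by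
          rw [hw]; simp only [Category.assoc]
      _ = (yon S).map (pullback.fst t r) ≫ ξ ≫ Q.ι := by
          rw [hry, h3, Category.assoc]
  exact ⟨U, ⟨⟨y', m, h1, h2⟩⟩⟩

/-- **Fpqc descent with a stable open cover.** -/
theorem exists_rep_of_stable_cover (hG : IsFpqcSh G) (hc : FqC c)
    (sq : IsPullback p ((yon S).map q) f ((yon S).map c))
    (H : ∀ x : X'.left, ∃ O : X'.left.Opens, x ∈ O ∧ Stable p (O : Set X'.left) ∧
      Mor2.IsQuasiAffine (O.ι ≫ q.left)) :
    ∃ (X : Over S), Nonempty ((yon S).obj X ≅ G) := by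
  choose O hxO hO hQ using H
  choose U e using fun x => exists_rep_opn hG hc sq (O x) (hO x) (hQ x)
  have hrep : ∀ x, RepWith @IsOpenImmersion ((e x).some.hom ≫ (opn p (O x : Set X'.left)).ι) := by
    intro x
    have h1 := repWith_opn hc sq (O x) (hO x)
    exact (MorphismProperty.cancel_left_of_respectsIso (RepWith @IsOpenImmersion) _ _).2 h1
  obtain ⟨H, e', -⟩ := exists_iso_of_openCover (F := G) U _ hrep (by
    intro ξ
    obtain ⟨T, g, t, rfl⟩ := exists_ofPt_eq ξ
    obtain ⟨T', a, v₀, ha, hv, -⟩ := exists_cover hc sq g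
    obtain ⟨t', rfl⟩ := ha.surj.surj t
    have h1 : Points.ofPt g (a.left t') = Points.ofPt p (v₀.left t') := by
      rw [← ofPt_map_comp, ← ofPt_map_comp, hv]
    let x := v₀.left t'
    refine ⟨x, ?_⟩
    rw [h1]
    let i : opnObj (O x) ⟶ X' := opnInc (O x)
    obtain ⟨fst, hfst⟩ := (opn p (O x : Set X'.left)).isPullback p i
      (fun R r => by rw [opnInc_iff, opn_pr_iff _ (hO x)])
    have hx : x ∈ Set.range i.left := by
      rw [range_opnInc]
      exact hxO x
    obtain ⟨v, hv⟩ := hx
    refine ⟨Points.ofPt (fst ≫ (e x).some.inv) v, ?_⟩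
    rw [← ofPt_comp]
    have h2 : (fst ≫ (e x).some.inv) ≫ (e x).some.hom ≫ (opn p (O x : Set X'.left)).ι =
        (yon S).map i ≫ p := by
      rw [Category.assoc, Iso.inv_hom_id_assoc, hfst.w]
    rw [h2, ofPt_map_comp, hv])
  exact ⟨H, ⟨e'⟩⟩

end cover

end K651.FpqcSh
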