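import Groth.Agent.AlgSp.K651.ConfQuot
import Groth.Agent.S0658
import Mathlib.FieldTheory.Galois.Basic
import Mathlib.FieldTheory.Normal.Closure
import Mathlib.FieldTheory.IsSepClosed

/-!
# Lifting field-valued points of an algebraic space to an affine étale chart
-/

set_option autoImplicit false
universe v w u

open CategoryTheory CategoryTheory.Limits AlgebraicGeometry Opposite

namespace K651.FieldLift

open AlgSp K613.Basic K613.Cover K613.Chart K613.Diag K651.Wide K651.Conf K651.ConfQuot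

/-- A point of an étale scheme over a field. -/
theorem exists_point {k : Type u} [Field k] {V : Scheme.{u}} (f : V ⟶ Spec (CommRingCat.of k)) (hf : Etale f) (v : V) :
    ∃ (L : Type u) (_ : Field L) (_ : Algebra k L) (_ : FiniteDimensional k L) (_ : Algebra.IsSeparable k L)
      (j : Spec (CommRingCat.of L) ⟶ V), Mono j ∧ j ≫ f = Spec.map (CommRingCat.ofHom (algebraMap k L)) ∧
        ∀ y, j y = v := by
  obtain ⟨ι, K, i1, i2, i3, i4, e, he⟩ := (Groth.Agent.S0658.result k V f).1 hf
  obtain ⟨i, y, hy⟩ := (sigmaOpenCover (fun i => Spec (CommRingCat.of (K i)))).exists_eq (e.inv v)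
  change Sigma.ι (fun i => Spec (CommRingCat.of (K i))) i y = e.inv v at hy
  refine ⟨K i, i1 i, i2 i, i3 i, i4 i, Sigma.ι (fun i => Spec (CommRingCat.of (K i))) i ≫ e.hom, inferInstance, ?_, ?_⟩
  · rw [Category.assoc]
    exact he i
  · intro y'
    obtain rfl : y' = y := Subsingleton.elim _ _
    rw [Scheme.Hom.comp_apply, hy, ← Scheme.Hom.comp_apply, e.inv_hom_id]
    rfl

/-- Finite Galois extensions containing a finite separable one. -/
theorem exists_galois (k : Type u) [Field k] (L : Type u) [Field L] [Algebra k L] [FiniteDimensional k L]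
    [Algebra.IsSeparable k L] : ∃ (K : Type u) (_ : Field K) (_ : Algebra k K) (_ : FiniteDimensional k K)
      (_ : IsGalois k K), Nonempty (L →ₐ[k] K) := by
  let e : L →ₐ[k] SeparableClosure k := IsSepClosed.lift
  let := e.toRingHom.toAlgebra
  have : IsScalarTower k L (SeparableClosure k) := IsScalarTower.of_algebraMap_eq fun x => (e.commutes x).symm
  refine ⟨IntermediateField.normalClosure k L (SeparableClosure k), inferInstance, inferInstance, inferInstance,
    inferInstance, ⟨?_⟩⟩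
  refine e.codRestrict (IntermediateField.normalClosure k L (SeparableClosure k)).toSubalgebra fun x => ?_
  exact e.fieldRange_le_normalClosure ⟨x, rfl⟩

variable {S : Scheme.{u}}

/-- a field as an object over `S` -/
noncomputable abbrev pt (k : Type u) [Field k] (str : Spec (CommRingCat.of k) ⟶ S) (L : Type u) [Field L] [Algebra k L] : Over S :=
  Over.mk (Spec.map (CommRingCat.ofHom (algebraMap k L)) ≫ str)

variable {k : Type u} [Field k] (str : Spec (CommRingCat.of k) ⟶ S)

/-- the structure map -/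
noncomputable abbrev ptc (L : Type u) [Field L] [Algebra k L] : pt k str L ⟶ Over.mk str :=
  Over.homMk (Spec.map (CommRingCat.ofHom (algebraMap k L))) rfl

/-- maps induced by algebra maps -/
noncomputable abbrev ptm {L K : Type u} [Field L] [Algebra k L] [Field K] [Algebra k K] (i : L →ₐ[k] K) : pt k str K ⟶ pt k str L :=
  Over.homMk (Spec.map (CommRingCat.ofHom i.toRingHom)) (by
    dsimp only [Over.mk_hom]
    rw [← Category.assoc, ← Spec.map_comp, ← CommRingCat.ofHom_comp]
    congr 3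
    exact i.comp_algebraMap)

theorem ptm_comp {L K M : Type u} [Field L] [Algebra k L] [Field K] [Algebra k K] [Field M] [Algebra k M]
    (i : L →ₐ[k] K) (j : K →ₐ[k] M) : ptm str j ≫ ptm str i = ptm str (j.comp i) := by
  ext1
  change Spec.map _ ≫ Spec.map _ = Spec.map _
  rw [← Spec.map_comp, ← CommRingCat.ofHom_comp]
  rfl

theorem ptm_ptc {L K : Type u} [Field L] [Algebra k L] [Field K] [Algebra k K] (i : L →ₐ[k] K) :
    ptm str i ≫ ptc str L = ptc str K := by
  ext1
  change Spec.map _ ≫ Spec.map _ = Spec.map _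
  rw [← Spec.map_comp, ← CommRingCat.ofHom_comp]
  congr 2
  exact i.comp_algebraMap

theorem fpC_ptc (K : Type u) [Field K] [Algebra k K] [FiniteDimensional k K] : FpC (ptc str K) := by
  have h1 : Flat (Spec.map (CommRingCat.ofHom (algebraMap k K))) := by
    rw [HasRingHomProperty.Spec_iff (P := @Flat)]
    change (algebraMap k K).Flat
    rw [RingHom.flat_algebraMap_iff]
    infer_instance
  have h2 : LocallyOfFinitePresentation (Spec.map (CommRingCat.ofHom (algebraMap k K))) := by
    rw [HasRingHomProperty.Spec_iff (P := @LocallyOfFinitePresentation)]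
    change (algebraMap k K).FinitePresentation
    rw [RingHom.finitePresentation_algebraMap]
    exact (Algebra.FinitePresentation.of_finiteType).1 inferInstance
  have h3 : Surjective (Spec.map (CommRingCat.ofHom (algebraMap k K))) :=
    ⟨fun y => ⟨default, Subsingleton.elim _ _⟩⟩
  exact ⟨h1, h2, h3⟩

theorem flat_to_field {K : Type u} [Field K] {R : Scheme.{u}} (f : R ⟶ Spec (CommRingCat.of K)) : Flat f := by
  rw [IsZariskiLocalAtSource.iff_of_openCover (P := @Flat) R.affineCover]
  intro i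
  obtain ⟨φ, hφ⟩ := Spec.map_surjective (R.affineCover.f i ≫ f)
  refine (?_ : Flat (Spec.map φ) → _) ?_
  · intro h
    rwa [hφ] at h
  rw [Flat.SpecMap_iff]
  algebraize [φ.hom]
  change Module.Flat K _
  infer_instance

/-- Descent of a point invariant under the Galois group. -/
theorem exists_descend {K : Type u} [Field K] [Algebra k K] [FiniteDimensional k K] [IsGalois k K] {Y : Over S}
    (ζ : pt k str K ⟶ Y) (hζ : ∀ τ : K ≃ₐ[k] K, ptm str (τ : K →ₐ[k] K) ≫ ζ = ζ) :
    ∃ (Z : Over S) (j : Z ⟶ Y) (g : Over.mk str ⟶ Z), IsAffine Z.left ∧ IsOpenImmersion j.left ∧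
      ptc str K ≫ g ≫ j = ζ := by
  let y₀ : Y.left := ζ.left (default : Spec (CommRingCat.of K))
  obtain ⟨W, hW, hyW⟩ : ∃ W : Y.left.Opens, IsAffineOpen W ∧ y₀ ∈ W := by
    obtain ⟨_, ⟨W, hW, rfl⟩, hyW, -⟩ :=
      Y.left.isBasis_affineOpens.exists_subset_of_mem_open (Set.mem_univ y₀) isOpen_univ
    exact ⟨W, hW, hyW⟩
  have hr : Set.range ζ.left ⊆ Set.range W.ι := by
    rintro _ ⟨y, rfl⟩
    rw [Scheme.Opens.range_ι]
    obtain rfl : y = (default : Spec (CommRingCat.of K)) :=
      Subsingleton.elim (α := Spec (CommRingCat.of K)) _ _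
    exact hyW
  have hWa : IsAffine W.toScheme := hW
  let ζ' : Spec (CommRingCat.of K) ⟶ W.toScheme := IsOpenImmersion.lift W.ι ζ.left hr
  have hζ' : ζ' ≫ W.ι = ζ.left := IsOpenImmersion.lift_fac _ _ _
  let φ : Γ(W.toScheme, ⊤) ⟶ CommRingCat.of K := Spec.preimage (ζ' ≫ W.toScheme.isoSpec.hom)
  have hφ : Spec.map φ = ζ' ≫ W.toScheme.isoSpec.hom := Spec.map_preimage _
  have hinv : ∀ (τ : K ≃ₐ[k] K) (a : Γ(W.toScheme, ⊤)), τ (φ.hom a) = φ.hom a := by
    intro τ a
    have h1 : Spec.map (CommRingCat.ofHom (τ : K →ₐ[k] K).toRingHom) ≫ ζ' = ζ' := by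
      rw [← cancel_mono W.ι, Category.assoc, hζ']
      exact congrArg (·.left) (hζ τ)
    have h2 : φ ≫ CommRingCat.ofHom (τ : K →ₐ[k] K).toRingHom = φ := by
      apply Spec.map_injective
      rw [Spec.map_comp, hφ, reassoc_of% h1]
    exact congrArg (fun f => f.hom a) h2
  have hmem : ∀ a, φ.hom a ∈ (⊥ : Subalgebra k K) := by
    intro a
    rw [Algebra.mem_bot]
    exact (IsGalois.mem_range_algebraMap_iff_fixed (φ.hom a)).2 fun τ => hinv τ a
  let ψ : Γ(W.toScheme, ⊤) →+* k :=
    ((Algebra.botEquivOfInjective (algebraMap k K).injective : (⊥ : Subalgebra k K) ≃ₐ[k] k) :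
      (⊥ : Subalgebra k K) →+* k).comp (φ.hom.codRestrict (⊥ : Subalgebra k K) hmem)
  have hψ : (algebraMap k K).comp ψ = φ.hom := by
    ext a
    let z : (⊥ : Subalgebra k K) := ⟨φ.hom a, hmem a⟩
    change algebraMap k K (Algebra.botEquivOfInjective (algebraMap k K).injective z) = z.1
    obtain ⟨w, hw⟩ := (Algebra.botEquivOfInjective (algebraMap k K).injective :
      (⊥ : Subalgebra k K) ≃ₐ[k] k).symm.surjective z
    rw [← hw, AlgEquiv.apply_symm_apply]
    rfl
  let g : Spec (CommRingCat.of k) ⟶ W.toScheme := Spec.map (CommRingCat.ofHom ψ) ≫ W.toScheme.isoSpec.inv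
  have hg : Spec.map (CommRingCat.ofHom (algebraMap k K)) ≫ g = ζ' := by
    change Spec.map _ ≫ Spec.map _ ≫ _ = _
    rw [← Category.assoc, ← Spec.map_comp, ← CommRingCat.ofHom_comp, hψ]
    change Spec.map φ ≫ _ = _
    rw [hφ, Category.assoc, Iso.hom_inv_id, Category.comp_id]
  have hc := fpC_ptc str K
  have hepi : Epi (Spec.map (CommRingCat.ofHom (algebraMap k K))) := by
    have := hc.flat
    have := hc.surj
    exact Flat.epi_of_flat_of_surjective (ptc str K).left
  refine ⟨Over.mk (W.ι ≫ Y.hom), Over.homMk W.ι rfl, Over.homMk g ?_, hWa, inferInstanceAs (IsOpenImmersion W.ι), ?_⟩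
  · change g ≫ W.ι ≫ Y.hom = str
    rw [← cancel_epi (Spec.map (CommRingCat.ofHom (algebraMap k K))), reassoc_of% hg, reassoc_of% hζ']
    exact Over.w ζ
  · ext1
    change Spec.map _ ≫ g ≫ W.ι = ζ.left
    rw [reassoc_of% hg, hζ']

/-- **Key lemma.** A field-valued point of an algebraic space lifts to an affine scheme étale over it. -/
theorem exists_affine_chart_lift {X : Sp S} (hX : IsAlgSpace X) (x : (yon S).obj (Over.mk str) ⟶ X) :
    ∃ (Z : Over S) (p : (yon S).obj Z ⟶ X) (g : Over.mk str ⟶ Z), IsAffine Z.left ∧ RepWith @Etale p ∧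
      (yon S).map g ≫ p = x := by
  obtain ⟨U₀, p₀, hp₀⟩ := exists_ch hX
  obtain ⟨V₀, f₀, s₀, sq₀⟩ := exists_refine hX.diag (𝟙 X) p₀ x
  rw [Category.comp_id] at sq₀
  have hs₀ : EtC s₀ := ⟨hp₀.et.2 _ _ _ sq₀, hp₀.surj.2 _ _ _ sq₀⟩
  obtain ⟨v₀, -⟩ := hs₀.surj.surj (default : Spec (CommRingCat.of k))
  obtain ⟨L, i1, i2, i3, i4, jL, hjm, hjf, hjv⟩ := exists_point s₀.left hs₀.etale v₀
  obtain ⟨K, i5, i6, i7, i8, ⟨i₀⟩⟩ := exists_galois k L
  let u₀ : U₀.left := f₀.left v₀
  obtain ⟨W, hW, huW⟩ : ∃ W : U₀.left.Opens, IsAffineOpen W ∧ u₀ ∈ W := by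
    obtain ⟨_, ⟨W, hW, rfl⟩, hyW, -⟩ :=
      U₀.left.isBasis_affineOpens.exists_subset_of_mem_open (Set.mem_univ u₀) isOpen_univ
    exact ⟨W, hW, hyW⟩
  have hWa : IsAffine W.toScheme := hW
  let U : Over S := Over.mk (W.ι ≫ U₀.hom)
  let jU : U ⟶ U₀ := Over.homMk W.ι rfl
  have hUa : IsAffine U.left := hWa
  let p : (yon S).obj U ⟶ X := (yon S).map jU ≫ p₀
  have hp : RepWith @Etale p := MorphismProperty.comp_mem _ _ _
    ((repWith_yon_map_iff _ _).2 (inferInstanceAs (Etale W.ι))) hp₀.et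
  let j : pt k str L ⟶ V₀ := Over.homMk jL (by
    rw [← Over.w s₀, reassoc_of% hjf]; rfl)
  have hj : Mono j := (Over.forget S).mono_of_mono_map (f := j) hjm
  have hjs : j ≫ s₀ = ptc str L := by
    ext1
    exact hjf
  have hr : Set.range (j ≫ f₀).left ⊆ Set.range W.ι := by
    rintro _ ⟨y, rfl⟩
    rw [Scheme.Opens.range_ι, Over.comp_left, Scheme.Hom.comp_apply]
    change f₀.left (jL y) ∈ W
    rw [hjv]
    exact huW
  let uL : pt k str L ⟶ U := Over.homMk (IsOpenImmersion.lift W.ι (j ≫ f₀).left hr) (by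
    change _ ≫ W.ι ≫ U₀.hom = _
    rw [IsOpenImmersion.lift_fac_assoc, Over.w])
  have huL : uL ≫ jU = j ≫ f₀ := by
    ext1
    exact IsOpenImmersion.lift_fac _ _ _
  let u : (L →ₐ[k] K) → (pt k str K ⟶ U) := fun i => ptm str i ≫ uL
  have hu : ∀ i, (yon S).map (u i) ≫ p = (yon S).map (ptc str K) ≫ x := by
    intro i
    change (yon S).map (ptm str i ≫ uL) ≫ (yon S).map jU ≫ p₀ = _
    rw [← Category.assoc, ← Functor.map_comp, Category.assoc, huL, Functor.map_comp, Functor.map_comp,
      Category.assoc, Category.assoc, sq₀.w, ← Category.assoc ((yon S).map j), ← Functor.map_comp, hjs,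
      ← Category.assoc, ← Functor.map_comp, ptm_ptc]
  have hne : ∀ i i', i ≠ i' → NEq (u i) (u i') := by
    intro i i' hii R r hR hr'
    apply hii
    have h1 : (r ≫ ptm str i) ≫ j = (r ≫ ptm str i') ≫ j := by
      apply (yon S).map_injective
      apply sq₀.hom_ext
      · rw [← Functor.map_comp, ← Functor.map_comp]
        congr 1
        have := congrArg (· ≫ jU) hr'
        simp only [u, Category.assoc, huL] at this
        simpa using this
      · rw [← Functor.map_comp, ← Functor.map_comp]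
        congr 1
        simp only [Category.assoc, hjs, ptm_ptc]
    rw [cancel_mono] at h1
    have h2 : r.left ≫ Spec.map (CommRingCat.ofHom i.toRingHom) =
      r.left ≫ Spec.map (CommRingCat.ofHom i'.toRingHom) := congrArg (·.left) h1
    have h3 : Epi r.left := by
      have h4 : Surjective r.left := by
        obtain ⟨y⟩ := hR
        exact ⟨fun z => ⟨y, Subsingleton.elim (α := Spec (CommRingCat.of K)) _ _⟩⟩
      have h5 : Flat r.left := flat_to_field _
      exact Flat.epi_of_flat_of_surjective _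
    rw [cancel_epi] at h2
    have h6 := Spec.map_injective h2
    ext a
    exact congrArg (fun f => f.hom a) h6
  have hfin : Finite (L →ₐ[k] K) := inferInstance
  have hne' : Nonempty (L →ₐ[k] K) := ⟨i₀⟩
  obtain ⟨E, π, hE, hπ⟩ := exists_conf hX.diag hp inferInstance (L →ₐ[k] K)
  obtain ⟨gK, hgK⟩ := hE.lift _ u (fun i i' => (hu i).trans (hu i').symm) hne
  obtain ⟨Y, q, p', hp', hq, hqp, hqa⟩ := exists_quot hX.diag hE hπ hp
  -- Galois invariance
  have hinv : ∀ τ : K ≃ₐ[k] K, ptm str (τ : K →ₐ[k] K) ≫ gK ≫ q = gK ≫ q := by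
    intro τ
    let σ : Equiv.Perm (L →ₐ[k] K) := AlgEquiv.arrowCongr AlgEquiv.refl τ
    have hσ : ∀ i, σ i = (τ : K →ₐ[k] K).comp i := by
      intro i
      ext a
      rfl
    have h1 : ptm str (τ : K →ₐ[k] K) ≫ gK = gK ≫ act hE σ := by
      apply hE.ext
      intro i
      rw [Category.assoc, hgK, Category.assoc, act_π, hgK]
      change ptm str (τ : K →ₐ[k] K) ≫ ptm str i ≫ uL = ptm str (σ i) ≫ uL
      rw [← Category.assoc, ptm_comp, hσ]
    rw [← Category.assoc, h1, Category.assoc, hqa]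
  obtain ⟨Z, jZ, g, hZ, hjZ, hg⟩ := exists_descend str (gK ≫ q) hinv
  refine ⟨Z, (yon S).map jZ ≫ p', g, hZ, MorphismProperty.comp_mem _ _ _
    ((repWith_yon_map_iff _ _).2 (inferInstanceAs (Etale jZ.left))) hp', ?_⟩
  have hepi := (fpC_ptc str K).epi
  rw [← cancel_epi ((yon S).map (ptc str K)), ← hu i₀, ← hgK i₀, Functor.map_comp, Category.assoc, ← hqp,
    ← Category.assoc, ← Category.assoc, ← Functor.map_comp, ← Functor.map_comp, ← Category.assoc,
    ← Functor.map_comp, Category.assoc, hg]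

end K651.FieldLift
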