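import Groth.Agent.AlgSp.K651.Wide

/-!
# The scheme of tuples of pairwise (everywhere) distinct points of an étale separated chart
-/

set_option autoImplicit false
universe v w u

open CategoryTheory CategoryTheory.Limits AlgebraicGeometry Opposite

namespace K651.Conf

open AlgSp K613.Basic K613.Cover K613.Chart K613.Diag K651.Wide

variable {S : Scheme.{u}} {X : Sp S} {U : Over S} (p : (yon S).obj U ⟶ X)

/-- `(E, π)` represents tuples indexed by `ι` of points of `U` with the same image in `X`, pairwise nowhere equal. -/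
structure IsConf {ι : Type u} (E : Over S) (π : ι → (E ⟶ U)) : Prop where
  w : ∀ i j, (yon S).map (π i) ≫ p = (yon S).map (π j) ≫ p
  ne : ∀ i j, i ≠ j → NEq (π i) (π j)
  lift : ∀ (T : Over S) (u : ι → (T ⟶ U)), (∀ i j, (yon S).map (u i) ≫ p = (yon S).map (u j) ≫ p) →
    (∀ i j, i ≠ j → NEq (u i) (u j)) → ∃ g : T ⟶ E, ∀ i, g ≫ π i = u i
  ext : ∀ (T : Over S) (g g' : T ⟶ E), (∀ i, g ≫ π i = g' ≫ π i) → g = g'

variable {p}

/-- The scheme of tuples with the same image in `X`. -/
theorem exists_tuples (hX : Representable (Limits.diag X)) (hp : RepWith @Etale p) (hU : IsSeparated U.hom)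
    (ι : Type u) [Finite ι] [Nonempty ι] :
    ∃ (G : Over S) (π : ι → (G ⟶ U)), (∀ i j, (yon S).map (π i) ≫ p = (yon S).map (π j) ≫ p) ∧
      (∀ (T : Over S) (u : ι → (T ⟶ U)), (∀ i j, (yon S).map (u i) ≫ p = (yon S).map (u j) ≫ p) →
        ∃ g : T ⟶ G, ∀ i, g ≫ π i = u i) ∧
      (∀ (T : Over S) (g g' : T ⟶ G), (∀ i, g ≫ π i = g' ≫ π i) → g = g') ∧
      ∀ i, Etale (π i).left ∧ IsSeparated (π i).left := by
  -- `p` is separated
  have hps : RepWith @IsSeparated p := by
    refine ⟨hp.1, fun T V g fst snd sq => ?_⟩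
    obtain ⟨fst, rfl⟩ := (yon S).map_surjective fst
    -- `V → U × T` is a monomorphism
    have hm : Mono (prod.lift fst snd) := by
      refine ⟨fun {R} a b hab => ?_⟩
      apply (yon S).map_injective
      apply sq.hom_ext
      · rw [← Functor.map_comp, ← Functor.map_comp]
        have := congrArg (· ≫ prod.fst) hab
        simp only [Category.assoc, prod.lift_fst] at this
        rw [this]
      · rw [← Functor.map_comp, ← Functor.map_comp]
        have := congrArg (· ≫ prod.snd) hab
        simp only [Category.assoc, prod.lift_snd] at this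
        rw [this]
    have hm' : Mono (prod.lift fst snd).left := inferInstanceAs (Mono ((Over.forget S).map (prod.lift fst snd)))
    have h2 : IsSeparated (prod.snd : U ⨯ T ⟶ T).left := by
      have h3 : (prod.snd : U ⨯ T ⟶ T).left = (Over.prodLeftIsoPullback U T).hom ≫ pullback.snd U.hom T.hom :=
        (Over.prodLeftIsoPullback_hom_snd U T).symm
      rw [h3]
      infer_instance
    have h4 : snd.left = (prod.lift fst snd).left ≫ (prod.snd : U ⨯ T ⟶ T).left := by
      rw [← Over.comp_left, prod.lift_snd]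
    change IsSeparated snd.left
    rw [h4]
    infer_instance
  have hQ : RepWith (@Etale ⊓ @IsSeparated) p := ⟨hp.1, fun T V g fst snd sq =>
    ⟨hp.2 g fst snd sq, hps.2 g fst snd sq⟩⟩
  obtain ⟨G, b, π, hπ, hb, hq⟩ := exists_wide p (RepWith (@Etale ⊓ @IsSeparated)) hQ ι
  let i₀ : ι := Classical.arbitrary ι
  obtain ⟨Γ, snd, fst, sq⟩ := (hq i₀).1 (𝟙 ((yon S).obj U))
  have hfst : IsIso fst := by
    have := sq.flip.isIso_snd_of_isIso
    exact this
  have hex : ∀ i, ∃ q : Γ ⟶ U, (yon S).map q = fst ≫ π i := fun i => (yon S).map_surjective _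
  choose q hq' using hex
  refine ⟨Γ, q, ?_, ?_, ?_, ?_⟩
  · intro i j
    rw [hq', hq', Category.assoc, Category.assoc, hπ.w, hπ.w]
  · intro T u hu
    obtain ⟨g, -, hg⟩ := hπ.lift ((yon S).map (u i₀) ≫ p) (fun i => (yon S).map (u i)) (fun i => hu _ _)
    obtain ⟨g', hg'⟩ := (yon S).map_surjective (g ≫ inv fst)
    refine ⟨g', fun i => (yon S).map_injective ?_⟩
    rw [Functor.map_comp, hg', hq', Category.assoc, IsIso.inv_hom_id_assoc, hg]
  · intro T g g' h
    apply (yon S).map_injective
    rw [← cancel_mono fst]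
    have h1 : ∀ i, ((yon S).map g ≫ fst) ≫ π i = ((yon S).map g' ≫ fst) ≫ π i := by
      intro i
      rw [Category.assoc, Category.assoc, ← hq', ← Functor.map_comp, ← Functor.map_comp, h]
    refine hπ.ext _ _ ?_ h1
    rw [← hπ.w i₀, ← Category.assoc, ← Category.assoc, h1]
  · intro i
    have h1 : RepWith (@Etale ⊓ @IsSeparated) ((yon S).map (q i)) := by
      rw [hq']
      have h2 : RepWith (@Etale ⊓ @IsSeparated) fst :=
        MorphismProperty.of_isPullback (P := RepWith (@Etale ⊓ @IsSeparated)) sq.flip (by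
          rw [← (yon S).map_id]
          exact (repWith_yon_map_iff _ _).2 ⟨inferInstanceAs (Etale (𝟙 U.left)), inferInstanceAs (IsSeparated (𝟙 U.left))⟩)
      exact MorphismProperty.comp_mem _ _ _ h2 (hq i)
    exact (repWith_yon_map_iff _ _).1 h1

theorem exists_conf (hX : Representable (Limits.diag X)) (hp : RepWith @Etale p) (hU : IsSeparated U.hom)
    (ι : Type u) [Finite ι] [Nonempty ι] :
    ∃ (E : Over S) (π : ι → (E ⟶ U)), IsConf p E π ∧ ∀ i, Etale (π i).left ∧ IsSeparated (π i).left := by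
  obtain ⟨G, q, hw, hlift, hext, hq⟩ := exists_tuples hX hp hU ι
  have hD : ∀ i j, ∃ (E : Over S) (e : E ⟶ G), IsOpenImmersion e.left ∧ IsClosedImmersion e.left ∧ e ≫ q i = e ≫ q j ∧
      ∀ (R : Over S) (r : R ⟶ G), r ≫ q i = r ≫ q j → ∃ r' : R ⟶ E, r' ≫ e = r :=
    fun i j => exists_clopen hp hU _ _ (hw i j)
  choose D e heo hec hew hel using hD
  let Z : Set G.left := ⋃ ij : {ij : ι × ι // ij.1 ≠ ij.2}, Set.range (e ij.1.1 ij.1.2).left
  have hZ : IsClosed Z := isClosed_iUnion_of_finite fun ij => by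
    have := hec ij.1.1 ij.1.2
    exact (e ij.1.1 ij.1.2).left.isClosedEmbedding.isClosed_range
  let N : G.left.Opens := ⟨Zᶜ, hZ.isOpen_compl⟩
  let E : Over S := Over.mk (N.ι ≫ G.hom)
  let j : E ⟶ G := Over.homMk N.ι rfl
  have hj : IsOpenImmersion j.left := inferInstanceAs (IsOpenImmersion N.ι)
  have hjm : Mono j := by
    have : Mono ((Over.forget S).map j) := inferInstanceAs (Mono N.ι)
    exact (Over.forget S).mono_of_mono_map this
  -- criterion for mapping into `N`
  have key : ∀ (T : Over S) (g : T ⟶ G), (∀ i j, i ≠ j → NEq (g ≫ q i) (g ≫ q j)) ↔ ∀ t : T.left, g.left t ∈ N := by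
    intro T g
    constructor
    · intro h t ht
      obtain ⟨⟨⟨i, i'⟩, hii⟩, x, hx⟩ := Set.mem_iUnion.1 ht
      dsimp only at hii hx
      have h1 := h i i' hii (pullback g (e i i')) (pullback.fst _ _) ?_
      · apply h1
        rw [← Category.assoc, pullback.condition, Category.assoc, hew, ← Category.assoc, ← pullback.condition,
          Category.assoc]
      · have sq := (IsPullback.of_hasPullback g (e i i')).map (Over.forget S)
        obtain ⟨y, -, -⟩ := Scheme.exists_preimage_of_isPullback sq t x hx.symm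
        exact ⟨y⟩
    · intro h i i' hii R r hR hr
      obtain ⟨r', hr'⟩ := hel i i' R (r ≫ g) (by rw [Category.assoc, Category.assoc, hr])
      obtain ⟨y⟩ := hR
      refine h (r.left y) (Set.mem_iUnion.2 ⟨⟨⟨i, i'⟩, hii⟩, r'.left y, ?_⟩)
      have := congrArg (fun f => f.left y) hr'
      simpa using this
  refine ⟨E, fun i => j ≫ q i, ⟨?_, ?_, ?_, ?_⟩, ?_⟩
  · intro i i'
    rw [Functor.map_comp, Category.assoc, hw i i', Functor.map_comp, Category.assoc]
  · rw [key]
    intro t
    exact t.2
  · intro T u hu hne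
    obtain ⟨g, hg⟩ := hlift T u hu
    have h1 : ∀ t : T.left, g.left t ∈ N := by
      rw [← key]
      intro i i' hii
      rw [hg, hg]
      exact hne i i' hii
    have h2 : Set.range g.left ⊆ Set.range N.ι := by
      rintro _ ⟨t, rfl⟩
      rw [Scheme.Opens.range_ι]
      exact h1 t
    refine ⟨Over.homMk (IsOpenImmersion.lift N.ι g.left h2) ?_, fun i => ?_⟩
    · dsimp only [E, Over.mk_hom]
      rw [IsOpenImmersion.lift_fac_assoc, Over.w]
    · rw [← hg, ← Category.assoc]
      congr 1
      ext1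
      exact IsOpenImmersion.lift_fac _ _ _
  · intro T g g' h
    rw [← cancel_mono j]
    exact hext _ _ _ fun i => by simpa using h i
  · intro i
    obtain ⟨h1, h2⟩ := hq i
    exact ⟨inferInstanceAs (Etale (j.left ≫ (q i).left)), inferInstanceAs (IsSeparated (j.left ≫ (q i).left))⟩

end K651.Conf
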