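import Groth.Agent.AlgSp.K651.Conf
import Groth.Agent.Sga3.H8.FinQuot
import Groth.Agent.S0115
import Groth.Agent.S1180
import Groth.Agent.S0411
import Groth.Agent.Sga1.SigmaFinite

/-!
# The quotient of the scheme of tuples by the symmetric group
-/

set_option autoImplicit false
universe v w u

open CategoryTheory CategoryTheory.Limits AlgebraicGeometry Opposite

namespace K651.ConfQuot

open AlgSp K613.Basic K613.Cover K613.Chart K613.Diag K651.Wide K651.Conf
open Groth.Agent.Sga3C.QuotRel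

variable {S : Scheme.{u}} {X : Sp S} {U : Over S} {p : (yon S).obj U ⟶ X} {ι : Type u} {E : Over S}
  {π : ι → (E ⟶ U)}

theorem locallyQuasiFinite_of_etale {X Y : Scheme.{u}} (f : X ⟶ Y) [Etale f] : LocallyQuasiFinite f := by
  rw [HasRingHomProperty.iff_appLE (P := @LocallyQuasiFinite)]
  intro U V e
  have h := HasRingHomProperty.appLE (P := @Etale) f inferInstance U V e
  algebraize [(Scheme.Hom.appLE f U V e).hom]
  have : Algebra.Etale Γ(Y, U) Γ(X, V) := h
  change Algebra.QuasiFinite _ _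
  infer_instance

theorem etale_of_smooth_of_unramified {X Y : Scheme.{u}} (g : X ⟶ Y) [h1 : Smooth g] [h2 : FormallyUnramified g] :
    Etale g := by
  rw [HasRingHomProperty.iff_appLE (P := @Etale)]
  intro U V e
  rw [RingHom.etale_iff_formallyUnramified_and_smooth]
  exact ⟨HasRingHomProperty.appLE (P := @FormallyUnramified) g h2 U V e,
    HasRingHomProperty.appLE (P := @Smooth) g h1 U V e⟩

/-- Étaleness is étale local on the source. -/
theorem etale_of_comp {X Y Z : Scheme.{u}} (f : X ⟶ Y) (g : Y ⟶ Z) (hf : Etale f) (hf' : Surjective f)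
    (h : Etale (f ≫ g)) : Etale g := by
  have h1 : Smooth (f ≫ g) := inferInstance
  have h2 : Smooth g := Groth.Agent.S0115.result f g
  obtain ⟨h3, h4⟩ := Groth.Agent.S1180.result f g
  exact etale_of_smooth_of_unramified g

section act

variable (hE : IsConf p E π)

include hE in
theorem exists_act (σ : Equiv.Perm ι) : ∃ a : E ⟶ E, ∀ i, a ≫ π i = π (σ i) :=
  hE.lift E (fun i => π (σ i)) (fun _ _ => hE.w _ _) (fun _ _ h => hE.ne _ _ fun h' => h (σ.injective h'))

/-- The action of a permutation. -/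
noncomputable def act (σ : Equiv.Perm ι) : E ⟶ E := (exists_act hE σ).choose

theorem act_π (σ : Equiv.Perm ι) (i : ι) : act hE σ ≫ π i = π (σ i) := (exists_act hE σ).choose_spec i

theorem act_comp (σ τ : Equiv.Perm ι) : act hE σ ≫ act hE τ = act hE (σ * τ) := by
  apply hE.ext
  intro i
  rw [Category.assoc, act_π, act_π, act_π]
  rfl

theorem act_one : act hE 1 = 𝟙 E := by
  apply hE.ext
  intro i
  rw [act_π, Category.id_comp]
  rfl

instance (σ : Equiv.Perm ι) : IsIso (act hE σ) :=
  ⟨act hE σ⁻¹, by rw [act_comp, mul_inv_cancel, act_one], by rw [act_comp, inv_mul_cancel, act_one]⟩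

instance (σ : Equiv.Perm ι) : IsIso (act hE σ).left := inferInstanceAs (IsIso ((Over.forget S).map (act hE σ)))

theorem act_ne {σ τ : Equiv.Perm ι} (h : σ ≠ τ) : NEq (act hE σ) (act hE τ) := by
  obtain ⟨i, hi⟩ := Equiv.Perm.ext_iff.not.1 h |> not_forall.1
  intro R r hR hr
  refine hE.ne _ _ hi R r hR ?_
  rw [← act_π hE, ← act_π hE, ← Category.assoc, hr, Category.assoc]

end act

section rel

variable (hE : IsConf p E π) {b : (yon S).obj E ⟶ X} (hb : ∀ i, (yon S).map (π i) ≫ p = b)

include hb in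
theorem act_b [Nonempty ι] (σ : Equiv.Perm ι) : (yon S).map (act hE σ) ≫ b = b := by
  let i : ι := Classical.arbitrary ι
  rw [← hb i, ← Category.assoc, ← Functor.map_comp, act_π, hb, hb]

/-- `R' = E ×_X E` with the graphs of the permutations. -/
structure Gr (R' : Over S) (r1 r2 : R' ⟶ E) : Prop where
  sq : IsPullback ((yon S).map r1) ((yon S).map r2) b b
  et : Etale r1.left

theorem exists_gr (hX : Representable (Limits.diag X)) (hbe : RepWith @Etale b) :
    ∃ (R' : Over S) (r1 r2 : R' ⟶ E), Gr (b := b) R' r1 r2 := by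
  obtain ⟨R', c, α, sq⟩ := exists_refine (Y := X) hX (𝟙 _ ≫ b) (𝟙 ((yon S).obj E)) b
  rw [Category.id_comp, Category.id_comp] at sq
  exact ⟨R', c, α, sq, hbe.2 _ _ _ sq.flip⟩

variable {R' : Over S} {r1 r2 : R' ⟶ E} (hR : Gr (b := b) R' r1 r2)

include hR in
theorem Gr.lift {T : Over S} (a c : T ⟶ E) (h : (yon S).map a ≫ b = (yon S).map c ≫ b) :
    ∃ m : T ⟶ R', m ≫ r1 = a ∧ m ≫ r2 = c := by
  obtain ⟨m, hm⟩ := (yon S).map_surjective (hR.sq.lift _ _ h)
  refine ⟨m, (yon S).map_injective ?_, (yon S).map_injective ?_⟩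
  · rw [Functor.map_comp, hm, hR.sq.lift_fst]
  · rw [Functor.map_comp, hm, hR.sq.lift_snd]

include hR in
theorem Gr.ext {T : Over S} {m m' : T ⟶ R'} (h1 : m ≫ r1 = m' ≫ r1) (h2 : m ≫ r2 = m' ≫ r2) : m = m' := by
  apply (yon S).map_injective
  apply hR.sq.hom_ext
  · rw [← Functor.map_comp, h1, Functor.map_comp]
  · rw [← Functor.map_comp, h2, Functor.map_comp]

include hR hb in
theorem exists_graph [Nonempty ι] (σ : Equiv.Perm ι) : ∃ m : E ⟶ R', m ≫ r1 = 𝟙 E ∧ m ≫ r2 = act hE σ :=
  hR.lift _ _ (by rw [act_b hE hb, CategoryTheory.Functor.map_id, Category.id_comp])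

/-- The equivalence relation as a disjoint union. -/
noncomputable abbrev RR (_ : IsConf p E π) : Scheme.{u} := ∐ fun _ : Equiv.Perm ι => E.left

noncomputable abbrev tt : RR hE ⟶ E.left := Sigma.desc fun _ => 𝟙 E.left

noncomputable abbrev ss : RR hE ⟶ E.left := Sigma.desc fun σ => (act hE σ).left

theorem tt_over : tt hE ≫ E.hom = ss hE ≫ E.hom := by
  apply Sigma.hom_ext
  intro σ
  simp

include hE hb hR in
/-- The disjoint union of the graphs is open in `E ×_X E`. -/
theorem exists_openImm [Nonempty ι] [Finite ι] : ∃ j : RR hE ⟶ R'.left, IsOpenImmersion j ∧ j ≫ r1.left = tt hE ∧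
    j ≫ r2.left = ss hE := by
  choose m hm1 hm2 using exists_graph hE hb hR
  have hmo : ∀ σ, IsOpenImmersion (m σ).left := by
    intro σ
    have := hR.et
    have h1 : Etale ((m σ).left ≫ r1.left) := by
      rw [← Over.comp_left, hm1]
      exact inferInstanceAs (Etale (𝟙 E.left))
    have h2 : Etale (m σ).left := MorphismProperty.of_postcomp (W := @Etale) (W' := @Etale) _ r1.left this h1
    have h3 : Mono (m σ).left := by
      have : Mono ((m σ).left ≫ r1.left) := by
        rw [← Over.comp_left, hm1]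
        exact inferInstanceAs (Mono (𝟙 E.left))
      exact mono_of_mono _ r1.left
    exact IsOpenImmersion.of_flat_of_mono _
  refine ⟨Sigma.desc fun σ => (m σ).left, ?_, ?_, ?_⟩
  · apply isOpenImmersion_sigmaDesc
    intro σ τ hστ
    rw [Function.onFun, Set.disjoint_left]
    rintro _ ⟨x, rfl⟩ ⟨y, hy⟩
    -- the fibre product of the two graphs is nonempty
    have sq := (IsPullback.of_hasPullback (m σ) (m τ)).map (Over.forget S)
    obtain ⟨z, -, -⟩ := Scheme.exists_preimage_of_isPullback sq x y hy.symm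
    have h1 : pullback.fst (m σ) (m τ) = pullback.snd (m σ) (m τ) := by
      have := congrArg (· ≫ r1) (pullback.condition (f := m σ) (g := m τ))
      simpa [hm1] using this
    refine act_ne hE hστ (pullback (m σ) (m τ)) (pullback.fst _ _) ⟨z⟩ ?_
    have := congrArg (· ≫ r2) (pullback.condition (f := m σ) (g := m τ))
    simp only [Category.assoc, hm2] at this
    rw [this, h1]
  · apply Sigma.hom_ext
    intro σ
    rw [← Category.assoc, Sigma.ι_desc, Sigma.ι_desc, ← Over.comp_left, hm1]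
    rfl
  · apply Sigma.hom_ext
    intro σ
    rw [← Category.assoc, Sigma.ι_desc, Sigma.ι_desc, ← Over.comp_left, hm2]

include hR in
/-- Being related can be tested locally. -/
theorem rel_of_local [Nonempty ι] [Finite ι] (hb : ∀ i, (yon S).map (π i) ≫ p = b) {T : Over S} (a c : T ⟶ E)
    (hac : (yon S).map a ≫ b = (yon S).map c ≫ b)
    (h : ∀ t : T.left, ∃ (T' : Over S) (f : T' ⟶ T) (t' : T'.left), f.left t' = t ∧
      ∃ σ, f ≫ c = f ≫ a ≫ act hE σ) : Rel (tt hE) (ss hE) a.left c.left := by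
  obtain ⟨j, hj, hj1, hj2⟩ := exists_openImm hE hb hR
  obtain ⟨m, hm1, hm2⟩ := hR.lift a c hac
  have hr : Set.range m.left ⊆ Set.range j := by
    rintro _ ⟨t, rfl⟩
    obtain ⟨T', f, t', rfl, σ, hσ⟩ := h t
    refine ⟨Sigma.ι (fun _ : Equiv.Perm ι => E.left) σ ((f ≫ a).left t'), ?_⟩
    have e1 : (f ≫ a).left ≫ Sigma.ι (fun _ : Equiv.Perm ι => E.left) σ ≫ j = f.left ≫ m.left := by
      -- both are morphisms to `R'` with the same components
      let g : T' ⟶ R' := Over.homMk ((f ≫ a).left ≫ Sigma.ι (fun _ : Equiv.Perm ι => E.left) σ ≫ j) (by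
        rw [← Over.w r1, Category.assoc, Category.assoc, reassoc_of% hj1, Sigma.ι_desc_assoc, Category.id_comp]
        exact Over.w (f ≫ a))
      have hg : g = f ≫ m := by
        apply hR.ext
        · ext1
          rw [Category.assoc, hm1]
          change ((f ≫ a).left ≫ Sigma.ι (fun _ : Equiv.Perm ι => E.left) σ ≫ j) ≫ r1.left = _
          rw [Category.assoc, Category.assoc, hj1, Sigma.ι_desc, Category.comp_id]
        · ext1
          rw [Category.assoc, hm2, hσ]
          change ((f ≫ a).left ≫ Sigma.ι (fun _ : Equiv.Perm ι => E.left) σ ≫ j) ≫ r2.left = _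
          rw [Category.assoc, Category.assoc, hj2, Sigma.ι_desc]
          simp
      exact congrArg (·.left) hg
    have := congrArg (fun k => k t') e1
    simpa using this
  refine ⟨IsOpenImmersion.lift j m.left hr, ?_, ?_⟩
  · rw [← hj1, IsOpenImmersion.lift_fac_assoc, ← Over.comp_left, hm1]
  · rw [← hj2, IsOpenImmersion.lift_fac_assoc, ← Over.comp_left, hm2]

theorem local_of_rel {T : Scheme.{u}} {a c : T ⟶ E.left} (h : Rel (tt hE) (ss hE) a c) (t : T) :
    ∃ (T' : Scheme.{u}) (f : T' ⟶ T) (t' : T'), f t' = t ∧ ∃ σ, f ≫ c = f ≫ a ≫ (act hE σ).left := by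
  obtain ⟨r, rfl, rfl⟩ := h
  obtain ⟨σ, y, hy⟩ : ∃ (σ : Equiv.Perm ι) (y : E.left), Sigma.ι (fun _ : Equiv.Perm ι => E.left) σ y = r t :=
    (sigmaOpenCover (fun _ : Equiv.Perm ι => E.left)).exists_eq (r t)
  obtain ⟨z, hz, -⟩ := Scheme.exists_preimage_of_isPullback (IsPullback.of_hasPullback r
    (Sigma.ι (fun _ : Equiv.Perm ι => E.left) σ)) t y hy.symm
  refine ⟨_, pullback.fst r (Sigma.ι (fun _ : Equiv.Perm ι => E.left) σ), z, hz, σ, ?_⟩
  rw [Category.assoc, pullback.condition_assoc, pullback.condition_assoc, Sigma.ι_desc, Sigma.ι_desc_assoc,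
    Category.id_comp]

theorem over_of_rel {T : Scheme.{u}} {a c : T ⟶ E.left} (h : Rel (tt hE) (ss hE) a c) :
    a ≫ E.hom = c ≫ E.hom := by
  obtain ⟨r, rfl, rfl⟩ := h
  rw [Category.assoc, Category.assoc, tt_over]

include hR in
theorem b_of_rel [Nonempty ι] [Finite ι] (hb : ∀ i, (yon S).map (π i) ≫ p = b) {T : Over S} {a c : T ⟶ E}
    (h : Rel (tt hE) (ss hE) a.left c.left) : (yon S).map a ≫ b = (yon S).map c ≫ b := by
  obtain ⟨j, hj, hj1, hj2⟩ := exists_openImm hE hb hR
  obtain ⟨r, hr1, hr2⟩ := h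
  let m : T ⟶ R' := Over.homMk (r ≫ j) (by
    rw [← Over.w r1, Category.assoc, reassoc_of% hj1, reassoc_of% hr1, Over.w])
  have e1 : m ≫ r1 = a := by
    ext1
    change (r ≫ j) ≫ r1.left = _
    rw [Category.assoc, hj1, hr1]
  have e2 : m ≫ r2 = c := by
    ext1
    change (r ≫ j) ≫ r2.left = _
    rw [Category.assoc, hj2, hr2]
  rw [← e1, ← e2, Functor.map_comp, Functor.map_comp, Category.assoc, Category.assoc, hR.sq.w]

include hR in
theorem isERel [Nonempty ι] [Finite ι] (hb : ∀ i, (yon S).map (π i) ≫ p = b) :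
    IsERel (tt hE) (ss hE) := by
  refine ⟨fun {T} x y h1 h2 => ?_, fun {T} a => ?_, fun {T a c} h => ?_, fun {T a c d} h h' => ?_⟩
  · obtain ⟨j, hj, hj1, hj2⟩ := exists_openImm hE hb hR
    rw [← cancel_mono j]
    let T' : Over S := Over.mk (x ≫ tt hE ≫ E.hom)
    let x' : T' ⟶ R' := Over.homMk (x ≫ j) (by
      rw [← Over.w r1, Category.assoc, reassoc_of% hj1]; rfl)
    let y' : T' ⟶ R' := Over.homMk (y ≫ j) (by
      rw [← Over.w r1, Category.assoc, reassoc_of% hj1, ← reassoc_of% h1]; rfl)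
    have : x' = y' := by
      apply hR.ext
      · ext1
        change (x ≫ j) ≫ r1.left = (y ≫ j) ≫ r1.left
        rw [Category.assoc, Category.assoc, hj1, h1]
      · ext1
        change (x ≫ j) ≫ r2.left = (y ≫ j) ≫ r2.left
        rw [Category.assoc, Category.assoc, hj2, h2]
    exact congrArg (·.left) this
  · refine ⟨a ≫ Sigma.ι (fun _ : Equiv.Perm ι => E.left) 1, ?_, ?_⟩
    · rw [Category.assoc, Sigma.ι_desc, Category.comp_id]
    · rw [Category.assoc, Sigma.ι_desc, act_one]
      exact Category.comp_id a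
  · let T' : Over S := Over.mk (a ≫ E.hom)
    let a' : T' ⟶ E := Over.homMk a rfl
    let c' : T' ⟶ E := Over.homMk c (over_of_rel hE h).symm
    have h' : Rel (tt hE) (ss hE) a'.left c'.left := h
    refine rel_of_local hE hR hb c' a' (b_of_rel hE hR hb h').symm fun t => ?_
    obtain ⟨W, f, t', ht, σ, hσ⟩ := local_of_rel hE h t
    refine ⟨Over.mk (f ≫ a ≫ E.hom), Over.homMk f rfl, t', ht, σ⁻¹, ?_⟩
    ext1
    change f ≫ a = f ≫ c ≫ (act hE σ⁻¹).left
    rw [← Category.assoc f c, hσ, Category.assoc, Category.assoc, ← Over.comp_left, act_comp, mul_inv_cancel,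
      act_one]
    exact congrArg (f ≫ ·) (Category.comp_id a).symm
  · let T' : Over S := Over.mk (a ≫ E.hom)
    let a' : T' ⟶ E := Over.homMk a rfl
    let c' : T' ⟶ E := Over.homMk c (over_of_rel hE h).symm
    let d' : T' ⟶ E := Over.homMk d ((over_of_rel hE h').symm.trans (over_of_rel hE h).symm)
    refine rel_of_local hE hR hb a' d' ((b_of_rel hE hR hb (a := a') (c := c') h).trans
      (b_of_rel hE hR hb (a := c') (c := d') h')) fun t => ?_
    obtain ⟨W, f, t', ht, σ, hσ⟩ := local_of_rel hE h t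
    obtain ⟨W', f', t'', ht', τ, hτ⟩ := local_of_rel hE (h'.precomp f) t'
    refine ⟨Over.mk ((f' ≫ f) ≫ a ≫ E.hom), Over.homMk (f' ≫ f) rfl, t'', ?_, σ * τ, ?_⟩
    · change (f' ≫ f) t'' = t
      rw [Scheme.Hom.comp_apply, ht', ht]
    · ext1
      change (f' ≫ f) ≫ d = (f' ≫ f) ≫ a ≫ (act hE (σ * τ)).left
      rw [Category.assoc, hτ, Category.assoc, reassoc_of% hσ, ← act_comp]
      simp

/-- The finite locally free quotient of the scheme of tuples by the symmetric group, étale over `X`. -/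
theorem exists_quot (hX : Representable (Limits.diag X)) (hE : IsConf p E π) [Nonempty ι] [Finite ι]
    [IsAffine U.left] (hU : ∀ i, Etale (π i).left ∧ IsSeparated (π i).left) (hp : RepWith @Etale p) :
    ∃ (Y : Over S) (q : E ⟶ Y) (p' : (yon S).obj Y ⟶ X), RepWith @Etale p' ∧ EtC q ∧
      (∀ i, (yon S).map q ≫ p' = (yon S).map (π i) ≫ p) ∧ ∀ σ, act hE σ ≫ q = q := by
  let i₀ : ι := Classical.arbitrary ι
  let b : (yon S).obj E ⟶ X := (yon S).map (π i₀) ≫ p
  have hb : ∀ i, (yon S).map (π i) ≫ p = b := fun i => hE.w i i₀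
  have hbe : RepWith @Etale b := MorphismProperty.comp_mem _ _ _ ((repWith_yon_map_iff _ _).2 (hU i₀).1) hp
  obtain ⟨R', r1, r2, hR⟩ := exists_gr hX hbe
  have hrel := isERel hE hR hb
  have hs : Mor2.IsFinLocFree (ss hE) := ⟨Groth.Agent.Sga1.SigmaFinite.isFinite_sigmaDesc _,
    IsZariskiLocalAtSource.sigmaDesc (P := @Flat) (fun i => inferInstance),
    IsZariskiLocalAtSource.sigmaDesc (P := @LocallyOfFinitePresentation) (fun i => inferInstance)⟩
  obtain ⟨he0, hs0⟩ := hU i₀
  have hAF : ∀ F : Set E.left, F.Finite → ∃ V : E.left.Opens, IsAffineOpen V ∧ F ⊆ (V : Set E.left) := by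
    intro F hF
    have := locallyQuasiFinite_of_etale (π i₀).left
    obtain ⟨V, hV, hFV⟩ := Groth.Agent.S0411.result (π i₀).left hF.toFinset
    exact ⟨V, hV, fun x hx => hFV x (hF.mem_toFinset.2 hx)⟩
  obtain ⟨Y, q, pY, hq1, hq2, hq3, hq4⟩ := Groth.Agent.Sga3.H8.FinQuot.exists_quotient E.hom (tt hE) (ss hE) hrel
    (tt_over hE) hs hAF
  let Y' : Over S := Over.mk pY
  let q' : E ⟶ Y' := Over.homMk q hq3
  have hqf : FpC q' := ⟨hq1.2.1, hq1.2.2, hq2⟩
  have hqact : ∀ σ, act hE σ ≫ q' = q' := by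
    intro σ
    ext1
    change (act hE σ).left ≫ q = q
    have := (hq4 (act hE σ).left (𝟙 _)).2 ⟨(act hE σ).left ≫ Sigma.ι (fun _ : Equiv.Perm ι => E.left) σ⁻¹, by
      rw [Category.assoc, Sigma.ι_desc, Category.comp_id], by
      rw [Category.assoc, Sigma.ι_desc, ← Over.comp_left, act_comp, mul_inv_cancel, act_one]; rfl⟩
    rw [this, Category.id_comp]
  obtain ⟨p', hp', -⟩ := hqf.glue b (fun R a c hac => by
    refine b_of_rel hE hR hb ?_
    exact (hq4 _ _).1 (congrArg (·.left) hac))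
  -- `q` is étale
  have hqet : Etale q := by
    have := hq1.2.1
    have := hq1.2.2
    have sq : IsPullback (tt hE) (ss hE) q q := by
      refine isPullback_of_exists ((hq4 _ _).2 ⟨𝟙 _, Category.id_comp _, Category.id_comp _⟩) hrel.mono ?_
      intro T a c hac
      exact (hq4 _ _).1 hac
    have h1 : Etale (tt hE) := IsZariskiLocalAtSource.sigmaDesc (P := @Etale) (fun i => inferInstance)
    exact MorphismProperty.of_isPullback_of_descendsAlong (P := @Etale) (Q := fppf) sq
      ⟨⟨hq2, ‹_›⟩, ‹_›⟩ h1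
  have hqe : EtC q' := ⟨hqet, hq2⟩
  refine ⟨Y', q', p', ?_, hqe, fun i => ?_, hqact⟩
  · -- étaleness of `p'`
    refine ⟨Functor.relativelyRepresentable.of_diag hX p', fun T V g fst snd sq => ?_⟩
    obtain ⟨fst, rfl⟩ := (yon S).map_surjective fst
    -- base change of `q'` to `V`
    have sq1 := IsPullback.of_hasPullback q' fst
    have hW : EtC (pullback.snd q' fst) := hqe.of_isPullback sq1
    have sq2 := (sq1.map (yon S)).flip.paste_horiz sq.flip
    rw [hp', ← Functor.map_comp] at sq2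
    have h1 : Etale ((pullback.snd q' fst).left ≫ snd.left) := hbe.2 g _ _ sq2.flip
    exact etale_of_comp _ _ hW.etale hW.surj h1
  · rw [hp', hb]

end rel

end K651.ConfQuot
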