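import Groth.Agent.AlgSp.K651.FlatClosure
import Groth.Agent.Ega43.FPOfComp
import Mathlib.AlgebraicGeometry.Morphisms.Flat
import Mathlib.RingTheory.Regular.Flat
import Mathlib.RingTheory.DedekindDomain.Factorization

/-!
# The torsion free locus over a Dedekind domain
-/

set_option autoImplicit false
universe u

open CategoryTheory CategoryTheory.Limits AlgebraicGeometry Opposite

namespace K651.TorFree

variable {A : Type u} [CommRing A]

/-- The structure map from `A` to the sections over an open. -/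
noncomputable def sec {Y : Scheme.{u}} (z : Y ⟶ Spec (CommRingCat.of A)) (W : Y.Opens) :
    CommRingCat.of A ⟶ Γ(Y, W) :=
  (Scheme.ΓSpecIso (CommRingCat.of A)).inv ≫ z.appTop ≫ Y.presheaf.map (homOfLE le_top).op

/-- The structure map from `A` to a stalk. -/
noncomputable def phi {Y : Scheme.{u}} (z : Y ⟶ Spec (CommRingCat.of A)) (y : Y) :
    CommRingCat.of A ⟶ Y.presheaf.stalk y :=
  (Scheme.ΓSpecIso (CommRingCat.of A)).inv ≫ z.appTop ≫ Y.presheaf.germ ⊤ y trivial

theorem sec_germ {Y : Scheme.{u}} (z : Y ⟶ Spec (CommRingCat.of A)) (W : Y.Opens) (y : Y) (hy : y ∈ W) :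
    sec z W ≫ Y.presheaf.germ W y hy = phi z y := by
  simp only [sec, phi, Category.assoc, TopCat.Presheaf.germ_res]

theorem phi_stalkMap {Y Y' : Scheme.{u}} (z : Y ⟶ Spec (CommRingCat.of A)) (f : Y' ⟶ Y) (y : Y') :
    phi z (f y) ≫ f.stalkMap y = phi (f ≫ z) y := by
  simp only [phi, Category.assoc, Scheme.Hom.germ_stalkMap, Scheme.Hom.comp_appTop]
  rfl

theorem sec_app {Y Y' : Scheme.{u}} (z : Y ⟶ Spec (CommRingCat.of A)) (f : Y' ⟶ Y) (W : Y.Opens) :
    sec z W ≫ f.app W = sec (f ≫ z) (f ⁻¹ᵁ W) := by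
  simp only [sec, Category.assoc, Scheme.Hom.naturality, Scheme.Hom.comp_appTop]
  rfl

/-- The stalk is torsion free. -/
def TF {Y : Scheme.{u}} (z : Y ⟶ Spec (CommRingCat.of A)) (y : Y) : Prop :=
  ∀ a : A, a ≠ 0 → phi z y a ∈ nonZeroDivisors (Y.presheaf.stalk y)

theorem tf_iff_of_flat {Y Y' : Scheme.{u}} (z : Y ⟶ Spec (CommRingCat.of A)) (f : Y' ⟶ Y) [Flat f] (y : Y') :
    TF z (f y) ↔ TF (f ≫ z) y := by
  have hfl : (f.stalkMap y).hom.Flat := Flat.stalkMap f y
  algebraize [(f.stalkMap y).hom]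
  have hloc : IsLocalHom (algebraMap (Y.presheaf.stalk (f y)) (Y'.presheaf.stalk y)) :=
    inferInstanceAs (IsLocalHom (f.stalkMap y).hom)
  have hff : Module.FaithfullyFlat (Y.presheaf.stalk (f y)) (Y'.presheaf.stalk y) :=
    Module.FaithfullyFlat.of_flat_of_isLocalHom
  have hinj : Function.Injective (algebraMap (Y.presheaf.stalk (f y)) (Y'.presheaf.stalk y)) :=
    FaithfulSMul.algebraMap_injective _ _
  have key : ∀ a : A, algebraMap (Y.presheaf.stalk (f y)) (Y'.presheaf.stalk y) (phi z (f y) a) =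
      phi (f ≫ z) y a := by
    intro a
    rw [← phi_stalkMap z f y]
    rfl
  refine forall₂_congr fun a ha => ?_
  rw [← key a]
  constructor
  · intro h
    have h1 : IsSMulRegular (Y'.presheaf.stalk y) (phi z (f y) a) :=
      Module.Flat.isSMulRegular_of_nonZeroDivisors h
    rw [mem_nonZeroDivisors_iff_right]
    intro x hx
    apply h1
    change phi z (f y) a • x = phi z (f y) a • (0 : Y'.presheaf.stalk y)
    rw [smul_zero, Algebra.smul_def, mul_comm]
    exact hx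
  · intro h
    rw [mem_nonZeroDivisors_iff_right] at h ⊢
    intro x hx
    apply hinj
    rw [map_zero]
    apply h
    rw [← map_mul, hx, map_zero]

section affine

variable {Y : Scheme.{u}} (z : Y ⟶ Spec (CommRingCat.of A)) {W : Y.Opens} (hW : IsAffineOpen W)

theorem exists_germ_mul (hW : IsAffineOpen W) (y : Y) (hy : y ∈ W) (x : Y.presheaf.stalk y) :
    ∃ (b s : Γ(Y, W)), y ∈ Y.basicOpen s ∧ x * Y.presheaf.germ W y hy s = Y.presheaf.germ W y hy b := by
  let _ : Algebra Γ(Y, W) (Y.presheaf.stalk y) := (Y.presheaf.germ W y hy).hom.toAlgebra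
  have : IsLocalization.AtPrime (Y.presheaf.stalk y) (hW.primeIdealOf ⟨y, hy⟩).asIdeal :=
    hW.isLocalization_stalk ⟨y, hy⟩
  obtain ⟨⟨b, s⟩, h⟩ := IsLocalization.surj (hW.primeIdealOf ⟨y, hy⟩).asIdeal.primeCompl x
  refine ⟨b, s, ?_, h⟩
  rw [Scheme.mem_basicOpen _ _ _ hy]
  exact IsLocalization.map_units (Y.presheaf.stalk y) s

theorem germ_eq_zero_iff (hW : IsAffineOpen W) (y : Y) (hy : y ∈ W) (b : Γ(Y, W)) :
    Y.presheaf.germ W y hy b = 0 ↔ ∃ s : Γ(Y, W), y ∈ Y.basicOpen s ∧ s * b = 0 := by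
  let _ : Algebra Γ(Y, W) (Y.presheaf.stalk y) := (Y.presheaf.germ W y hy).hom.toAlgebra
  have : IsLocalization.AtPrime (Y.presheaf.stalk y) (hW.primeIdealOf ⟨y, hy⟩).asIdeal :=
    hW.isLocalization_stalk ⟨y, hy⟩
  constructor
  · intro h
    obtain ⟨s, hs⟩ := (IsLocalization.map_eq_zero_iff (hW.primeIdealOf ⟨y, hy⟩).asIdeal.primeCompl
      (Y.presheaf.stalk y) b).1 h
    refine ⟨s, ?_, hs⟩
    rw [Scheme.mem_basicOpen _ _ _ hy]
    exact IsLocalization.map_units (Y.presheaf.stalk y) s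
  · rintro ⟨s, hs, h⟩
    rw [Scheme.mem_basicOpen _ _ _ hy] at hs
    have := congrArg (Y.presheaf.germ W y hy) h
    rw [map_mul, map_zero] at this
    exact hs.mul_right_eq_zero.1 this

/-- The description of the torsion free locus on an affine open with finitely generated torsion. -/
theorem exists_of_tf (hW : IsAffineOpen W) {T : Ideal Γ(Y, W)} (hT : T.FG)
    (hTtor : ∀ b, b ∈ T → ∃ a : A, a ≠ 0 ∧ sec z W a * b = 0)
    (y : Y) (hy : y ∈ W) (h : TF z y) : ∃ s : Γ(Y, W), y ∈ Y.basicOpen s ∧ ∀ b ∈ T, s * b = 0 := by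
  have key : ∀ b ∈ T, ∃ s : Γ(Y, W), y ∈ Y.basicOpen s ∧ s * b = 0 := by
    intro b hb
    rw [← germ_eq_zero_iff hW y hy]
    obtain ⟨a, ha, hab⟩ := hTtor b hb
    have h1 := h a ha
    rw [← sec_germ z W y hy] at h1
    have h2 : Y.presheaf.germ W y hy b * Y.presheaf.germ W y hy (sec z W a) = 0 := by
      rw [mul_comm, ← map_mul, hab, map_zero]
    exact (mem_nonZeroDivisors_iff_right.1 h1) _ h2
  obtain ⟨t, rfl⟩ := hT
  choose! s hs hs' using key
  refine ⟨∏ b ∈ t, s b, ?_, ?_⟩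
  · rw [Scheme.mem_basicOpen _ _ _ hy, map_prod]
    refine IsUnit.prod_iff.2 fun b hb => ?_
    rw [← Scheme.mem_basicOpen _ _ _ hy]
    exact hs b (Ideal.subset_span hb)
  · intro b hb
    induction hb using Submodule.span_induction with
    | mem x hx =>
      obtain ⟨c, hc⟩ := Finset.dvd_prod_of_mem s hx
      rw [hc, mul_comm (s x), mul_assoc, hs' x (Ideal.subset_span hx), mul_zero]
    | zero => rw [mul_zero]
    | add x y _ _ hx hy => rw [mul_add, hx, hy, add_zero]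
    | smul a x _ hx => rw [smul_eq_mul, mul_left_comm, hx, mul_zero]

theorem tf_of_exists (hW : IsAffineOpen W) {T : Ideal Γ(Y, W)}
    (hTtor : ∀ b, (∃ a : A, a ≠ 0 ∧ sec z W a * b = 0) → b ∈ T)
    (y : Y) (hy : y ∈ W) (s : Γ(Y, W)) (hs : y ∈ Y.basicOpen s) (hsT : ∀ b ∈ T, s * b = 0) : TF z y := by
  intro a ha
  rw [mem_nonZeroDivisors_iff_right]
  intro x hx
  obtain ⟨b, t, ht, hb⟩ := exists_germ_mul hW y hy x
  rw [Scheme.mem_basicOpen _ _ _ hy] at ht
  have h1 : Y.presheaf.germ W y hy b = 0 := by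
    have h2 : Y.presheaf.germ W y hy (sec z W a * b) = 0 := by
      have h3 : Y.presheaf.germ W y hy (sec z W a) = phi z y a := by
        rw [← sec_germ z W y hy]; rfl
      rw [map_mul, ← hb, h3, ← mul_assoc, mul_comm _ x, hx, zero_mul]
    obtain ⟨r, hr, hr'⟩ := (germ_eq_zero_iff hW y hy _).1 h2
    have h4 : r * b ∈ T := hTtor _ ⟨a, ha, by rw [mul_left_comm, hr']⟩
    refine (germ_eq_zero_iff hW y hy _).2 ⟨s * r, ?_, by rw [mul_assoc, hsT _ h4]⟩
    rw [Scheme.mem_basicOpen _ _ _ hy] at hs hr ⊢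
    rw [map_mul]
    exact hs.mul hr
  rw [h1] at hb
  exact (ht.mul_left_eq_zero).1 hb

theorem exists_annihilator [IsDomain A] {T : Ideal Γ(Y, W)} (hT : T.FG)
    (hTtor : ∀ b, b ∈ T → ∃ a : A, a ≠ 0 ∧ sec z W a * b = 0) :
    ∃ a : A, a ≠ 0 ∧ ∀ b ∈ T, sec z W a * b = 0 := by
  obtain ⟨t, rfl⟩ := hT
  choose! a ha ha' using hTtor
  refine ⟨∏ b ∈ t, a b, Finset.prod_ne_zero_iff.2 fun b hb => ha b (Ideal.subset_span hb), ?_⟩
  intro b hb
  induction hb using Submodule.span_induction with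
  | mem x hx =>
    obtain ⟨c, hc⟩ := Finset.dvd_prod_of_mem a hx
    rw [hc, mul_comm (a x), map_mul, mul_assoc, ha' x (Ideal.subset_span hx), mul_zero]
  | zero => rw [mul_zero]
  | add x y _ _ hx hy => rw [mul_add, hx, hy, add_zero]
  | smul a x _ hx => rw [smul_eq_mul, mul_left_comm, hx, mul_zero]

end affine

section kernel

variable [IsDedekindDomain A] {Y Yb : Scheme.{u}} (z : Y ⟶ Spec (CommRingCat.of A)) (i : Yb ⟶ Y)

theorem app_eq_zero_of_torsion [IsAffineHom i] (hflat : Flat (i ≫ z)) {W : Y.Opens} (hW : IsAffineOpen W)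
    (b : Γ(Y, W)) (h : ∃ a : A, a ≠ 0 ∧ sec z W a * b = 0) : i.app W b = 0 := by
  obtain ⟨a, ha, hab⟩ := h
  have hW' : IsAffineOpen (i ⁻¹ᵁ W) := hW.preimage i
  have h1 : (sec (i ≫ z) (i ⁻¹ᵁ W)).hom.Flat := by
    have h2 : ((i ≫ z).appLE ⊤ (i ⁻¹ᵁ W) le_top).hom.Flat :=
      Scheme.Hom.flat_appLE _ (isAffineOpen_top _) hW' _
    have h3 : sec (i ≫ z) (i ⁻¹ᵁ W) = (Scheme.ΓSpecIso (CommRingCat.of A)).inv ≫
      (i ≫ z).appLE ⊤ (i ⁻¹ᵁ W) le_top := rfl
    rw [h3, CommRingCat.hom_comp]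
    exact RingHom.Flat.comp (RingHom.Flat.of_bijective
      (ConcreteCategory.bijective_of_isIso (Scheme.ΓSpecIso (CommRingCat.of A)).inv)) h2
  algebraize [(sec (i ≫ z) (i ⁻¹ᵁ W)).hom]
  have h4 : sec (i ≫ z) (i ⁻¹ᵁ W) a * i.app W b = 0 := by
    rw [← sec_app z i W]
    have := congrArg (i.app W) hab
    rw [map_mul, map_zero] at this
    exact this
  have h5 : IsSMulRegular Γ(Yb, i ⁻¹ᵁ W) a :=
    Module.Flat.isSMulRegular_of_nonZeroDivisors (mem_nonZeroDivisors_of_ne_zero ha)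
  apply h5
  change a • i.app W b = a • (0 : Γ(Yb, i ⁻¹ᵁ W))
  rw [smul_zero, Algebra.smul_def]
  exact h4

theorem torsion_of_app_eq_zero
    (hup : ∀ (B' : CommRingCat.{u}) (r : Spec B' ⟶ Y), Flat (r ≫ z) → ∃ l : Spec B' ⟶ Yb, l ≫ i = r)
    {W : Y.Opens} (hW : IsAffineOpen W) (b : Γ(Y, W)) (hb : i.app W b = 0) :
    ∃ a : A, a ≠ 0 ∧ sec z W a * b = 0 := by
  let B := Γ(Y, W)
  let _ : Algebra A B := (sec z W).hom.toAlgebra
  let M := Algebra.algebraMapSubmonoid B (nonZeroDivisors A)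
  let BK := Localization M
  have htower : IsScalarTower A B BK := inferInstance
  have htf : Module.IsTorsionFree A BK := by
    refine .of_smul_eq_zero fun r x hrx => ?_
    by_contra hcon
    push Not at hcon
    obtain ⟨hr, hx⟩ := hcon
    have hu : IsUnit (algebraMap A BK r) := by
      rw [IsScalarTower.algebraMap_apply A B BK]
      exact IsLocalization.map_units BK (⟨algebraMap A B r, ⟨r, mem_nonZeroDivisors_of_ne_zero hr, rfl⟩⟩ : M)
    rw [Algebra.smul_def] at hrx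
    exact hx (hu.mul_right_eq_zero.1 hrx)
  have hfl : Module.Flat A BK := inferInstance
  let r : Spec (CommRingCat.of BK) ⟶ Y := Spec.map (CommRingCat.ofHom (algebraMap B BK)) ≫ hW.fromSpec
  have hWz : hW.fromSpec ≫ z = Spec.map (sec z W) := by
    rw [sec, Spec.map_comp, Spec.map_comp, ← hW.fromSpec_toSpecΓ, Category.assoc, Category.assoc,
      ← Category.assoc Y.toSpecΓ, ← Scheme.toSpecΓ_naturality, Category.assoc, toSpecΓ_SpecMap_ΓSpecIso_inv,
      Category.comp_id]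
  have hrz : r ≫ z = Spec.map (CommRingCat.ofHom (algebraMap A BK)) := by
    rw [Category.assoc, hWz, ← Spec.map_comp]
    congr 1
  obtain ⟨l, hl⟩ := hup (CommRingCat.of BK) r (by
    rw [hrz, Flat.SpecMap_iff]
    exact RingHom.flat_algebraMap_iff.2 hfl)
  have h1 : algebraMap B BK b = 0 := by
    have h2 : r.app W b = 0 := by
      have key : ∀ r' : Spec (CommRingCat.of BK) ⟶ Y, l ≫ i = r' → r'.app W b = 0 := by
        rintro _ rfl
        rw [Scheme.Hom.comp_app]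
        change l.app _ (i.app W b) = 0
        rw [hb, map_zero]
      exact key r hl
    have htop : (⊤ : (Spec (CommRingCat.of BK)).Opens) ≤ r ⁻¹ᵁ W := by
      intro x _
      change hW.fromSpec _ ∈ W
      rw [← SetLike.mem_coe, ← hW.range_fromSpec]
      exact ⟨_, rfl⟩
    have h4 : r.appLE W ⊤ htop b = 0 := by
      rw [Scheme.Hom.appLE]
      change (Spec (CommRingCat.of BK)).presheaf.map _ (r.app W b) = 0
      rw [h2, map_zero]
    have h5 : r.appLE W ⊤ htop = CommRingCat.ofHom (algebraMap B BK) ≫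
        (Scheme.ΓSpecIso (CommRingCat.of BK)).inv := by
      rw [Scheme.Hom.comp_appLE, hW.fromSpec_app_self, Category.assoc, Scheme.Hom.map_appLE,
        Scheme.ΓSpecIso_inv_naturality]
      congr 1
    rw [h5] at h4
    have h6 : (Scheme.ΓSpecIso (CommRingCat.of BK)).inv (algebraMap B BK b) = 0 := h4
    have h7 := congrArg (Scheme.ΓSpecIso (CommRingCat.of BK)).hom h6
    rw [map_zero, ← ConcreteCategory.comp_apply, Iso.inv_hom_id] at h7
    exact h7
  obtain ⟨⟨m, a, ha, rfl⟩, hm⟩ := (IsLocalization.map_eq_zero_iff M BK b).1 h1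
  exact ⟨a, nonZeroDivisors.ne_zero ha, hm⟩

omit [IsDedekindDomain A] in
theorem isUnit_phi_iff (y : Y) (a : A) : IsUnit (phi z y a) ↔ a ∉ (z y).asIdeal := by
  change IsUnit (Y.presheaf.germ ⊤ y trivial (z.appTop ((Scheme.ΓSpecIso (CommRingCat.of A)).inv a))) ↔ _
  rw [← Scheme.mem_basicOpen_top, ← Scheme.preimage_basicOpen_top, basicOpen_eq_of_affine]
  rfl

omit [IsDedekindDomain A] in
theorem mem_basicOpen_sec_iff {W : Y.Opens} (y : Y) (hy : y ∈ W) (a : A) :
    y ∈ Y.basicOpen (sec z W a) ↔ a ∉ (z y).asIdeal := by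
  rw [← isUnit_phi_iff, Scheme.mem_basicOpen _ _ _ hy, ← sec_germ z W y hy]
  rfl

omit [IsDedekindDomain A] in
theorem tf_of_generic (y : Y) (hy : (z y).asIdeal = ⊥) : TF z y := by
  intro a ha
  exact ((isUnit_phi_iff z y a).2 (by rw [hy]; exact ha)).mem_nonZeroDivisors

/-- the kernel of a finitely presented closed immersion -/
theorem fg_ker [IsClosedImmersion i] [LocallyOfFinitePresentation i] {W : Y.Opens} (hW : IsAffineOpen W) :
    (RingHom.ker (i.app W).hom).FG := by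
  have h1 : (i.appLE W (i ⁻¹ᵁ W) le_rfl).hom.FinitePresentation :=
    Scheme.Hom.finitePresentation_appLE i hW (hW.preimage i) le_rfl
  have h2 : i.appLE W (i ⁻¹ᵁ W) le_rfl = i.app W := Scheme.Hom.appLE_eq_app _
  rw [h2] at h1
  have hs : Function.Surjective (i.app W) := Scheme.Hom.app_surjective i W hW
  algebraize [(i.app W).hom]
  exact Algebra.FinitePresentation.ker_fG_of_surjective (R := Γ(Y, W)) (A := Γ(Y, W)) (B := Γ(Yb, i ⁻¹ᵁ W))
    (Algebra.ofId Γ(Y, W) Γ(Yb, i ⁻¹ᵁ W)) hs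

variable [IsClosedImmersion i] [LocallyOfFinitePresentation i]

omit [IsDedekindDomain A] [LocallyOfFinitePresentation i] in
theorem tf_subset_range
    (h2 : ∀ (W : Y.Opens), IsAffineOpen W → ∀ b : Γ(Y, W), i.app W b = 0 → ∃ a : A, a ≠ 0 ∧ sec z W a * b = 0)
    {y : Y} (hy : TF z y) : y ∈ Set.range i := by
  by_contra hcon
  let C : Y.Opens := ⟨(Set.range i)ᶜ, i.isClosedEmbedding.isClosed_range.isOpen_compl⟩
  obtain ⟨W, hW, hyW, hWC⟩ := exists_isAffineOpen_mem_and_subset (U := C) (x := y) hcon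
  have h3 : i ⁻¹ᵁ W = ⊥ := by
    refine eq_bot_iff.2 fun x hx => ?_
    exact hWC hx ⟨x, rfl⟩
  have h4 : i.app W 1 = 0 := by
    have : Subsingleton Γ(Yb, i ⁻¹ᵁ W) := by
      rw [h3]
      infer_instance
    exact Subsingleton.elim _ _
  obtain ⟨a, ha, hab⟩ := h2 W hW 1 h4
  rw [mul_one] at hab
  have h5 := hy a ha
  rw [← sec_germ z W y hyW] at h5
  have h6 : (Y.presheaf.germ W y hyW) (sec z W a) ∈ nonZeroDivisors (Y.presheaf.stalk y) := h5
  rw [hab, map_zero] at h6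
  exact zero_notMem_nonZeroDivisors h6

omit [IsDedekindDomain A] in
theorem isOpen_tf
    (h1 : ∀ (W : Y.Opens), IsAffineOpen W → ∀ b : Γ(Y, W), (∃ a : A, a ≠ 0 ∧ sec z W a * b = 0) → i.app W b = 0)
    (h2 : ∀ (W : Y.Opens), IsAffineOpen W → ∀ b : Γ(Y, W), i.app W b = 0 → ∃ a : A, a ≠ 0 ∧ sec z W a * b = 0) :
    IsOpen {y : Y | TF z y} := by
  rw [isOpen_iff_forall_mem_open]
  intro y hy
  obtain ⟨W, hW, hyW, -⟩ := exists_isAffineOpen_mem_and_subset (U := (⊤ : Y.Opens)) (x := y) trivial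
  obtain ⟨s, hs, hs'⟩ := exists_of_tf z hW (fg_ker i hW) (fun b hb => h2 W hW b hb) y hyW hy
  refine ⟨Y.basicOpen s, fun y' hy' => ?_, (Y.basicOpen s).2, hs⟩
  exact tf_of_exists z hW (T := RingHom.ker (i.app W).hom) (fun b hb => h1 W hW b hb) y'
    (Y.basicOpen_le s hy') s hy' hs'

theorem isOpen_tf_union
    (h1 : ∀ (W : Y.Opens), IsAffineOpen W → ∀ b : Γ(Y, W), (∃ a : A, a ≠ 0 ∧ sec z W a * b = 0) → i.app W b = 0)
    (h2 : ∀ (W : Y.Opens), IsAffineOpen W → ∀ b : Γ(Y, W), i.app W b = 0 → ∃ a : A, a ≠ 0 ∧ sec z W a * b = 0)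
    (s : Spec (CommRingCat.of A)) :
    IsOpen ({y : Y | TF z y} ∪ z ⁻¹' {s}) := by
  rw [isOpen_iff_forall_mem_open]
  rintro y (hy | hy)
  · exact ⟨_, Set.subset_union_left, isOpen_tf z i h1 h2, hy⟩
  obtain ⟨W, hW, hyW, -⟩ := exists_isAffineOpen_mem_and_subset (U := (⊤ : Y.Opens)) (x := y) trivial
  obtain ⟨a, ha, haT⟩ := exists_annihilator z (fg_ker i hW) (fun b hb => h2 W hW b hb)
  -- the finite set of primes containing `a` other than `s`
  let C : Set (Spec (CommRingCat.of A)) := {x | a ∈ x.asIdeal ∧ x ≠ s}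
  have hfin : C.Finite := by
    have h3 := Ideal.finite_factors (R := A) (I := Ideal.span {a}) (by
      rwa [Ideal.zero_eq_bot, Ne, Ideal.span_singleton_eq_bot])
    refine Set.Finite.of_finite_image (f := fun x => x.asIdeal) ((h3.image fun v => v.asIdeal).subset ?_) ?_
    · rintro _ ⟨x, ⟨hx, -⟩, rfl⟩
      refine ⟨⟨x.asIdeal, x.isPrime, ?_⟩, ?_, rfl⟩
      · rintro h
        rw [h] at hx
        exact ha hx
      · exact Ideal.dvd_iff_le.2 ((Ideal.span_singleton_le_iff_mem _).2 hx)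
    · intro x _ x' _ h
      exact PrimeSpectrum.ext h
  have hC : IsClosed C := by
    have h4 : C = ⋃ x ∈ C, {x} := by simp
    rw [h4]
    refine hfin.isClosed_biUnion fun x hx => ?_
    refine (PrimeSpectrum.isClosed_singleton_iff_isMaximal x).2 ?_
    refine Ring.DimensionLEOne.maximalOfPrime (fun h => ?_) x.isPrime
    have := hx.1
    rw [h] at this
    exact ha this
  refine ⟨W ∩ z ⁻¹' Cᶜ, ?_, W.2.inter (hC.isOpen_compl.preimage z.continuous), hyW, ?_⟩
  · rintro y' ⟨hyW', hy'⟩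
    by_cases hs : z y' = s
    · exact Or.inr hs
    · left
      have h5 : a ∉ (z y').asIdeal := fun h => hy' ⟨h, hs⟩
      exact tf_of_exists z hW (T := RingHom.ker (i.app W).hom) (fun b hb => h1 W hW b hb) y'
        hyW' (sec z W a) ((mem_basicOpen_sec_iff z y' hyW' a).2 h5) haT
  · intro h
    exact h.2 hy

end kernel

end K651.TorFree
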