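import Groth.Agent.AlgSp.K651.PinchMain
import Groth.Agent.AlgSp.K651.TorFree

/-!
# Representability over a Dedekind base from the flat closure and the fibres
-/

set_option autoImplicit false
universe u

open CategoryTheory CategoryTheory.Limits AlgebraicGeometry Opposite

namespace K651.DedPinch

open AlgSp K613.Basic K628.Fqc K651.FpqcSh K651.Pinch K651.FibPinch K651.FlatClosure K651.TorFree K625.Prod
  K651.PinchMain

variable {A : Type u} [CommRing A] [IsDedekindDomain A]

/-- Over a locally Noetherian base finite type implies finite presentation. -/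
theorem lfp_of_lft {Z S : Scheme.{u}} (f : Z ⟶ S)
    [IsLocallyNoetherian S] [LocallyOfFiniteType f] : LocallyOfFinitePresentation f := by
  rw [HasRingHomProperty.iff_appLE (P := @LocallyOfFinitePresentation)]
  intro U V e
  have := IsLocallyNoetherian.component_noetherian U
  have h := f.finiteType_appLE U.2 V.2 e
  algebraize [(f.appLE U V e).hom]
  exact RingHom.finitePresentation_algebraMap.mpr (Algebra.FinitePresentation.of_finiteType.mp ‹_›)

/-- A monomorphism which is the universal flat one is a closed immersion. -/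
theorem isClosedImmersion_of_up {Y Y₂ : Scheme.{u}} (z : Y ⟶ Spec (CommRingCat.of A)) (ι : Y₂ ⟶ Y) [Mono ι]
    (hflat : Flat (ι ≫ z)) (hup : ∀ (B : Scheme.{u}) (r : B ⟶ Y), Flat (r ≫ z) → ∃ l : B ⟶ Y₂, l ≫ ι = r) :
    IsClosedImmersion ι := by
  obtain ⟨Xb, i, hi, hXb, hi1, -⟩ := exists_flatImage (Over.mk z)
  obtain ⟨l, hl⟩ := hup Xb.left i.left (by
    have : i.left ≫ z = Xb.hom := Over.w i
    rw [this]; exact hXb)
  obtain ⟨l', hl'⟩ := hi1 (Over.mk (ι ≫ z)) hflat (Over.homMk ι rfl)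
  have hl'' : l'.left ≫ i.left = ι := congrArg (fun f => f.left) hl'
  have hmi : Mono i.left := inferInstance
  have h1 : l ≫ l'.left = 𝟙 _ := by
    rw [← cancel_mono i.left, Category.assoc, hl'', hl, Category.id_comp]
  have h2 : l'.left ≫ l = 𝟙 _ := by
    rw [← cancel_mono ι, Category.assoc, hl, hl'', Category.id_comp]
  have hiso : IsIso l'.left := ⟨l, h2, h1⟩
  rw [← hl'']
  infer_instance

variable {S : Scheme.{u}} {G : Sp S} {Z Z' X' : Over S} {f : G ⟶ (yon S).obj Z} {c : Z' ⟶ Z}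
  {p : (yon S).obj X' ⟶ G} {q : X' ⟶ Z'}

omit [IsDedekindDomain A] in
theorem stable_tf (hc : FqC c) (sq : IsPullback p ((yon S).map q) f ((yon S).map c))
    (e : Z.left ⟶ Spec (CommRingCat.of A)) : Stable p {y : X'.left | TF ((q ≫ c).left ≫ e) y} := by
  obtain ⟨X₂, ρ, ι, g, hg, h, b⟩ := exists_bc sq p
  have hfρ : Flat ρ.left := (hc.of_isPullback b.flip).flat
  have hfι : Flat ι.left := (hc.of_isPullback (isPullback_of_sq sq h.flip hg).flip).flat
  have hpf : p ≫ f = (yon S).map (q ≫ c) := by rw [sq.w, Functor.map_comp]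
  have hw : ρ ≫ q ≫ c = ι ≫ q ≫ c := by
    apply (yon S).map_injective
    rw [Functor.map_comp, (yon S).map_comp ι (q ≫ c), ← hpf, ← Category.assoc, h.w, Category.assoc]
  intro R a b hab r hr
  obtain ⟨l, hl⟩ := (yon S).map_surjective (h.lift _ _ hab)
  have hl1 : l ≫ ρ = a := by
    apply (yon S).map_injective
    rw [Functor.map_comp, hl, h.lift_fst]
  have hl2 : l ≫ ι = b := by
    apply (yon S).map_injective
    rw [Functor.map_comp, hl, h.lift_snd]
  have h1 : a.left r = ρ.left (l.left r) := by rw [← hl1]; rfl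
  have h2 : b.left r = ι.left (l.left r) := by rw [← hl2]; rfl
  rw [Set.mem_ofPred_eq, h1, tf_iff_of_flat] at hr
  rw [Set.mem_ofPred_eq, h2, tf_iff_of_flat]
  have h3 : ρ.left ≫ (q ≫ c).left ≫ e = ι.left ≫ (q ≫ c).left ≫ e := by
    rw [← Category.assoc, ← Over.comp_left, hw, Over.comp_left, Category.assoc]
  rwa [← h3]

theorem stable_fibre (sq : IsPullback p ((yon S).map q) f ((yon S).map c)) (C : Set Z.left) :
    Stable p ((q ≫ c).left ⁻¹' C) := by
  have hpf : p ≫ f = (yon S).map (q ≫ c) := by rw [sq.w, Functor.map_comp]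
  intro R a b hab r hr
  have hw : a ≫ q ≫ c = b ≫ q ≫ c := by
    apply (yon S).map_injective
    rw [Functor.map_comp, (yon S).map_comp b (q ≫ c), ← hpf, ← Category.assoc, hab, Category.assoc]
  change (b ≫ q ≫ c).left r ∈ C
  rw [← hw]
  exact hr

/-- **Representability over a Dedekind base.** -/
theorem exists_rep (hG : IsFpqcSh G) (hc : FqC c) (haff : IsAffine Z'.left)
    (sq : IsPullback p ((yon S).map q) f ((yon S).map c)) (hq : LocallyOfFinitePresentation q.left)
    (e : Z.left ≅ Spec (CommRingCat.of A))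
    (hbar : ∃ (Gb : Over S) (j : (yon S).obj Gb ⟶ G) (g : Gb ⟶ Z), (yon S).map g = j ≫ f ∧ Flat g.left ∧ Mono j ∧
      ∀ (Y : Over S) (y : Y ⟶ Z) (a : (yon S).obj Y ⟶ G), a ≫ f = (yon S).map y → Flat y.left →
        ∃ b : Y ⟶ Gb, (yon S).map b ≫ j = a)
    (hinf : ∀ s : Z.left, IsClosed ({s} : Set Z.left) → ∃ (D G₁ : Over S) (d : D ⟶ Z)
      (j₁ : (yon S).obj G₁ ⟶ G) (d₁ : G₁ ⟶ D), IsClosedImmersion d.left ∧ Set.range d.left = {s} ∧
        IsPullback j₁ ((yon S).map d₁) f ((yon S).map d)) :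
    ∃ (X : Over S), Nonempty ((yon S).obj X ≅ G) := by
  obtain ⟨Gb, j, g, hg, hgf, hj, hup⟩ := hbar
  have hZ : IsAffine Z.left := .of_isIso e.hom
  have hca : IsAffineHom c.left := inferInstance
  obtain ⟨X₂, ρ₂, ι₂, g₂, hg₂, sq₂, b₂⟩ := exists_bc sq j
  obtain rfl : g₂ = g := (yon S).map_injective (by rw [hg₂, hg])
  have hρ₂ : FqC ρ₂ := hc.of_isPullback b₂.flip
  have hfρ₂ := hρ₂.flat
  have haρ₂ : IsAffineHom ρ₂.left :=
    MorphismProperty.of_isPullback (P := @IsAffineHom) (b₂.map (Over.forget S)).flip hca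
  let z : X'.left ⟶ Spec (CommRingCat.of A) := (q ≫ c).left ≫ e.hom
  have hm : Mono ((yon S).map ι₂) := (MorphismProperty.monomorphisms _).of_isPullback sq₂ hj
  have hm' : Mono ι₂ := (yon S).mono_of_mono_map hm
  have hm'' : Mono ι₂.left := inferInstance
  have hpf : p ≫ f = (yon S).map (q ≫ c) := by rw [sq.w, Functor.map_comp]
  have hw : ι₂ ≫ q ≫ c = ρ₂ ≫ g₂ := by
    rw [← Category.assoc]
    exact b₂.w.symm
  have hfl : Flat (ι₂.left ≫ z) := by
    have h1 : ι₂.left ≫ z = (ρ₂ ≫ g₂).left ≫ e.hom := by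
      rw [← hw]; simp [z]
    rw [h1, Over.comp_left]
    infer_instance
  have hup2 : ∀ (B : Scheme.{u}) (r : B ⟶ X'.left), Flat (r ≫ z) → ∃ l : B ⟶ X₂.left, l ≫ ι₂.left = r := by
    intro B r hr
    let B' : Over S := Over.mk (r ≫ X'.hom)
    let r' : B' ⟶ X' := Over.homMk r rfl
    obtain ⟨b, hb⟩ := hup B' (r' ≫ q ≫ c) ((yon S).map r' ≫ p) (by
      rw [Category.assoc, hpf, ← Functor.map_comp]) (by
      have h2 : (r' ≫ q ≫ c).left = (r ≫ z) ≫ e.inv := by
        simp [z, r']
      rw [h2]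
      infer_instance)
    obtain ⟨l, hl⟩ := (yon S).map_surjective (sq₂.lift _ _ hb)
    have hl1 : l ≫ ι₂ = r' := by
      apply (yon S).map_injective
      rw [Functor.map_comp, hl, sq₂.lift_snd]
    exact ⟨l.left, congrArg (fun f => f.left) hl1⟩
  have hι₂ : IsClosedImmersion ι₂.left := isClosedImmersion_of_up z ι₂.left hfl hup2
  -- finite presentation of `ι₂`
  have hlfp : LocallyOfFinitePresentation ι₂.left := by
    have h1 : LocallyOfFiniteType (ι₂ ≫ q).left := by
      rw [Over.comp_left]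
      infer_instance
    have h2 : LocallyOfFiniteType g₂.left :=
      MorphismProperty.of_isPullback_of_descendsAlong (P := @LocallyOfFiniteType)
        (Q := (@Surjective ⊓ @Flat ⊓ @QuasiCompact : MorphismProperty Scheme.{u}))
        (b₂.map (Over.forget S)).flip hc.mem h1
    have hN : IsLocallyNoetherian (Spec (CommRingCat.of A)) := inferInstance
    have hNZ : IsLocallyNoetherian Z.left := isLocallyNoetherian_of_isOpenImmersion e.hom
    have h3 : LocallyOfFinitePresentation g₂.left := lfp_of_lft _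
    have h4 : LocallyOfFinitePresentation (ι₂ ≫ q).left :=
      MorphismProperty.of_isPullback (P := @LocallyOfFinitePresentation) (b₂.map (Over.forget S)) h3
    rw [Over.comp_left] at h4
    exact Groth.Agent.Ega43.FPOfComp.locallyOfFinitePresentation_of_comp ι₂.left q.left
  have k1 : ∀ (W : X'.left.Opens), IsAffineOpen W → ∀ b : Γ(X'.left, W),
      (∃ a : A, a ≠ 0 ∧ sec z W a * b = 0) → ι₂.left.app W b = 0 :=
    fun W hW b hb => app_eq_zero_of_torsion z ι₂.left hfl hW b hb
  have k2 : ∀ (W : X'.left.Opens), IsAffineOpen W → ∀ b : Γ(X'.left, W),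
      ι₂.left.app W b = 0 → ∃ a : A, a ≠ 0 ∧ sec z W a * b = 0 :=
    fun W hW b hb => torsion_of_app_eq_zero z ι₂.left (fun B r hr => hup2 _ r hr) hW b hb
  have hTs : Stable p {y : X'.left | TF z y} := stable_tf hc sq e.hom
  refine exists_rep_of_pinch hG hc haff sq fun x => ?_
  by_cases hx : TF z x
  · refine ⟨Gb, Gb, Gb, X₂, X₂, j, j, 𝟙 _, 𝟙 _, ρ₂, ι₂, ρ₂, ι₂, {y | TF z y}ᶜ, ?_, ?_, ?_, sq₂, sq₂, hι₂, hι₂,
      haρ₂, haρ₂, (isOpen_tf z ι₂.left k1 k2).isClosed_compl, hTs.compl, fun y hy => Or.inl ?_, fun h => h hx⟩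
    · rw [(yon S).map_id]
      exact IsKernelPair.id_of_mono j
    · rw [Over.id_left]; infer_instance
    · rw [Over.id_left]; infer_instance
    · exact tf_subset_range z ι₂.left k2 (not_not.1 hy)
  · have hs : (z x).asIdeal ≠ ⊥ := fun h => hx (tf_of_generic z x h)
    have hs' : IsClosed ({z x} : Set (Spec (CommRingCat.of A))) :=
      (PrimeSpectrum.isClosed_singleton_iff_isMaximal (z x)).2
        (Ring.DimensionLEOne.maximalOfPrime hs (z x).isPrime)
    have hs'' : IsClosed ({(q ≫ c).left x} : Set Z.left) := by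
      have : ({(q ≫ c).left x} : Set Z.left) = e.hom ⁻¹' {z x} := by
        ext y
        simp only [Set.mem_singleton_iff, Set.mem_preimage, z, Scheme.Hom.comp_apply]
        exact ⟨fun h => by rw [h], fun h => (ConcreteCategory.bijective_of_isIso (e.hom.base)).1 h⟩
      rw [this]
      exact hs'.preimage e.hom.continuous
    obtain ⟨D, G₁, d, j₁, d₁, hd, hdr, sq1⟩ := hinf _ hs''
    obtain ⟨G₁₂, X₁, k₁, k₂, ρ₁, ι₁, h12, hk₁, hk₂, sq₁, hι₁, hρ₁, hρ₂', hcov⟩ :=
      exists_pieces hc hca sq hd sq1 sq₂ hι₂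
    refine ⟨G₁, Gb, G₁₂, X₁, X₂, j₁, j, k₁, k₂, ρ₁, ι₁, ρ₂, ι₂, ({y | TF z y} ∪ z ⁻¹' {z x})ᶜ, h12, hk₁, hk₂,
      sq₁, sq₂, hι₁, hι₂, hρ₁, hρ₂', (isOpen_tf_union z ι₂.left k1 k2 (z x)).isClosed_compl, ?_,
      fun y hy => ?_, fun h => h (Or.inr rfl)⟩
    · refine (hTs.union ?_).compl
      have := stable_fibre sq (e.hom ⁻¹' {z x})
      exact this
    · rcases not_not.1 hy with hy | hy
      · exact Or.inr (tf_subset_range z ι₂.left k2 hy)
      · refine Or.inl (hcov y ?_)
        rw [hdr]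
        have h5 : e.hom ((q ≫ c).left y) = e.hom ((q ≫ c).left x) := hy
        exact (ConcreteCategory.bijective_of_isIso (e.hom.base)).1 h5

end K651.DedPinch
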