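import Mathlib.RingTheory.QuasiFinite.Basic
import Mathlib.FieldTheory.Normal.Closure
import Mathlib.FieldTheory.IsAlgClosed.AlgebraicClosure
import Mathlib.RingTheory.DedekindDomain.AdicValuation
import Mathlib.RingTheory.DedekindDomain.IntegralClosure
import Mathlib.RingTheory.Ideal.GoingDown
import Mathlib.RingTheory.Valuation.LocalSubring
import Mathlib.RingTheory.Localization.AsSubring
import Groth.Agent.Ega2.KrullAkizuki

/-!
# Normal extensions of the fraction field of a discrete valuation ring and points of flat algebras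
-/

set_option autoImplicit false
universe u

namespace K651.NormCov

section lemma2

variable (A : Type u) [CommRing A] [IsDomain A]

/-- A quasi-finite flat algebra has a point in a valuation ring of a finite normal extension. -/
theorem exists_valuationSubring (D : Type u) [CommRing D] [Algebra A D] [Algebra.QuasiFinite A D] [Module.Flat A D]
    (𝔫 : Ideal D) [𝔫.IsPrime] :
    ∃ (K₁ : Type u) (_ : Field K₁) (_ : Algebra A K₁) (_ : Algebra (FractionRing A) K₁)
      (_ : IsScalarTower A (FractionRing A) K₁) (_ : FiniteDimensional (FractionRing A) K₁)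
      (_ : Normal (FractionRing A) K₁) (ψ : D →ₐ[A] K₁) (V : ValuationSubring K₁),
      (∀ d, ψ d ∈ V) ∧ ∀ d ∈ 𝔫, ψ d ∈ V.nonunits := by
  let K := FractionRing A
  obtain ⟨P, hP, hPp, hPb⟩ := Ideal.exists_ideal_le_liesOver_of_le (p := (⊥ : Ideal A)) (q := 𝔫.under A) 𝔫 bot_le
  let L := P.ResidueField
  have hinj : Function.Injective (algebraMap A L) := by
    rw [injective_iff_map_eq_zero]
    intro a ha
    rw [IsScalarTower.algebraMap_apply A D L] at ha
    have h1 : algebraMap A D a ∈ P := Ideal.algebraMap_residueField_eq_zero.1 ha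
    have h2 : a ∈ P.under A := h1
    rw [← hPb.over] at h2
    exact h2
  have hfs : FaithfulSMul A L := (faithfulSMul_iff_algebraMap_injective A L).2 hinj
  let _ : Algebra K L := FractionRing.liftAlgebra A L
  have : IsScalarTower A K L := inferInstance
  have : Algebra.QuasiFinite K L := Algebra.QuasiFinite.of_restrictScalars A K L
  have : Module.Finite K L := Module.Finite.of_quasiFinite
  let K₁ := IntermediateField.normalClosure K L (AlgebraicClosure L)
  let _ : Algebra A K₁ := ((algebraMap K K₁).comp (algebraMap A K)).toAlgebra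
  have hst : IsScalarTower A K K₁ := IsScalarTower.of_algebraMap_eq' rfl
  let ψ : D →ₐ[A] K₁ :=
    { toRingHom := (algebraMap L K₁).comp (algebraMap D L)
      commutes' := fun a => by
        change algebraMap L K₁ (algebraMap D L (algebraMap A D a)) = algebraMap K K₁ (algebraMap A K a)
        rw [← IsScalarTower.algebraMap_apply A D L, IsScalarTower.algebraMap_apply A K L,
          ← IsScalarTower.algebraMap_apply K L K₁] }
  have hψ : ∀ d, ψ d = 0 → d ∈ P := fun d hd => by
    have h3 : algebraMap L K₁ (algebraMap D L d) = 0 := hd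
    have h4 : algebraMap D L d = 0 := (algebraMap L K₁).injective (by rw [h3, map_zero])
    exact Ideal.algebraMap_residueField_eq_zero.1 h4
  obtain ⟨V, hV1, hV2⟩ := Ideal.image_subset_nonunits_valuationSubring
    (A := ψ.toRingHom.range) (𝔫.map ψ.toRingHom.rangeRestrict) (by
      rw [Ne, Ideal.eq_top_iff_one]
      intro h1
      obtain ⟨n, hn, hn'⟩ := (Ideal.mem_map_iff_of_surjective _ ψ.toRingHom.rangeRestrict_surjective).1 h1
      have h5 : ψ (1 - n) = 0 := by
        have h6 : ψ n = 1 := congrArg Subtype.val hn'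
        rw [map_sub, map_one, h6, sub_self]
      have h7 : (1 : D) ∈ 𝔫 := by
        have := 𝔫.add_mem (hP (hψ _ h5)) hn
        simpa using this
      exact Ideal.IsPrime.ne_top' (I := 𝔫) ((Ideal.eq_top_iff_one _).2 h7))
  refine ⟨K₁, inferInstance, inferInstance, inferInstance, hst, inferInstance, inferInstance, ψ, V, ?_, ?_⟩
  · exact fun d => hV1 ⟨d, rfl⟩
  · intro d hd
    exact hV2 ⟨⟨ψ d, ⟨d, rfl⟩⟩, Ideal.mem_map_of_mem _ hd, rfl⟩

end lemma2

section lemma3

variable (A : Type u) [CommRing A] [IsDomain A] [IsDiscreteValuationRing A] (K₁ : Type u) [Field K₁]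
  [Algebra A K₁] [Algebra (FractionRing A) K₁] [IsScalarTower A (FractionRing A) K₁]
  [FiniteDimensional (FractionRing A) K₁]

/-- the integral closure of a discrete valuation ring in a finite extension is Dedekind (Krull-Akizuki) -/
theorem isDedekindDomain : IsDedekindDomain (integralClosure A K₁) := by
  have h1 : IsNoetherianRing (integralClosure A K₁) :=
    Groth.Agent.Ega2.KrullAkizuki.isNoetherianRing A (FractionRing A) K₁ Subtype.val_injective
  have h3 : Ring.DimensionLEOne (integralClosure A K₁) := inferInstance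
  have h4 : IsIntegrallyClosed (integralClosure A K₁) :=
    integralClosure.isIntegrallyClosedOfFiniteExtension (FractionRing A)
  have h5 : IsDedekindRing (integralClosure A K₁) := { }
  exact { }

theorem isFractionRing : IsFractionRing (integralClosure A K₁) K₁ :=
  IsIntegralClosure.isFractionRing_of_finite_extension A (FractionRing A) K₁ _

variable {A K₁}

/-- The centre of a valuation ring dominating the base. -/
theorem exists_prime (V : ValuationSubring K₁) (hV : ∀ a : A, algebraMap A K₁ a ∈ V)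
    (hm : ∀ a ∈ IsLocalRing.maximalIdeal A, algebraMap A K₁ a ∈ V.nonunits) :
    ∃ (𝔪₀ : Ideal (integralClosure A K₁)) (_ : 𝔪₀.IsPrime),
      𝔪₀.comap (algebraMap A (integralClosure A K₁)) = IsLocalRing.maximalIdeal A ∧
      ∀ x ∈ V, ∃ a s : integralClosure A K₁, s ∉ 𝔪₀ ∧ x * s = a := by
  have hded := isDedekindDomain A K₁
  have hfrac := isFractionRing A K₁
  -- the integral closure is contained in `V`
  have hle : ∀ x : integralClosure A K₁, (x : K₁) ∈ V := by
    intro x
    let f : A →+* V := (algebraMap A K₁).codRestrict V.toSubring hV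
    let _ : Algebra A V := f.toAlgebra
    have : IsScalarTower A V K₁ := IsScalarTower.of_algebraMap_eq' rfl
    have h1 : IsIntegral V (x : K₁) := x.2.tower_top
    obtain ⟨y, hy⟩ := (IsIntegrallyClosed.isIntegral_iff (R := V) (K := K₁)).1 h1
    rw [← hy]
    exact y.2
  let j : integralClosure A K₁ →+* V := (algebraMap (integralClosure A K₁) K₁).codRestrict V.toSubring hle
  let 𝔪₀ : Ideal (integralClosure A K₁) := (IsLocalRing.maximalIdeal V).comap j
  have h𝔪 : ∀ x, x ∈ 𝔪₀ ↔ (x : K₁) ∈ V.nonunits := fun x => (V.coe_mem_nonunits_iff (a := j x)).symm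
  have hprime : 𝔪₀.IsPrime := inferInstance
  have hcomap : 𝔪₀.comap (algebraMap A (integralClosure A K₁)) = IsLocalRing.maximalIdeal A := by
    symm
    refine (IsLocalRing.maximalIdeal.isMaximal A).eq_of_le (Ideal.IsPrime.ne_top inferInstance) fun a ha => ?_
    rw [Ideal.mem_comap, h𝔪]
    exact hm a ha
  refine ⟨𝔪₀, hprime, hcomap, ?_⟩
  have hbot : 𝔪₀ ≠ ⊥ := by
    rintro hb
    obtain ⟨c, hc, hc0⟩ := Submodule.exists_mem_ne_zero_of_ne_bot (IsDiscreteValuationRing.not_a_field A)
    rw [← hcomap, Ideal.mem_comap, hb, Ideal.mem_bot] at hc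
    apply hc0
    have h2 : algebraMap A K₁ c = 0 := by
      have := congrArg (Subtype.val) hc
      simpa using this
    rw [IsScalarTower.algebraMap_apply A (FractionRing A) K₁, map_eq_zero] at h2
    exact (map_eq_zero_iff _ (IsFractionRing.injective A (FractionRing A))).1 h2
  let v : IsDedekindDomain.HeightOneSpectrum (integralClosure A K₁) := ⟨𝔪₀, hprime, hbot⟩
  let W := v.valuationSubringAtPrime K₁
  have hW : ∀ x ∈ W, ∃ a s : integralClosure A K₁, s ∉ 𝔪₀ ∧ x = a * (s : K₁)⁻¹ := by
    rintro x ⟨a, s, hs, rfl⟩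
    exact ⟨a, s, hs, rfl⟩
  have hne : ∀ s : integralClosure A K₁, s ∉ 𝔪₀ → (s : K₁) ≠ 0 := by
    intro s hs h0
    apply hs
    have : s = 0 := Subtype.ext h0
    rw [this]
    exact 𝔪₀.zero_mem
  intro x hx
  rcases W.mem_or_inv_mem x with h1 | h1
  · obtain ⟨a, s, hs, hxs⟩ := hW x h1
    exact ⟨a, s, hs, by rw [hxs, mul_assoc, inv_mul_cancel₀ (hne s hs), mul_one]⟩
  · obtain ⟨a, s, hs, hxs⟩ := hW _ h1
    by_cases hx0 : x = 0
    · exact ⟨0, 1, fun h => hprime.ne_top ((Ideal.eq_top_iff_one _).2 h), by simp [hx0]⟩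
    by_cases ha : a ∈ 𝔪₀
    · exfalso
      have h2 : V.valuation x ≤ 1 := (V.valuation_le_one_iff x).2 hx
      have h3 : V.valuation (a : K₁) < 1 := (h𝔪 a).1 ha
      have h4 : V.valuation (s : K₁) = 1 := by
        apply le_antisymm ((V.valuation_le_one_iff _).2 (hle s))
        by_contra h5
        exact hs ((h𝔪 s).2 (not_le.1 h5))
      have h5 : V.valuation x⁻¹ < 1 := by
        rw [hxs, map_mul, map_inv₀, h4, inv_one, mul_one]
        exact h3
      have h6 : V.valuation (x * x⁻¹) < 1 := by
        rw [map_mul]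
        exact (mul_le_mul' h2 le_rfl).trans_lt (by rw [one_mul]; exact h5)
      rw [mul_inv_cancel₀ hx0, map_one] at h6
      exact lt_irrefl _ h6
    · refine ⟨s, a, ha, ?_⟩
      have h7 : (a : K₁) = x⁻¹ * s := by rw [hxs, mul_assoc, inv_mul_cancel₀ (hne s hs), mul_one]
      rw [h7, ← mul_assoc, mul_inv_cancel₀ hx0, one_mul]

end lemma3

section transitivity

variable (K L : Type u) [Field K] [Field L] [Algebra K L] [FiniteDimensional K L] [Normal K L]

/-- In a normal extension an element fixed by all automorphisms is purely inseparable. -/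
theorem exists_pow_mem (x : L) (hx : ∀ σ : L ≃ₐ[K] L, σ x = x) :
    ∃ n : ℕ, 0 < n ∧ x ^ n ∈ (algebraMap K L).range := by
  have hxi : IsIntegral K x := Algebra.IsIntegral.isIntegral x
  let f := (minpoly K x).map (algebraMap K L)
  have hf : f.Splits := Normal.splits inferInstance x
  have hm : f.Monic := (minpoly.monic hxi).map _
  have hroots : f.roots = Multiset.replicate f.natDegree x := by
    rw [Multiset.eq_replicate]
    refine ⟨(Polynomial.splits_iff_card_roots.1 hf), fun y hy => ?_⟩
    have h1 : Polynomial.aeval y (minpoly K x) = 0 := by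
      rw [Polynomial.mem_roots hm.ne_zero, Polynomial.IsRoot, Polynomial.eval_map_algebraMap] at hy
      exact hy
    obtain ⟨σ, hσ⟩ := minpoly.exists_algEquiv_of_root' hxi.isAlgebraic h1
    rw [← hσ, hx]
  have h2 := hf.coeff_zero_eq_prod_roots_of_monic hm
  rw [hroots, Multiset.prod_replicate] at h2
  refine ⟨f.natDegree, ?_, ?_⟩
  · rw [(minpoly.monic hxi).natDegree_map]
    exact minpoly.natDegree_pos hxi
  · refine ⟨(-1) ^ f.natDegree * (minpoly K x).coeff 0, ?_⟩
    have h3 : algebraMap K L ((minpoly K x).coeff 0) = f.coeff 0 := (Polynomial.coeff_map _ _).symm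
    rw [map_mul, h3, h2, map_pow, map_neg, map_one, ← mul_assoc, ← mul_pow]
    simp

/-- The automorphism group acts transitively on the maximal ideals with the same trace. -/
theorem exists_sigma (A K₁ : Type u) [CommRing A] [IsDomain A] [IsIntegrallyClosed A] [Field K₁]
    [Algebra A K₁] [Algebra (FractionRing A) K₁] [IsScalarTower A (FractionRing A) K₁]
    [FiniteDimensional (FractionRing A) K₁] [Normal (FractionRing A) K₁]
    (P Q : Ideal (integralClosure A K₁)) [P.IsPrime] [Q.IsMaximal]
    (h : P.comap (algebraMap A (integralClosure A K₁)) = Q.comap (algebraMap A (integralClosure A K₁))) :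
    ∃ σ : K₁ ≃ₐ[FractionRing A] K₁, ∀ x : integralClosure A K₁,
      x ∈ Q ↔ (σ.restrictScalars A).mapIntegralClosure x ∈ P := by
  classical
  let τ : (K₁ ≃ₐ[FractionRing A] K₁) → (integralClosure A K₁ ≃ₐ[A] integralClosure A K₁) := fun σ =>
    (σ.restrictScalars A).mapIntegralClosure
  have hτ : ∀ σ x, ((τ σ x : integralClosure A K₁) : K₁) = σ x := fun σ x => rfl
  have hp : ∀ σ, ((P.comap (τ σ).toRingEquiv.toRingHom)).IsPrime := fun σ => Ideal.IsPrime.comap _
  have hsub : (Q : Set (integralClosure A K₁)) ⊆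
      ⋃ σ ∈ ((Finset.univ : Finset (K₁ ≃ₐ[FractionRing A] K₁)) : Set (K₁ ≃ₐ[FractionRing A] K₁)),
        (P.comap (τ σ).toRingEquiv.toRingHom : Set (integralClosure A K₁)) := by
    intro x hx
    let N : integralClosure A K₁ := ∏ σ, τ σ x
    have hN : (N : K₁) = ∏ σ : K₁ ≃ₐ[FractionRing A] K₁, σ (x : K₁) := by
      change (integralClosure A K₁).val (∏ σ, τ σ x) = _
      rw [map_prod]
      rfl
    have hNfix : ∀ ρ : K₁ ≃ₐ[FractionRing A] K₁, ρ (N : K₁) = N := by
      intro ρ
      rw [hN, map_prod]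
      exact Fintype.prod_equiv (Equiv.mulLeft ρ) _ _ (fun σ => rfl)
    obtain ⟨n, hn, y, hy⟩ := exists_pow_mem (FractionRing A) K₁ (N : K₁) hNfix
    have hyi : IsIntegral A y := by
      rw [← isIntegral_algebraMap_iff (algebraMap (FractionRing A) K₁).injective (R := A)]
      rw [hy]
      exact N.2.pow n
    obtain ⟨a, ha⟩ := (IsIntegrallyClosed.isIntegral_iff (R := A) (K := FractionRing A)).1 hyi
    have hNa : N ^ n = algebraMap A (integralClosure A K₁) a := by
      apply Subtype.ext
      change (N : K₁) ^ n = algebraMap A K₁ a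
      rw [← hy, ← ha, ← IsScalarTower.algebraMap_apply]
    have hNQ : N ∈ Q := by
      have h1 : τ 1 x ∣ N := Finset.dvd_prod_of_mem (fun σ => τ σ x) (Finset.mem_univ 1)
      have h2 : τ 1 x = x := Subtype.ext rfl
      rw [h2] at h1
      exact Q.mem_of_dvd h1 hx
    have haQ : a ∈ Q.comap (algebraMap A (integralClosure A K₁)) := by
      rw [Ideal.mem_comap, ← hNa]
      exact Q.pow_mem_of_mem hNQ n hn
    rw [← h, Ideal.mem_comap, ← hNa] at haQ
    have hNP : N ∈ P := Ideal.IsPrime.mem_of_pow_mem inferInstance n haQ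
    obtain ⟨σ, -, hσ⟩ := (Ideal.IsPrime.prod_mem_iff (p := P)).1 hNP
    simp only [Set.mem_iUnion]
    exact ⟨σ, by simp, hσ⟩
  obtain ⟨σ, -, hσ⟩ := (Ideal.subset_union_prime (1 : K₁ ≃ₐ[FractionRing A] K₁) 1 (fun σ _ _ _ => hp σ)).1 hsub
  have heq : Q = P.comap (τ σ).toRingEquiv.toRingHom := ‹Q.IsMaximal›.eq_of_le (hp σ).ne_top hσ
  refine ⟨σ, fun x => ?_⟩
  have h1 : x ∈ Q ↔ x ∈ P.comap (τ σ).toRingEquiv.toRingHom := by rw [← heq]
  exact h1

end transitivity

section final

/-- **Points of a quasi-finite flat algebra** in the local rings of a normalization of a discrete valuation ring. -/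
theorem exists_cover (A : Type u) [CommRing A] [IsDomain A] [IsDiscreteValuationRing A] (D : Type u) [CommRing D]
    [Algebra A D] [Algebra.QuasiFinite A D] [Module.Flat A D] (𝔫 : Ideal D) [𝔫.IsPrime]
    (h𝔫 : 𝔫.comap (algebraMap A D) = IsLocalRing.maximalIdeal A) :
    ∃ (K₁ : Type u) (_ : Field K₁) (_ : Algebra A K₁) (_ : Algebra (FractionRing A) K₁)
      (_ : IsScalarTower A (FractionRing A) K₁) (_ : FiniteDimensional (FractionRing A) K₁),
      ∀ (𝔭 : Ideal (integralClosure A K₁)) [𝔭.IsPrime], Nonempty (D →ₐ[A] Localization.AtPrime 𝔭) := by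
  obtain ⟨K₁, i1, i2, i3, i4, i5, i6, ψ, V, h1, h2⟩ := exists_valuationSubring A D 𝔫
  obtain ⟨𝔪₀, i7, hc, h3⟩ := exists_prime V (fun a => by
    have := h1 (algebraMap A D a)
    rwa [ψ.commutes] at this) (fun a ha => by
    have := h2 (algebraMap A D a) (by
      rw [← h𝔫] at ha
      exact ha)
    rwa [ψ.commutes] at this)
  refine ⟨K₁, i1, i2, i3, i4, i5, fun 𝔭 _ => ?_⟩
  have hfrac := isFractionRing A K₁
  obtain ⟨Q, hQ, hle⟩ := Ideal.exists_le_maximal 𝔭 (Ideal.IsPrime.ne_top inferInstance)
  have hQm : (Q.comap (algebraMap A (integralClosure A K₁))).IsMaximal :=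
    Ideal.isMaximal_comap_of_isIntegral_of_isMaximal Q
  obtain ⟨σ, hσ⟩ := exists_sigma A K₁ 𝔪₀ Q (by rw [hc, IsLocalRing.eq_maximalIdeal hQm])
  let τ := (σ.restrictScalars A).mapIntegralClosure
  let τ' := (σ.symm.restrictScalars A).mapIntegralClosure
  have hττ' : ∀ x, τ (τ' x) = x := fun x => Subtype.ext (σ.apply_symm_apply _)
  let ψ' : D →ₐ[A] K₁ := (σ.symm.restrictScalars A).toAlgHom.comp ψ
  have hψ' : ∀ d, ∃ a s : integralClosure A K₁, s ∉ 𝔭 ∧ ψ' d * s = a := by
    intro d
    obtain ⟨a, s, hs, has⟩ := h3 (ψ d) (h1 d)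
    refine ⟨τ' a, τ' s, fun hs' => hs ?_, ?_⟩
    · have := (hσ (τ' s)).1 (hle hs')
      change τ (τ' s) ∈ 𝔪₀ at this
      rwa [hττ'] at this
    · change σ.symm (ψ d) * σ.symm s = σ.symm a
      rw [← map_mul, has]
  let O : Subalgebra (integralClosure A K₁) K₁ :=
    Localization.subalgebra.ofField K₁ 𝔭.primeCompl 𝔭.primeCompl_le_nonZeroDivisors
  have hO : ∀ d, ψ' d ∈ O := by
    intro d
    obtain ⟨a, s, hs, has⟩ := hψ' d
    have hs0 : (s : K₁) ≠ 0 := by
      intro h0
      apply hs
      have : s = 0 := Subtype.ext h0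
      rw [this]
      exact 𝔭.zero_mem
    refine ⟨a, s, hs, ?_⟩
    change ψ' d = (a : K₁) * (s : K₁)⁻¹
    rw [← has, mul_assoc, mul_inv_cancel₀ hs0, mul_one]
  let e : O ≃ₐ[integralClosure A K₁] Localization.AtPrime 𝔭 :=
    IsLocalization.algEquiv 𝔭.primeCompl _ _
  let g : D →+* O := ψ'.toRingHom.codRestrict O.toSubring hO
  refine ⟨{ toRingHom := e.toRingEquiv.toRingHom.comp g, commutes' := fun a => ?_ }⟩
  change e (g (algebraMap A D a)) = _
  have h5 : g (algebraMap A D a) = algebraMap (integralClosure A K₁) O (algebraMap A (integralClosure A K₁) a) := by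
    apply Subtype.ext
    change ψ' (algebraMap A D a) = algebraMap A K₁ a
    exact ψ'.commutes a
  rw [h5, e.commutes, ← IsScalarTower.algebraMap_apply]

end final

end K651.NormCov
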