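import Groth.Agent.AlgSp.K613.Cover
import Groth.Agent.Neron.K491.Closure

/-!
# The flat closure of the generic fibre over a Dedekind domain
-/

set_option autoImplicit false
universe u

open CategoryTheory CategoryTheory.Limits AlgebraicGeometry Opposite

namespace K651.FlatClosure

open AlgSp K613.Basic Groth.Agent.Sga3C.SchemImage

variable {A : Type u} [CommRing A] [IsDedekindDomain A]

/-- The generic point of `Spec A`, as a scheme over it. -/
noncomputable abbrev gen (A : Type u) [CommRing A] : Spec (CommRingCat.of (FractionRing A)) ⟶ Spec (CommRingCat.of A) :=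
  Spec.map (CommRingCat.ofHom (algebraMap A (FractionRing A)))

theorem exists_flatImage (X' : Over (Spec (CommRingCat.of A))) :
    ∃ (Xb : Over (Spec (CommRingCat.of A))) (i : Xb ⟶ X'), IsClosedImmersion i.left ∧ Flat Xb.hom ∧
      (∀ (Y : Over (Spec (CommRingCat.of A))), Flat Y.hom → ∀ a : Y ⟶ X', ∃ b : Y ⟶ Xb, b ≫ i = a) ∧
      (∀ x : X'.left, X'.hom x ∈ Set.range (gen A) → x ∈ Set.range i.left) := by
  have hg : IsSchemeTheoreticallyDominant (gen A) := K491.Ext.dom_genPt A
  let t := pullback.snd (gen A) X'.hom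
  have hdom : IsSchemeTheoreticallyDominant t.toImage := dominant_toImage t
  have hw : t.toImage ≫ t.imageι ≫ X'.hom = pullback.fst (gen A) X'.hom ≫ gen A := by
    rw [Scheme.Hom.toImage_imageι_assoc, pullback.condition]
  have hflat : Flat (t.imageι ≫ X'.hom) :=
    K491.Closure.flat_of_schemeDominant t.toImage _ _ hw
  let Xb : Over (Spec (CommRingCat.of A)) := Over.mk (t.imageι ≫ X'.hom)
  let i : Xb ⟶ X' := Over.homMk t.imageι rfl
  have hi : IsClosedImmersion i.left := inferInstanceAs (IsClosedImmersion t.imageι)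
  refine ⟨Xb, i, hi, hflat, fun Y hY a => ?_, fun x hx => ?_⟩
  · have hYd : IsSchemeTheoreticallyDominant (pullback.snd (gen A) Y.hom) := inferInstance
    let YK : Over (Spec (CommRingCat.of A)) := Over.mk (pullback.snd (gen A) Y.hom ≫ Y.hom)
    let d : YK ⟶ Y := Over.homMk (pullback.snd (gen A) Y.hom) rfl
    have hd : IsSchemeTheoreticallyDominant d.left := hYd
    let m : pullback (gen A) Y.hom ⟶ pullback (gen A) X'.hom :=
      pullback.lift (pullback.fst _ _) (pullback.snd _ _ ≫ a.left) (by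
        rw [Category.assoc, Over.w a, pullback.condition])
    have hm : m ≫ t = pullback.snd _ _ ≫ a.left := pullback.lift_snd _ _ _
    have hm2 : (m ≫ t.toImage) ≫ t.imageι = pullback.snd _ _ ≫ a.left := by
      rw [Category.assoc, Scheme.Hom.toImage_imageι, hm]
    let h : YK ⟶ Xb := Over.homMk (m ≫ t.toImage) (by
      change (m ≫ t.toImage) ≫ t.imageι ≫ X'.hom = pullback.snd (gen A) Y.hom ≫ Y.hom
      rw [← Category.assoc, hm2, Category.assoc, Over.w a])
    exact exists_lift_over d a i h (Over.OverMorphism.ext hm2)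
  · obtain ⟨y, hy⟩ := hx
    obtain ⟨z, -, hz⟩ := Scheme.Pullback.exists_preimage_pullback (f := gen A) (g := X'.hom) y x hy
    refine ⟨t.toImage z, ?_⟩
    change t.imageι (t.toImage z) = x
    rw [← Scheme.Hom.comp_apply, Scheme.Hom.toImage_imageι]
    exact hz

/-- Base change of the flat closure is a closed immersion. -/
theorem isClosedImmersion {G : Sp (Spec (CommRingCat.of A))} {X' X₂ Gb : Over (Spec (CommRingCat.of A))}
    {p : (yon _).obj X' ⟶ G} {j : (yon _).obj Gb ⟶ G} [Mono j] (hGb : Flat Gb.hom)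
    (hj : ∀ (T' : Over (Spec (CommRingCat.of A))), Flat T'.hom → ∀ a : (yon _).obj T' ⟶ G,
      ∃ b : T' ⟶ Gb, (yon _).map b ≫ j = a)
    {ρ : X₂ ⟶ Gb} {ι : X₂ ⟶ X'} (sq : IsPullback ((yon _).map ρ) ((yon _).map ι) j p) [Flat ρ.left] :
    IsClosedImmersion ι.left ∧ ∀ x : X'.left, X'.hom x ∈ Set.range (gen A) → x ∈ Set.range ι.left := by
  obtain ⟨Xb, i, hi, hXb, hi1, hi2⟩ := exists_flatImage X'
  obtain ⟨b, hb⟩ := hj Xb hXb ((yon _).map i ≫ p)
  obtain ⟨l, hl⟩ := (yon _).map_surjective (sq.lift _ _ hb)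
  have hl1 : l ≫ ι = i := by
    apply (yon _).map_injective
    rw [Functor.map_comp, hl, sq.lift_snd]
  have hX₂ : Flat X₂.hom := by
    rw [← Over.w ρ]
    infer_instance
  obtain ⟨l', hl'⟩ := hi1 X₂ hX₂ ι
  have hm : Mono ((yon _).map ι) := (MorphismProperty.monomorphisms _).of_isPullback sq ‹_›
  have hm' : Mono ι := (yon _).mono_of_mono_map hm
  have hmi : Mono i := by
    have : Mono ((Over.forget _).map i) := inferInstanceAs (Mono i.left)
    exact (Over.forget _).mono_of_mono_map this
  have h1 : l ≫ l' = 𝟙 _ := by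
    rw [← cancel_mono i, Category.assoc, hl', hl1, Category.id_comp]
  have h2 : l' ≫ l = 𝟙 _ := by
    rw [← cancel_mono ι, Category.assoc, hl1, hl', Category.id_comp]
  have hiso : IsIso l' := ⟨l, h2, h1⟩
  have hiso' : IsIso l'.left := inferInstanceAs (IsIso ((Over.forget _).map l'))
  refine ⟨?_, fun x hx => ?_⟩
  · rw [← hl', Over.comp_left]
    infer_instance
  · obtain ⟨z, rfl⟩ := hi2 x hx
    exact ⟨l.left z, by rw [← Scheme.Hom.comp_apply, ← Over.comp_left, hl1]⟩

end K651.FlatClosure
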