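import Groth.Agent.AlgSp.K651.Pinch
import Groth.Agent.AlgSp.K651.FlatClosure
import Groth.Agent.S0083
import Groth.Agent.AlgSp.K625.Prod

/-!
# The two closed pieces: the flat closure and a fibre
-/

set_option autoImplicit false
universe u

open CategoryTheory CategoryTheory.Limits AlgebraicGeometry Opposite

namespace K651.FibPinch

open AlgSp K613.Basic K628.Fqc K651.FpqcSh K651.Pinch

variable {S : Scheme.{u}} {G : Sp S} {Z Z' X' D Gb G₁ : Over S} {f : G ⟶ (yon S).obj Z} {c : Z' ⟶ Z}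
  {p : (yon S).obj X' ⟶ G} {q : X' ⟶ Z'}

theorem isPullback_yon {P X Y Z : Over S} {a : P ⟶ X} {b : P ⟶ Y} {f : X ⟶ Z} {g : Y ⟶ Z}
    (h : IsPullback a b f g) : IsPullback ((yon S).map a) ((yon S).map b) ((yon S).map f) ((yon S).map g) :=
  h.map (yon S)

/-- the fibre over a closed subscheme -/
theorem exists_fibre (sq : IsPullback p ((yon S).map q) f ((yon S).map c)) {d : D ⟶ Z}
    {j₁ : (yon S).obj G₁ ⟶ G} {d₁ : G₁ ⟶ D} (sq1 : IsPullback j₁ ((yon S).map d₁) f ((yon S).map d)) :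
    ∃ (X₁ : Over S) (ρ₁ : X₁ ⟶ G₁) (ι₁ : X₁ ⟶ X') (e : X₁ ⟶ D),
      IsPullback ((yon S).map ρ₁) ((yon S).map ι₁) j₁ p ∧ IsPullback ι₁ e (q ≫ c) d ∧
      ρ₁ ≫ d₁ = e := by
  let ι₁ := pullback.fst (q ≫ c) d
  let e := pullback.snd (q ≫ c) d
  have hpb : IsPullback ι₁ e (q ≫ c) d := IsPullback.of_hasPullback _ _
  have hpf : p ≫ f = (yon S).map (q ≫ c) := by rw [sq.w, Functor.map_comp]
  have h1 := isPullback_yon hpb
  rw [← hpf] at h1
  obtain ⟨ρ₁, hρ₁⟩ := (yon S).map_surjective (sq1.lift ((yon S).map ι₁ ≫ p) ((yon S).map e) (by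
    rw [Category.assoc, h1.w]))
  have e1 : (yon S).map ρ₁ ≫ j₁ = (yon S).map ι₁ ≫ p := by rw [hρ₁, sq1.lift_fst]
  have e2 : ρ₁ ≫ d₁ = e := by
    apply (yon S).map_injective
    rw [Functor.map_comp, hρ₁, sq1.lift_snd]
  refine ⟨_, ρ₁, ι₁, e, ?_, hpb, e2⟩
  rw [← e2, Functor.map_comp] at h1
  exact (IsPullback.of_bot h1 e1.symm sq1).flip

/-- the pullback of `p` to a scheme over `G` -/
theorem exists_bc (sq : IsPullback p ((yon S).map q) f ((yon S).map c)) (j : (yon S).obj Gb ⟶ G) :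
    ∃ (X₂ : Over S) (ρ : X₂ ⟶ Gb) (ι : X₂ ⟶ X') (g : Gb ⟶ Z), (yon S).map g = j ≫ f ∧
      IsPullback ((yon S).map ρ) ((yon S).map ι) j p ∧ IsPullback ρ (ι ≫ q) g c := by
  obtain ⟨g, hg⟩ := (yon S).map_surjective (j ≫ f)
  let ρ := pullback.fst g c
  have hpb : IsPullback ρ (pullback.snd g c) g c := IsPullback.of_hasPullback _ _
  have h1 := isPullback_yon hpb
  rw [hg] at h1
  obtain ⟨ι, hι⟩ := (yon S).map_surjective (sq.lift ((yon S).map ρ ≫ j) ((yon S).map (pullback.snd g c)) (by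
    rw [Category.assoc, h1.w]))
  have e1 : (yon S).map ι ≫ p = (yon S).map ρ ≫ j := by rw [hι, sq.lift_fst]
  have e2 : ι ≫ q = pullback.snd g c := by
    apply (yon S).map_injective
    rw [Functor.map_comp, hι, sq.lift_snd]
  refine ⟨_, ρ, ι, g, hg, ?_, by rw [e2]; exact hpb⟩
  rw [← e2, Functor.map_comp] at h1
  exact (IsPullback.of_right h1.flip e1 sq.flip).flip

/-- base change along a scheme over `G` of a base change of `c` -/
theorem isPullback_of_sq (sq : IsPullback p ((yon S).map q) f ((yon S).map c)) {j : (yon S).obj Gb ⟶ G}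
    {X₂ : Over S} {ρ : X₂ ⟶ Gb} {ι : X₂ ⟶ X'} (h : IsPullback ((yon S).map ρ) ((yon S).map ι) j p)
    {g : Gb ⟶ Z} (hg : (yon S).map g = j ≫ f) : IsPullback ρ (ι ≫ q) g c := by
  have h1 := h.paste_vert sq
  rw [← Functor.map_comp, ← hg] at h1
  exact IsPullback.of_map (yon S) ((yon S).map_injective (by
    rw [Functor.map_comp, Functor.map_comp]; exact h1.w)) h1

/-- The closed pieces: a fibre and a closed subsheaf. -/
theorem exists_pieces (hc : FqC c) (hca : IsAffineHom c.left)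
    (sq : IsPullback p ((yon S).map q) f ((yon S).map c)) {d : D ⟶ Z} (hd : IsClosedImmersion d.left)
    {j₁ : (yon S).obj G₁ ⟶ G} {d₁ : G₁ ⟶ D} (sq1 : IsPullback j₁ ((yon S).map d₁) f ((yon S).map d))
    {j₂ : (yon S).obj Gb ⟶ G} {X₂ : Over S} {ρ₂ : X₂ ⟶ Gb} {ι₂ : X₂ ⟶ X'}
    (sq₂ : IsPullback ((yon S).map ρ₂) ((yon S).map ι₂) j₂ p) (hι₂ : IsClosedImmersion ι₂.left) :
    ∃ (G₁₂ X₁ : Over S) (k₁ : G₁₂ ⟶ G₁) (k₂ : G₁₂ ⟶ Gb) (ρ₁ : X₁ ⟶ G₁) (ι₁ : X₁ ⟶ X'),
      IsPullback ((yon S).map k₁) ((yon S).map k₂) j₁ j₂ ∧ IsClosedImmersion k₁.left ∧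
      IsClosedImmersion k₂.left ∧ IsPullback ((yon S).map ρ₁) ((yon S).map ι₁) j₁ p ∧
      IsClosedImmersion ι₁.left ∧ IsAffineHom ρ₁.left ∧ IsAffineHom ρ₂.left ∧
      (∀ x : X'.left, (q ≫ c).left x ∈ Set.range d.left → x ∈ Set.range ι₁.left) := by
  obtain ⟨X₁, ρ₁, ι₁, e, sq₁, hpb, he⟩ := exists_fibre sq sq1
  obtain ⟨g₂, hg₂⟩ := (yon S).map_surjective (j₂ ≫ f)
  obtain ⟨g₁, hg₁⟩ := (yon S).map_surjective (j₁ ≫ f)
  -- the intersection
  let k₂ := pullback.fst g₂ d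
  have hk : IsPullback k₂ (pullback.snd g₂ d) g₂ d := IsPullback.of_hasPullback _ _
  have h1 := isPullback_yon hk
  rw [hg₂] at h1
  obtain ⟨k₁, hk₁⟩ := (yon S).map_surjective (sq1.lift ((yon S).map k₂ ≫ j₂) ((yon S).map (pullback.snd g₂ d)) (by
    rw [Category.assoc, h1.w]))
  have e1 : (yon S).map k₁ ≫ j₁ = (yon S).map k₂ ≫ j₂ := by rw [hk₁, sq1.lift_fst]
  have e2 : k₁ ≫ d₁ = pullback.snd g₂ d := by
    apply (yon S).map_injective
    rw [Functor.map_comp, hk₁, sq1.lift_snd]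
  have h12 : IsPullback ((yon S).map k₁) ((yon S).map k₂) j₁ j₂ := by
    rw [← e2, Functor.map_comp] at h1
    exact (IsPullback.of_bot h1 e1.symm sq1).flip
  have hk₂c : IsClosedImmersion k₂.left :=
    MorphismProperty.of_isPullback (P := @IsClosedImmersion) (hk.map (Over.forget S)).flip hd
  have hι₁ : IsClosedImmersion ι₁.left :=
    MorphismProperty.of_isPullback (P := @IsClosedImmersion) (hpb.map (Over.forget S)).flip hd
  have b1 : IsPullback ρ₁ (ι₁ ≫ q) g₁ c := isPullback_of_sq sq sq₁ hg₁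
  have b2 : IsPullback ρ₂ (ι₂ ≫ q) g₂ c := isPullback_of_sq sq sq₂ hg₂
  have a1 : IsAffineHom ρ₁.left :=
    MorphismProperty.of_isPullback (P := @IsAffineHom) (b1.map (Over.forget S)).flip hca
  have a2 : IsAffineHom ρ₂.left :=
    MorphismProperty.of_isPullback (P := @IsAffineHom) (b2.map (Over.forget S)).flip hca
  have f1 : FqC ρ₁ := hc.of_isPullback b1.flip
  -- the closed immersion `k₁`
  have hk₁c : IsClosedImmersion k₁.left := by
    have hW : IsPullback (pullback.fst ι₁ ι₂) (pullback.snd ι₁ ι₂) ι₁ ι₂ := IsPullback.of_hasPullback _ _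
    have h2 := isPullback_yon hW
    have h3 := h2.paste_vert sq₂.flip
    rw [← sq₁.w, ← Functor.map_comp] at h3
    obtain ⟨w, hw⟩ := (yon S).map_surjective (h12.lift ((yon S).map (pullback.fst ι₁ ι₂ ≫ ρ₁))
      ((yon S).map (pullback.snd ι₁ ι₂ ≫ ρ₂)) (by
        rw [Functor.map_comp, Category.assoc]
        exact h3.w))
    have w1 : w ≫ k₁ = pullback.fst ι₁ ι₂ ≫ ρ₁ := by
      apply (yon S).map_injective
      rw [Functor.map_comp, hw, h12.lift_fst]
    have w2 : w ≫ k₂ = pullback.snd ι₁ ι₂ ≫ ρ₂ := by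
      apply (yon S).map_injective
      rw [Functor.map_comp, hw, h12.lift_snd]
    rw [← w2, Functor.map_comp] at h3
    have h4 := IsPullback.of_bot h3 (by rw [← Functor.map_comp, ← Functor.map_comp, w1]) h12
    have h5 : IsPullback (pullback.fst ι₁ ι₂) w ρ₁ k₁ :=
      IsPullback.of_map (yon S) w1.symm h4
    have h6 : IsClosedImmersion (pullback.fst ι₁ ι₂).left :=
      MorphismProperty.of_isPullback (P := @IsClosedImmersion) (hW.map (Over.forget S)).flip hι₂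
    have := Groth.Agent.S0083.result
    exact MorphismProperty.of_isPullback_of_descendsAlong (P := @IsClosedImmersion)
      (Q := (@Surjective ⊓ @Flat ⊓ @QuasiCompact : MorphismProperty Scheme.{u}))
      (h5.map (Over.forget S)) f1.mem h6
  refine ⟨_, X₁, k₁, k₂, ρ₁, ι₁, h12, hk₁c, hk₂c, sq₁, hι₁, a1, a2, fun x hx => ?_⟩
  obtain ⟨y, hy⟩ := hx
  obtain ⟨z, hz, -⟩ := Scheme.exists_preimage_of_isPullback (hpb.map (Over.forget S)) x y hy.symm
  exact ⟨z, hz⟩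

end K651.FibPinch
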