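import Groth.Agent.AlgSp.K610.FinQuot
import Groth.Agent.AlgSp.K640.Base
import Groth.Agent.AlgSp.K597.LocP
import Groth.Agent.AlgSp.K597.EtLoc
import Groth.Agent.AlgSp.K613.Chart
import Groth.Agent.AlgSp.K613.Diag
import Groth.Agent.AlgSp.K629.SchDesc

/-!
# Finiteness of a separated morphism with a finite étale cover
-/

set_option autoImplicit false
universe v w u

open CategoryTheory CategoryTheory.Limits AlgebraicGeometry Opposite

namespace K651.FinDesc

open AlgSp K613.Basic K613.Cover K613.Chart K613.Diag

/-- finiteness descends along finite locally free surjections of the source (affine schemes) -/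
theorem isFinite_of_source {W M Z : Scheme.{u}} [IsAffine M] [IsAffine Z] (m : W ⟶ M) (k : M ⟶ Z)
    (hm : Mor2.IsFinLocFree m) [Surjective m] [IsFinite (m ≫ k)] : IsFinite k := by
  obtain ⟨h1, h2, h3⟩ := hm
  have : UniversallyClosed k := UniversallyClosed.of_comp_surjective m k
  have : IsAffineHom k := isAffineHom_of_isAffine k
  have hint : IsIntegralHom k := IsIntegralHom.iff_universallyClosed_and_isAffineHom.2 ⟨‹_›, ‹_›⟩
  have hft : LocallyOfFiniteType k := K629.SchDesc.lft m k h2 h3 ‹_› inferInstance
  exact (IsFinite.iff_isIntegralHom_and_locallyOfFiniteType (f := k)).2 ⟨hint, hft⟩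

variable {S : Scheme.{u}} {U X Y : Sp S}

theorem repWith_surjective_of_eSurj {q : U ⟶ X} (hr : Representable q) (h : ESurj q) : RepWith @Surjective q := by
  refine ⟨hr, fun T V g fst snd sq => ?_⟩
  obtain ⟨T', c, x, hc, hx⟩ := h T g
  obtain ⟨l, hl⟩ := (yon S).map_surjective (sq.lift x ((yon S).map c) hx)
  have hl2 : l ≫ snd = c := by
    apply (yon S).map_injective
    rw [Functor.map_comp, hl, sq.lift_snd]
  have hs : Surjective (l.left ≫ snd.left) := by
    rw [← Over.comp_left, hl2]
    exact hc.surj
  exact Surjective.of_comp l.left snd.left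

theorem isFiniteMor_of_etale_cover (hU : IsAlgSpace U) (hX : IsAlgSpace X) (hY : IsAlgSpace Y) (p : U ⟶ X) (f : X ⟶ Y)
    (hp : IsEtaleMor p) (hps : IsSurjectiveMor p) (hf : IsSeparatedMor f) (h : IsFiniteMor (p ≫ f)) :
    IsFiniteMor f := by
  intro Z hZ g
  obtain ⟨W, i, fst, sq, hW, hi⟩ := h hZ g
  have hXZ : IsAlgSpace (pullback f g) := isAlgSpace_pullback hX (IsAlgSpace.yon_obj Z) hY f g
  let q : (yon S).obj W ⟶ pullback f g := pullback.lift (fst ≫ p) ((yon S).map i) (by rw [Category.assoc]; exact sq.w)
  have hq1 : q ≫ pullback.fst f g = fst ≫ p := pullback.lift_fst _ _ _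
  have hq2 : q ≫ pullback.snd f g = (yon S).map i := pullback.lift_snd _ _ _
  have sqq : IsPullback fst q p (pullback.fst f g) := by
    refine IsPullback.of_bot (v₂₁ := pullback.snd f g) (v₂₂ := f) (h₃₁ := g) ?_ hq1.symm (IsPullback.of_hasPullback f g)
    rw [hq2]
    exact sq
  have hrep : Representable q := Functor.relativelyRepresentable.of_diag hXZ.diag q
  have hq : RepWith @Etale q := K597.repWith_of_locP K597.etLoc_etale hXZ.hasAtlas hrep
    (K597.locP_bc K597.etLoc_etale sqq hU.hasAtlas hX.hasAtlas hXZ.hasAtlas (K597.locP_etale_of_isEtaleMor hp))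
  have hqs : RepWith @Surjective q := repWith_surjective_of_eSurj hrep
    ((K640.Base.eSurj_of_isEtaleMor hU hp hps).of_isPullback sqq)
  have hqf : RepWith @IsFinite q := by
    refine repWith_of_comp (g := pullback.snd f g) ?_ ?_
    · rw [hq2]
      exact (repWith_yon_map_iff _ _).2 hi
    · refine repWith_diagonal_of_isPullback ?_ (IsPullback.of_hasPullback f g)
      exact ⟨hf.1, fun T V g fst snd sq => by
        have : IsClosedImmersion snd.left := hf.2 g fst snd sq
        exact inferInstanceAs (IsFinite snd.left)⟩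
  have hqfl : RepWith @Flat q := ⟨hq.1, fun T V g fst snd sq => by
    have : Etale snd.left := hq.2 g fst snd sq
    exact inferInstanceAs (Flat snd.left)⟩
  have hqlfp : RepWith @LocallyOfFinitePresentation q := ⟨hq.1, fun T V g fst snd sq => by
    have : Etale snd.left := hq.2 g fst snd sq
    exact inferInstanceAs (LocallyOfFinitePresentation snd.left)⟩
  obtain ⟨M, m, e, hme, hm, hms, hM⟩ := K610.FinQuot.exists_iso hqf hqfl hqlfp hqs (fun x =>
    ⟨⊤, isAffineOpen_top W.left, fun y _ => trivial⟩)
  have hMa := hM hW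
  obtain ⟨k, hk⟩ := (yon S).map_surjective (e.hom ≫ pullback.snd f g)
  have hmk : m ≫ k = i := by
    apply (yon S).map_injective
    rw [Functor.map_comp, hk, reassoc_of% hme, hq2]
  refine ⟨M, k, e.hom ≫ pullback.fst f g, ?_, hMa, ?_⟩
  · rw [hk]
    exact IsPullback.of_iso (IsPullback.of_hasPullback f g) e.symm (Iso.refl _) (Iso.refl _) (Iso.refl _)
      (by simp) (by simp) (by simp) (by simp)
  · have hfin : IsFinite (m.left ≫ k.left) := by
      rw [← Over.comp_left, hmk]
      exact hi
    exact isFinite_of_source m.left k.left hm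

end K651.FinDesc
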