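import Groth.Agent.AlgSp.K597.RepImage
import Groth.Agent.AlgSp.K597.LocP
import Groth.Agent.AlgSp.K597.EtLoc
import Groth.Agent.AlgSp.K613.Chart
import Groth.Agent.Neron.K491.Closure

/-!
# Flat closures in algebraic spaces over a Dedekind domain
-/

set_option autoImplicit false
universe v w u

open CategoryTheory CategoryTheory.Limits AlgebraicGeometry Opposite

namespace K651.FlatCl

open AlgSp K613.Basic K613.Cover K613.Chart K598.RepKit K597.RepImage

section scheme

/-- A closed subscheme `U'` of `U`, flat over `S`, is the scheme theoretic image of its base change to a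
schematically dominant `T → S`. -/
theorem ker_eq_of_flat {S T U U' V UT : Scheme.{u}} {g : T ⟶ S} [QuasiCompact g] (hg : g.ker = ⊥) {y : U ⟶ S}
    {pr : UT ⟶ U} {π : UT ⟶ T} (sq : IsPullback pr π y g) {u' : U' ⟶ U} [Flat (u' ≫ y)] {t : V ⟶ U'} {w : V ⟶ UT}
    (sq' : IsPullback t w u' pr) : (w ≫ pr).ker = u'.ker := by
  have h1 : IsPullback t (w ≫ π) (u' ≫ y) g := sq'.paste_vert sq
  have h2 : t.ker = ⊥ := by
    have h := K597.FlatKer.ker_of_isPullback_flat h1.flip
    rw [h, hg, Scheme.IdealSheafData.comap_bot]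
  rw [← sq'.w, Scheme.Hom.ker_comp, h2, Scheme.IdealSheafData.map_bot]

/-- Two closed subschemes with the same ideal are isomorphic. -/
theorem exists_iso_of_ker {A B U : Scheme.{u}} (a : A ⟶ U) (b : B ⟶ U) [IsClosedImmersion a] [IsClosedImmersion b]
    (h : a.ker = b.ker) : ∃ e : A ≅ B, e.hom ≫ b = a := by
  refine ⟨⟨IsClosedImmersion.lift b a h.ge, IsClosedImmersion.lift a b h.le, ?_, ?_⟩, IsClosedImmersion.lift_fac _ _ _⟩
  · rw [← cancel_mono a, Category.assoc, IsClosedImmersion.lift_fac, IsClosedImmersion.lift_fac, Category.id_comp]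
  · rw [← cancel_mono b, Category.assoc, IsClosedImmersion.lift_fac, IsClosedImmersion.lift_fac, Category.id_comp]

end scheme

variable {S : Scheme.{u}} {X Y Z Z' H YK : Sp S}

theorem isAlgSpace_of_mono {c : Z ⟶ Y} (hc : Mono c) (hY : IsAlgSpace Y) (hr : Representable c) : IsAlgSpace Z := by
  constructor
  · rw [representable_diag_iff]
    intro T a b
    obtain ⟨E, e, he⟩ := representable_diag_iff.1 hY.diag T (a ≫ c) (b ≫ c)
    refine ⟨E, e, ?_, fun R r hrr => he.lift R r ?_⟩
    · rw [← cancel_mono c, Category.assoc, Category.assoc, he.w]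
    · rw [← Category.assoc, ← Category.assoc, hrr]
  · obtain ⟨U, p, hp⟩ := exists_ch hY
    obtain ⟨V, v, fst, sq⟩ := hr p
    exact ⟨V, fst, MorphismProperty.of_isPullback (P := RepWith _) sq.flip hp.et,
      MorphismProperty.of_isPullback (P := RepWith _) sq.flip hp.surj⟩

/-- Comparison of closed subspaces on a chart. -/
theorem exists_factor {i : Z ⟶ Y} {i' : Z' ⟶ Y} (hm : Mono i') {U A A' : Over S} {p : (yon S).obj U ⟶ Y} (hp : FSurj p)
    {a : (yon S).obj A ⟶ Z} {s : A ⟶ U} (sq : IsPullback a ((yon S).map s) i p)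
    {a' : (yon S).obj A' ⟶ Z'} {s' : A' ⟶ U} (sq' : IsPullback a' ((yon S).map s') i' p)
    (hs' : IsClosedImmersion s'.left) (h : s'.left.ker ≤ s.left.ker) : ∃ b : Z ⟶ Z', b ≫ i' = i := by
  let l : A ⟶ A' := Over.homMk (IsClosedImmersion.lift s'.left s.left h) (by
    rw [← Over.w s', IsClosedImmersion.lift_fac_assoc, Over.w s])
  have hl : l ≫ s' = s := by
    ext1
    exact IsClosedImmersion.lift_fac _ _ _
  have ha : FSurj a := hp.of_isPullback sq.flip
  have hepi := ha.epi
  have hw : (yon S).map l ≫ a' ≫ i' = a ≫ i := by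
    rw [sq'.w, ← Category.assoc, ← Functor.map_comp, hl, sq.w]
  obtain ⟨b, hb, -⟩ := ha.desc ((yon S).map l ≫ a') (fun R u v huv => by
    rw [← cancel_mono i']
    simp only [Category.assoc]
    rw [hw, reassoc_of% huv])
  refine ⟨b, ?_⟩
  rw [← cancel_epi a, ← Category.assoc, hb, Category.assoc, hw]

theorem exists_iso {i : Z ⟶ Y} {i' : Z' ⟶ Y} (hm : Mono i) (hm' : Mono i') {b : Z ⟶ Z'} (hb : b ≫ i' = i) {b' : Z' ⟶ Z}
    (hb' : b' ≫ i = i') : ∃ e : Z ≅ Z', e.hom ≫ i' = i :=
  ⟨⟨b, b', by rw [← cancel_mono i, Category.assoc, hb', hb, Category.id_comp],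
    by rw [← cancel_mono i', Category.assoc, hb, hb', Category.id_comp]⟩, hb⟩

/-- The ideal of the scheme theoretic image on a chart. -/
theorem ker_schImage (hY : IsAlgSpace Y) {f : X ⟶ Y} (hf : RepWith @QuasiCompact f) {i : Z ⟶ Y}
    (hi : IsSchImage f i) {U A V : Over S} {p : (yon S).obj U ⟶ Y} (hp : Ch p)
    {a : (yon S).obj A ⟶ Z} {s : A ⟶ U} (sq : IsPullback a ((yon S).map s) i p)
    {fst : (yon S).obj V ⟶ X} {v : V ⟶ U} (sqV : IsPullback fst ((yon S).map v) f p) :
    s.left.ker = v.left.ker := by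
  obtain ⟨Zb, j, c, q, hj, hc, sqq, -⟩ := exists_image hf hp.et hp.surj sqV
  obtain ⟨hi1, ⟨f', hf'⟩, hi2⟩ := hi
  apply le_antisymm
  · -- `f` factors through `i`
    obtain ⟨w, hw⟩ := (yon S).map_surjective (sq.lift (fst ≫ f') ((yon S).map v) (by
      rw [Category.assoc, hf', sqV.w]))
    have hws : w ≫ s = v := by
      apply (yon S).map_injective
      rw [Functor.map_comp, hw, sq.lift_snd]
    rw [← hws, Over.comp_left]
    exact Scheme.Hom.le_ker_comp _ _
  · have hcm := mono_of_repWith_isClosedImmersion hc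
    obtain ⟨k, hk⟩ := hi2 c (isAlgSpace_of_mono hcm hY hc.1) hc ⟨j, hj⟩
    obtain ⟨w, hw⟩ := (yon S).map_surjective (sqq.lift (a ≫ k) ((yon S).map s) (by
      rw [Category.assoc, hk, sq.w]))
    have hws : w ≫ clι U v.left.ker = s := by
      apply (yon S).map_injective
      rw [Functor.map_comp, hw, sqq.lift_snd]
    have h1 : (clι U v.left.ker).left.ker = v.left.ker := Scheme.IdealSheafData.ker_subschemeι _
    rw [← h1, ← hws, Over.comp_left]
    exact Scheme.Hom.le_ker_comp _ _

/-- The base change square of charts is cartesian as soon as that on a chart is. -/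
theorem isPullback_of_chart {i : Z ⟶ Y} {pr : YK ⟶ Y} {k : H ⟶ YK} {m : H ⟶ Z} (w : m ≫ i = k ≫ pr) (hi : Mono i) (hk : Mono k)
    {U A B V : Over S} {p : (yon S).obj U ⟶ Y} (hp : FSurj p)
    {a : (yon S).obj A ⟶ Z} {s : A ⟶ U} (sq : IsPullback a ((yon S).map s) i p)
    {b : (yon S).obj B ⟶ YK} {t : B ⟶ U} (sqB : IsPullback b ((yon S).map t) pr p)
    {c : (yon S).obj V ⟶ H} {r : V ⟶ B} (sqV : IsPullback c ((yon S).map r) k b)
    {n : V ⟶ A} (sqn : IsPullback n r s t) : IsPullback m k i pr := by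
  refine isPullback_of_yon w fun T x y hxy => ?_
  -- a covering of `T`
  obtain ⟨T', d, z, hd, hz⟩ := hp T (x ≫ i)
  obtain ⟨α, hα⟩ := (yon S).map_surjective (sq.lift ((yon S).map d ≫ x) z (by rw [Category.assoc, hz]))
  obtain ⟨β, hβ⟩ := (yon S).map_surjective (sqB.lift ((yon S).map d ≫ y) z (by rw [Category.assoc, ← hxy, hz]))
  have hαβ : α ≫ s = β ≫ t := by
    apply (yon S).map_injective
    rw [Functor.map_comp, Functor.map_comp, hα, hβ, sq.lift_snd, sqB.lift_snd]
  let γ : T' ⟶ V := sqn.lift α β hαβ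
  have hγ : (yon S).map γ ≫ c ≫ k = (yon S).map d ≫ y := by
    rw [sqV.w, ← Category.assoc, ← Functor.map_comp, sqn.lift_snd, hβ, sqB.lift_fst]
  obtain ⟨e, he, -⟩ := hd.glue ((yon S).map γ ≫ c) (fun R u v huv => by
    rw [← cancel_mono k]
    simp only [Category.assoc]
    rw [hγ, ← Category.assoc, ← Category.assoc, ← Functor.map_comp, ← Functor.map_comp, huv])
  have hepi := hd.epi
  have hek : e ≫ k = y := by
    rw [← cancel_epi ((yon S).map d), ← Category.assoc, he, Category.assoc, hγ]
  refine ⟨e, ⟨?_, hek⟩, fun e' he' => by rw [← cancel_mono k, he'.2, hek]⟩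
  rw [← cancel_mono i, Category.assoc, w, ← Category.assoc, hek, hxy]

section dedekind

variable (R : Type u) [CommRing R] [IsDedekindDomain R]

theorem ker_spec {A B : CommRingCat.{u}} (φ : A ⟶ B) (h : Function.Injective φ) : (Spec.map φ).ker = ⊥ := by
  apply Scheme.IdealSheafData.ext_of_isAffine
  rw [Scheme.Hom.ker_apply, Scheme.IdealSheafData.ideal_bot, Pi.bot_apply]
  rw [← RingHom.injective_iff_ker_eq_bot]
  have h1 : (Spec.map φ).appTop = (Scheme.ΓSpecIso A).hom ≫ φ ≫ (Scheme.ΓSpecIso B).inv := by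
    rw [← Category.assoc, ← Scheme.ΓSpecIso_naturality, Category.assoc, Iso.hom_inv_id, Category.comp_id]
  change Function.Injective (Spec.map φ).appTop.hom
  rw [h1]
  intro x y hxy
  simp only [CommRingCat.hom_comp, RingHom.comp_apply] at hxy
  have e1 : Function.Injective (Scheme.ΓSpecIso B).inv.hom := (Scheme.ΓSpecIso B).symm.commRingCatIsoToRingEquiv.injective
  have e2 : Function.Injective (Scheme.ΓSpecIso A).hom.hom := (Scheme.ΓSpecIso A).commRingCatIsoToRingEquiv.injective
  exact e2 (h (e1 hxy))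

omit [IsDedekindDomain R] in
theorem ker_genPt : (Neron.genPt R).ker = ⊥ := ker_spec _ (IsFractionRing.injective R (FractionRing R))

variable {R}

theorem main {Y YK H Z : Sp (Spec (CommRingCat.of R))} (hY : IsAlgSpace Y)
    (pY : Y ⟶ (yon (Spec (CommRingCat.of R))).obj (Over.mk (𝟙 (Spec (CommRingCat.of R)))))
    (pr : YK ⟶ Y) (qK : YK ⟶ (yon (Spec (CommRingCat.of R))).obj (Over.mk (Neron.genPt R)))
    (hYK : IsPullback pr qK pY ((yon (Spec (CommRingCat.of R))).map (Over.mkIdTerminal.from (Over.mk (Neron.genPt R)))))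
    (k : H ⟶ YK) (hk : RepWith @IsClosedImmersion k)
    (i : Z ⟶ Y) (hZ : IsSchImage (k ≫ pr) i) :
    LocP @Flat (i ≫ pY) ∧
    (∃ m : H ⟶ Z, m ≫ i = k ≫ pr ∧ IsPullback m k i pr) ∧
    (∀ (Z' : Sp (Spec (CommRingCat.of R))) (i' : Z' ⟶ Y) (m' : H ⟶ Z'),
      RepWith @IsClosedImmersion i' → LocP @Flat (i' ≫ pY) →
      IsPullback m' k i' pr → ∃ e : Z ≅ Z', e.hom ≫ i' = i) := by
  set S := Spec (CommRingCat.of R) with hS
  set g : Over.mk (Neron.genPt R) ⟶ Over.mk (𝟙 S) := Over.mkIdTerminal.from (Over.mk (Neron.genPt R)) with hg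
  have hgl : g.left = Neron.genPt R := by
    have := Over.w g
    simpa using this
  have hgq : QuasiCompact g.left := by rw [hgl]; exact inferInstanceAs (QuasiCompact (Spec.map _))
  have hgk : g.left.ker = ⊥ := by rw [hgl]; exact ker_genPt R
  have hprq : RepWith @QuasiCompact pr := MorphismProperty.of_isPullback (P := RepWith _) hYK.flip
    ((repWith_yon_map_iff _ _).2 hgq)
  have hkq : RepWith @QuasiCompact k := ⟨hk.1, fun _ _ g fst snd sq => by
    have : IsClosedImmersion snd.left := hk.2 g fst snd sq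
    exact inferInstanceAs (QuasiCompact snd.left)⟩
  have hfq : RepWith @QuasiCompact (k ≫ pr) := MorphismProperty.comp_mem _ _ _ hkq hprq
  have hkm := mono_of_repWith_isClosedImmersion hk
  obtain ⟨hi, ⟨m, hm⟩, hi2⟩ := id hZ
  have him := mono_of_repWith_isClosedImmersion hi
  -- charts
  obtain ⟨U, p, hp⟩ := exists_ch hY
  obtain ⟨y, hy⟩ := (yon S).map_surjective (p ≫ pY)
  obtain ⟨B, t, b, sqB⟩ := hprq.1 p
  obtain ⟨V, r, c, sqV⟩ := hk.1 b
  obtain ⟨A, s, a, sq⟩ := hi.1 p
  have hs : IsClosedImmersion s.left := hi.2 _ _ _ sq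
  have hr : IsClosedImmersion r.left := hk.2 _ _ _ sqV
  have sqfV : IsPullback c ((yon S).map (r ≫ t)) (k ≫ pr) p := by
    rw [Functor.map_comp]
    exact (sqV.flip.paste_horiz sqB.flip).flip
  have hker : s.left.ker = (r ≫ t).left.ker := ker_schImage hY hfq hZ hp sq sqfV
  have ha : RepWith @Etale a := MorphismProperty.of_isPullback (P := RepWith _) sq.flip hp.et
  have has : RepWith @Surjective a := MorphismProperty.of_isPullback (P := RepWith _) sq.flip hp.surj
  -- the square `B = U ×_S K`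
  obtain ⟨π, hπ⟩ := (yon S).map_surjective (b ≫ qK)
  have sqU : IsPullback t π y g := by
    apply K598.RepKit.isPullback_of_yon
    rw [hπ, hy]
    exact sqB.flip.paste_vert hYK
  have sqU' : IsPullback t.left π.left y.left g.left := sqU.map (Over.forget S)
  have hgf : Flat g.left := by
    rw [hgl]
    have : Flat (Spec.map (CommRingCat.ofHom (algebraMap R (FractionRing R)))) := by
      rw [HasRingHomProperty.Spec_iff (P := @Flat)]
      change (algebraMap R (FractionRing R)).Flat
      rw [RingHom.flat_algebraMap_iff]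
      exact IsLocalization.flat (FractionRing R) (nonZeroDivisors R)
    exact this
  have hgm : Mono g.left := by
    rw [hgl]
    have : IsPreimmersion (Spec.map (CommRingCat.ofHom (algebraMap R (FractionRing R)))) :=
      IsPreimmersion.of_isLocalization (nonZeroDivisors R)
    infer_instance
  have hjp : (r ≫ t).left ≫ y.left = (r ≫ π).left ≫ g.left := by
    rw [Over.comp_left, Over.comp_left, Category.assoc, Category.assoc, sqU'.w]
  have hqc : QuasiCompact (r ≫ t).left := hfq.2 _ _ _ sqfV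
  have hcl : IsClosedImmersion (pullback.lift (r ≫ t).left (r ≫ π).left hjp) := by
    have h1 : pullback.lift (r ≫ t).left (r ≫ π).left hjp = r.left ≫ sqU'.isoPullback.hom := by
      apply pullback.hom_ext
      · rw [pullback.lift_fst, Category.assoc, IsPullback.isoPullback_hom_fst]; rfl
      · rw [pullback.lift_snd, Category.assoc, IsPullback.isoPullback_hom_snd]; rfl
    rw [h1]
    infer_instance
  have sqI := K491.Closure.isPullback_image g.left y.left (r ≫ π).left (r ≫ t).left hjp
  have sqI' : IsPullback (r ≫ t).left.toImage r.left (r ≫ t).left.imageι t.left := by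
    refine IsPullback.of_bot (v₂₁ := π.left) (v₂₂ := y.left) (h₃₁ := g.left) sqI ?_ sqU'
    exact (r ≫ t).left.toImage_imageι
  have hcl2 : IsClosedImmersion (r ≫ t).left.imageι := inferInstance
  obtain ⟨e, he⟩ := exists_iso_of_ker s.left (r ≫ t).left.imageι (by
    rw [hker]
    exact (Scheme.IdealSheafData.ker_subschemeι _).symm)
  -- flatness
  have hdom := K597.FlatKer.isSchDom_toImage (r ≫ t).left
  have hflI : Flat ((r ≫ t).left.imageι ≫ y.left) := by
    refine K491.Closure.flat_of_schemeDominant (K := FractionRing R) (r ≫ t).left.toImage _ (r ≫ π).left ?_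
    rw [← Category.assoc, (r ≫ t).left.toImage_imageι, hjp, hgl]
  have hflA : Flat (s ≫ y).left := by
    rw [Over.comp_left, ← he, Category.assoc]
    infer_instance
  -- the square over `U`
  have sqn : ∃ n : V ⟶ A, IsPullback n r s t := by
    have h1 : IsPullback ((r ≫ t).left.toImage ≫ e.inv) r.left s.left t.left := by
      refine IsPullback.of_iso sqI' (Iso.refl _) e.symm (Iso.refl _) (Iso.refl _) ?_ ?_ ?_ ?_
      · simp
      · simp
      · simp [← he]
      · simp
    let n : V ⟶ A := Over.homMk ((r ≫ t).left.toImage ≫ e.inv) (by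
      rw [← Over.w s, ← Category.assoc, h1.w, Category.assoc, Over.w t, Over.w r])
    exact ⟨n, IsPullback.of_map (Over.forget S) (by ext1; exact h1.w) h1⟩
  obtain ⟨n, hn⟩ := sqn
  refine ⟨?_, ⟨m, hm, isPullback_of_chart hm him hkm hp.fSurj sq sqB sqV hn⟩, ?_⟩
  · refine K597.locP_of_chart K597.etLoc_flat (i ≫ pY) a (𝟙 _) (s ≫ y) ha has (repWith_id _ _) ?_ hflA
    rw [Category.comp_id, Functor.map_comp, hy, ← Category.assoc, sq.w, Category.assoc]
  · intro Z' i' m' hi' hfl sqm
    have him' := mono_of_repWith_isClosedImmersion hi'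
    obtain ⟨A', s', a', sq'⟩ := hi'.1 p
    have hs' : IsClosedImmersion s'.left := hi'.2 _ _ _ sq'
    have ha' : RepWith @Etale a' := MorphismProperty.of_isPullback (P := RepWith _) sq'.flip hp.et
    have hfl' : Flat (s' ≫ y).left := hfl a' (𝟙 _) (s' ≫ y) ha' (repWith_id _ _) (by
      rw [Category.comp_id, Functor.map_comp, hy, ← Category.assoc, sq'.w, Category.assoc])
    have sqV' : IsPullback (c ≫ m') ((yon S).map r) i' ((yon S).map t ≫ p) := by
      rw [← sqB.w]
      exact (sqV.flip.paste_vert sqm.flip).flip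
    obtain ⟨ψ, -, hψ⟩ := exists_isPullback_of_comp sq' sqV'
    have hψ' : IsPullback ψ.left r.left s'.left t.left := hψ.map (Over.forget S)
    have hfl2 : Flat (s'.left ≫ y.left) := hfl'
    have hker' : (r.left ≫ t.left).ker = s'.left.ker := ker_eq_of_flat hgk sqU' hψ'
    have hke : s.left.ker = s'.left.ker := by
      rw [hker, ← hker']
      rfl
    obtain ⟨b₁, hb₁⟩ := exists_factor him' hp.fSurj sq sq' hs' hke.ge
    obtain ⟨b₂, hb₂⟩ := exists_factor him hp.fSurj sq' sq hs hke.le
    exact exists_iso him him' hb₁ hb₂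

end dedekind

end K651.FlatCl
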