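import Groth.Agent.S0536
import Groth.Agent.S0528
import Mathlib.AlgebraicGeometry.Morphisms.Smooth
import Mathlib.AlgebraicGeometry.Stalk

/-!
# Sections of smooth schemes over Henselian local rings
-/

set_option autoImplicit false
universe v w u

open CategoryTheory CategoryTheory.Limits AlgebraicGeometry Opposite

namespace K651.HensSec

/-- A map from the spectrum of a local ring factors through an open containing the image of the closed point. -/
theorem range_subset {R : CommRingCat.{u}} [IsLocalRing R] {W : Scheme.{u}} (f : Spec R ⟶ W) (V : W.Opens)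
    (h : f (IsLocalRing.closedPoint R) ∈ V) : Set.range f ⊆ Set.range V.ι := by
  rintro _ ⟨y, rfl⟩
  rw [Scheme.Opens.range_ι]
  exact (IsLocalRing.specializes_closedPoint y).mem_open (f ⁻¹ᵁ V).isOpen h

/-- Smooth schemes over a Henselian local ring `R` have the lifting property for `Spec R/a → Spec R`. -/
theorem exists_section {R : Type u} [CommRing R] [HenselianLocalRing R] {W : Scheme.{u}}
    (f : W ⟶ Spec (CommRingCat.of R)) (hf : Smooth f) (a : Ideal R) (ha : a ≠ ⊤)
    (w : Spec (CommRingCat.of (R ⧸ a)) ⟶ W) (hw : w ≫ f = Spec.map (CommRingCat.ofHom (Ideal.Quotient.mk a))) :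
    ∃ s : Spec (CommRingCat.of R) ⟶ W, s ≫ f = 𝟙 _ ∧ Spec.map (CommRingCat.ofHom (Ideal.Quotient.mk a)) ≫ s = w := by
  have hnt : Nontrivial (R ⧸ a) := Ideal.Quotient.nontrivial_iff.2 ha
  have hloc : IsLocalRing (R ⧸ a) := IsLocalRing.of_surjective' (Ideal.Quotient.mk a) Ideal.Quotient.mk_surjective
  have hle : a ≤ IsLocalRing.maximalIdeal R := IsLocalRing.le_maximalIdeal ha
  have hH : HenselianRing R a := ((Groth.Agent.S0528.result R a _ hle).1 inferInstance).1
  let y₀ : W := w (IsLocalRing.closedPoint (R ⧸ a))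
  obtain ⟨V, hV, hyV⟩ : ∃ V : W.Opens, IsAffineOpen V ∧ y₀ ∈ V := by
    obtain ⟨_, ⟨V, hV, rfl⟩, hyV, -⟩ :=
      W.isBasis_affineOpens.exists_subset_of_mem_open (Set.mem_univ y₀) isOpen_univ
    exact ⟨V, hV, hyV⟩
  have hr : Set.range w ⊆ Set.range V.ι := range_subset (R := CommRingCat.of (R ⧸ a)) w V hyV
  have hVa : IsAffine V.toScheme := hV
  let w' : Spec (CommRingCat.of (R ⧸ a)) ⟶ V.toScheme := IsOpenImmersion.lift V.ι w hr
  have hw' : w' ≫ V.ι = w := IsOpenImmersion.lift_fac _ _ _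
  -- the `R`-algebra
  let B := Γ(V.toScheme, ⊤)
  let φ : CommRingCat.of R ⟶ B := Spec.preimage (V.toScheme.isoSpec.inv ≫ V.ι ≫ f)
  have hφ : Spec.map φ = V.toScheme.isoSpec.inv ≫ V.ι ≫ f := Spec.map_preimage _
  have hsm : Smooth (Spec.map φ) := by
    rw [hφ]
    infer_instance
  let σ : B ⟶ CommRingCat.of (R ⧸ a) := Spec.preimage (w' ≫ V.toScheme.isoSpec.hom)
  have hσ : Spec.map σ = w' ≫ V.toScheme.isoSpec.hom := Spec.map_preimage _
  have hφσ : φ ≫ σ = CommRingCat.ofHom (Ideal.Quotient.mk a) := by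
    apply Spec.map_injective
    rw [Spec.map_comp, hσ, hφ, Category.assoc, Iso.hom_inv_id_assoc, reassoc_of% hw', hw]
  algebraize [φ.hom]
  have hsm' : Algebra.Smooth R B := by
    have := (HasRingHomProperty.Spec_iff (P := @Smooth)).1 hsm
    exact this
  obtain ⟨τ, hτ⟩ := Groth.Agent.S0536.result R B R a (⟨σ.hom, fun r => by
    have := congrArg (fun f => f.hom r) hφσ
    exact this⟩ : B →ₐ[R] R ⧸ a)
  let τ' : B ⟶ CommRingCat.of R := CommRingCat.ofHom τ.toRingHom
  have h1 : φ ≫ τ' = 𝟙 _ := by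
    ext r
    exact τ.commutes r
  have h2 : τ' ≫ CommRingCat.ofHom (Ideal.Quotient.mk a) = σ := by
    ext r
    exact congrArg (fun f => f r) hτ
  refine ⟨Spec.map τ' ≫ V.toScheme.isoSpec.inv ≫ V.ι, ?_, ?_⟩
  · rw [Category.assoc, Category.assoc, ← hφ, ← Spec.map_comp, h1, Spec.map_id]
  · rw [← Category.assoc, ← Spec.map_comp, h2, hσ, Category.assoc, Iso.hom_inv_id_assoc, hw']

/-- the case of the residue field -/
theorem exists_section_residue {R : Type u} [CommRing R] [HenselianLocalRing R] {W : Scheme.{u}}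
    (f : W ⟶ Spec (CommRingCat.of R)) (hf : Smooth f)
    (w : Spec (CommRingCat.of (IsLocalRing.ResidueField R)) ⟶ W)
    (hw : w ≫ f = Spec.map (CommRingCat.ofHom (IsLocalRing.residue R))) :
    ∃ s : Spec (CommRingCat.of R) ⟶ W, s ≫ f = 𝟙 _ ∧ Spec.map (CommRingCat.ofHom (IsLocalRing.residue R)) ≫ s = w :=
  exists_section f hf (IsLocalRing.maximalIdeal R) (Ideal.IsPrime.ne_top inferInstance) w hw

end K651.HensSec
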