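import Groth.Agent.AlgSp.K651.FieldLift
import Groth.Agent.AlgSp.K651.HensSec

/-!
# Points of algebraic spaces with values in Henselian local rings
-/

set_option autoImplicit false
universe v w u

open CategoryTheory CategoryTheory.Limits AlgebraicGeometry Opposite

namespace K651.Hens

open AlgSp K613.Basic K613.Cover K613.Chart K613.Diag K651.FieldLift K651.HensSec

variable {S : Scheme.{u}} {X : Sp S}

/-- A smooth chart through which the restriction of an `R`-point to `R/a` lifts: the `R`-point lifts. -/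
theorem exists_lift_of_chart {R : Type u} [CommRing R] [HenselianLocalRing R] (str : Spec (CommRingCat.of R) ⟶ S)
    (z : (yon S).obj (Over.mk str) ⟶ X) {Z : Over S} {p : (yon S).obj Z ⟶ X} (hp : RepWith @Smooth p)
    (a : Ideal R) (ha : a ≠ ⊤)
    (g : Over.mk (Spec.map (CommRingCat.ofHom (Ideal.Quotient.mk a)) ≫ str) ⟶ Z)
    (hg : (yon S).map g ≫ p = (yon S).map (Over.homMk (Spec.map (CommRingCat.ofHom (Ideal.Quotient.mk a))) rfl :
        Over.mk (Spec.map (CommRingCat.ofHom (Ideal.Quotient.mk a)) ≫ str) ⟶ Over.mk str) ≫ z) :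
    ∃ g' : Over.mk str ⟶ Z, (yon S).map g' ≫ p = z ∧
      (Over.homMk (Spec.map (CommRingCat.ofHom (Ideal.Quotient.mk a))) rfl :
        Over.mk (Spec.map (CommRingCat.ofHom (Ideal.Quotient.mk a)) ≫ str) ⟶ Over.mk str) ≫ g' = g := by
  obtain ⟨W, α, k, sq⟩ := hp.1 z
  obtain ⟨c, rfl⟩ := (yon S).map_surjective k
  have hα : Smooth α.left := hp.2 _ _ _ sq
  obtain ⟨w, hw⟩ := (yon S).map_surjective (sq.lift _ _ hg)
  have hw1 : w ≫ c = g := by
    apply (yon S).map_injective
    rw [Functor.map_comp, hw, sq.lift_fst]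
  have hw2 : w ≫ α = Over.homMk (Spec.map (CommRingCat.ofHom (Ideal.Quotient.mk a))) rfl := by
    apply (yon S).map_injective
    rw [Functor.map_comp, hw, sq.lift_snd]
  obtain ⟨s, hs1, hs2⟩ := exists_section α.left hα a ha w.left (congrArg (·.left) hw2)
  let s' : Over.mk str ⟶ W := Over.homMk s (by
    rw [← Over.w α, reassoc_of% hs1])
  have hs' : s' ≫ α = 𝟙 _ := by
    ext1
    exact hs1
  refine ⟨s' ≫ c, ?_, ?_⟩
  · rw [Functor.map_comp, Category.assoc, sq.w, ← Category.assoc, ← Functor.map_comp, hs',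
      CategoryTheory.Functor.map_id, Category.id_comp]
  · rw [← Category.assoc, ← hw1]
    congr 1
    ext1
    exact hs2

theorem repWith_smooth_of_etale {F G : Sp S} {p : F ⟶ G} (hp : RepWith @Etale p) : RepWith @Smooth p :=
  ⟨hp.1, fun T V g fst snd sq => by
    have h : Etale snd.left := hp.2 g fst snd sq
    exact inferInstanceAs (Smooth snd.left)⟩

theorem exists_affine_etale_chart (hX : IsAlgSpace X) {R : Type u} [CommRing R] [HenselianLocalRing R]
    (str : Spec (CommRingCat.of R) ⟶ S) (z : (yon S).obj (Over.mk str) ⟶ X) :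
    ∃ (Z : Over S) (p : (yon S).obj Z ⟶ X) (g : Over.mk str ⟶ Z),
      IsAffine Z.left ∧ RepWith @Etale p ∧ (yon S).map g ≫ p = z := by
  obtain ⟨Z, p, g, hZ, hp, hg⟩ := exists_affine_chart_lift (k := IsLocalRing.ResidueField R)
    (Spec.map (CommRingCat.ofHom (IsLocalRing.residue R)) ≫ str) hX
    ((yon S).map (Over.homMk (Spec.map (CommRingCat.ofHom (IsLocalRing.residue R))) rfl :
        Over.mk (Spec.map (CommRingCat.ofHom (IsLocalRing.residue R)) ≫ str) ⟶ Over.mk str) ≫ z)
  obtain ⟨g', hg', -⟩ := exists_lift_of_chart str z (repWith_smooth_of_etale hp) (IsLocalRing.maximalIdeal R)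
    (Ideal.IsPrime.ne_top inferInstance) g hg
  exact ⟨Z, p, g', hZ, hp, hg'⟩

theorem exists_lift_of_smooth {Z : Sp S} (hZ : IsAlgSpace Z) (hX : IsAlgSpace X)
    (f : Z ⟶ X) (hf : LocP @Smooth f)
    (R : Type u) [CommRing R] [HenselianLocalRing R] (str : Spec (CommRingCat.of R) ⟶ S)
    (z : (yon S).obj (Over.mk str) ⟶ X)
    (z₀ : (yon S).obj (Over.mk (Spec.map (CommRingCat.ofHom (IsLocalRing.residue R)) ≫ str)) ⟶ Z)
    (w : z₀ ≫ f = (yon S).map (Over.homMk (Spec.map (CommRingCat.ofHom (IsLocalRing.residue R))) rfl :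
        Over.mk (Spec.map (CommRingCat.ofHom (IsLocalRing.residue R)) ≫ str) ⟶ Over.mk str) ≫ z) :
    ∃ z' : (yon S).obj (Over.mk str) ⟶ Z, z' ≫ f = z ∧
      (yon S).map (Over.homMk (Spec.map (CommRingCat.ofHom (IsLocalRing.residue R))) rfl :
        Over.mk (Spec.map (CommRingCat.ofHom (IsLocalRing.residue R)) ≫ str) ⟶ Over.mk str) ≫ z' = z₀ := by
  obtain ⟨V, q, g, hV, hq, hg⟩ := exists_affine_etale_chart hX str z
  obtain ⟨W, r, g₀, hW, hr, hg₀⟩ := exists_affine_chart_lift (k := IsLocalRing.ResidueField R)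
    (Spec.map (CommRingCat.ofHom (IsLocalRing.residue R)) ≫ str) hZ z₀
  -- `U = W ×_X V`
  obtain ⟨U, c, α, sq⟩ := exists_refine hX.diag f r q
  have hc : Etale c.left := etale_of_isPullback sq hq
  have hU : RepWith @Etale ((yon S).map c ≫ r) := MorphismProperty.comp_mem _ _ _
    ((repWith_yon_map_iff _ _).2 hc) hr
  have hα : Smooth α.left := hf ((yon S).map c ≫ r) q α hU hq (by rw [Category.assoc]; exact sq.w)
  let m : Over.mk (Spec.map (CommRingCat.ofHom (IsLocalRing.residue R)) ≫ str) ⟶ Over.mk str :=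
    Over.homMk (Spec.map (CommRingCat.ofHom (IsLocalRing.residue R))) rfl
  have hw : (yon S).map g₀ ≫ r ≫ f = (yon S).map (m ≫ g) ≫ q := by
    rw [← Category.assoc, hg₀, w, Functor.map_comp, Category.assoc, hg]
  obtain ⟨u₀, hu₀⟩ := (yon S).map_surjective (sq.lift _ _ hw)
  have hu1 : u₀ ≫ c = g₀ := by
    apply (yon S).map_injective
    rw [Functor.map_comp, hu₀, sq.lift_fst]
  have hu2 : (yon S).map u₀ ≫ (yon S).map α = (yon S).map m ≫ (yon S).map g := by
    rw [hu₀, sq.lift_snd, Functor.map_comp]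
  obtain ⟨g', hg'1, hg'2⟩ := exists_lift_of_chart str ((yon S).map g) ((repWith_yon_map_iff @Smooth _).2 hα)
    (IsLocalRing.maximalIdeal R) (Ideal.IsPrime.ne_top inferInstance) u₀ hu2
  refine ⟨(yon S).map (g' ≫ c) ≫ r, ?_, ?_⟩
  · rw [Functor.map_comp, Category.assoc, Category.assoc, sq.w, ← Category.assoc, hg'1, hg]
  · rw [← Category.assoc, ← Functor.map_comp, ← Category.assoc]
    have h1 : m ≫ g' = u₀ := hg'2
    change (yon S).map ((m ≫ g') ≫ c) ≫ r = z₀
    rw [h1, hu1, hg₀]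

end K651.Hens
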