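import Groth.Agent.AlgSp.K651.Hens
import Groth.Agent.S0505
import Groth.Agent.S0115

/-!
# Points of smooth algebraic spaces over Henselian local rings
-/

set_option autoImplicit false
universe v w u

open CategoryTheory CategoryTheory.Limits AlgebraicGeometry Opposite

namespace K651.Hens

open AlgSp K613.Basic K613.Cover K613.Chart K613.Diag K651.FieldLift K651.HensSec

theorem henselianLocalRing_quotient (R : Type u) [CommRing R] [HenselianLocalRing R] (a : Ideal R) (ha : a ≠ ⊤) :
    HenselianLocalRing (R ⧸ a) := by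
  have hnt : Nontrivial (R ⧸ a) := Ideal.Quotient.nontrivial_iff.2 ha
  have hloc : IsLocalRing (R ⧸ a) := IsLocalRing.of_surjective' (Ideal.Quotient.mk a) Ideal.Quotient.mk_surjective
  exact Groth.Agent.S0505.result R (R ⧸ a)

/-- An étale chart of an algebraic space with a smooth étale atlas is smooth. -/
theorem smooth_hom_of_chart {S : Scheme.{u}} {X : Sp S} (hX : Representable (Limits.diag X)) {U : Over S} {c : (yon S).obj U ⟶ X}
    (hU : Smooth U.hom) (hc : Ch c) {Z : Over S} {p : (yon S).obj Z ⟶ X} (hp : RepWith @Etale p) : Smooth Z.hom := by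
  obtain ⟨W, a, b, sq⟩ := exists_refine hX (𝟙 X) p c
  rw [Category.comp_id] at sq
  have ha : Etale a.left := etale_of_isPullback sq hc.et
  have ha' : Surjective a.left := prop_of_isPullback sq hc.surj
  have hb : Etale b.left := etale_of_isPullback sq.flip hp
  have hab : a.left ≫ Z.hom = b.left ≫ U.hom := by rw [Over.w a, Over.w b]
  have hs : Smooth (a.left ≫ Z.hom) := by
    rw [hab]
    infer_instance
  exact Groth.Agent.S0115.result a.left Z.hom

theorem quotient_points_lift (R : Type u) [CommRing R] [HenselianLocalRing R]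
    {X : Sp (Spec (CommRingCat.of R))} (hX0 : IsAlgSpace X)
    (hX : ∃ (U : Over (Spec (CommRingCat.of R))) (c : (yon (Spec (CommRingCat.of R))).obj U ⟶ X),
      Smooth U.hom ∧ RepWith @Etale c ∧ RepWith @Surjective c)
    (a : Ideal R) (ha : a ≠ ⊤)
    (x₀ : (yon (Spec (CommRingCat.of R))).obj (Over.mk (Spec.map (CommRingCat.ofHom (Ideal.Quotient.mk a)))) ⟶ X) :
    ∃ x : (yon (Spec (CommRingCat.of R))).obj (Over.mk (𝟙 (Spec (CommRingCat.of R)))) ⟶ X,
      (yon (Spec (CommRingCat.of R))).map (Over.homMk (Spec.map (CommRingCat.ofHom (Ideal.Quotient.mk a)))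
        (Category.comp_id _) : Over.mk (Spec.map (CommRingCat.ofHom (Ideal.Quotient.mk a))) ⟶ Over.mk (𝟙 _)) ≫ x = x₀ := by
  obtain ⟨U, c, hU, hc1, hc2⟩ := hX
  have := henselianLocalRing_quotient R a ha
  obtain ⟨Z, p, g, -, hp, hg⟩ := exists_affine_etale_chart (R := R ⧸ a) hX0
    (Spec.map (CommRingCat.ofHom (Ideal.Quotient.mk a))) x₀
  have hZ := smooth_hom_of_chart hX0.diag hU ⟨hc1, hc2⟩ hp
  obtain ⟨s, hs1, hs2⟩ := exists_section (R := R) Z.hom hZ a ha g.left (Over.w g)
  refine ⟨(yon _).map (Over.homMk s hs1 : Over.mk (𝟙 _) ⟶ Z) ≫ p, ?_⟩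
  rw [← Category.assoc, ← Functor.map_comp, ← hg]
  congr 2
  ext1
  exact hs2

end K651.Hens
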