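import Groth.Agent.AlgSp.K651.LimPres
import Groth.Agent.S0591

/-!
# Spreading out an fpqc sheaf which becomes representable over a limit

`E` is a cofiltered system of schemes over `S` with limit `c.pt`, faithfully flat over `S`; `X` an fpqc sheaf over `S`
such that `X ×_S c.pt` is representable by a scheme of finite presentation over `c.pt`. Then this holds for some `E.obj k`.
-/

set_option autoImplicit false
universe u

open CategoryTheory CategoryTheory.Limits AlgebraicGeometry Opposite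

namespace K651.LimModel

open AlgSp K613.Basic K628.Fqc K651.FpqcSh K625.Prod Groth.Agent.Ega43.LimitDescend K651.LimPres

variable {S : Scheme.{u}} {X : Sp S}

/-- Fpqc descent of the universal property. -/
theorem isPullback_of_unique (hX : IsFpqcSh X) {T : Over S} (hT : FqC (toBase T)) {E₀ E₁ V : Over S} {φ : E₁ ⟶ E₀}
    {f : V ⟶ E₀} {u : (yon S).obj V ⟶ X}
    (h : ∀ (R : Over S) (_ : R ⟶ T) (τ : R ⟶ E₁) (ξ : (yon S).obj R ⟶ X),
      ∃! x : R ⟶ V, x ≫ f = τ ≫ φ ∧ (yon S).map x ≫ u = ξ) {V₁ : Over S} {a : V₁ ⟶ V} {b : V₁ ⟶ E₁}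
    (hV : IsPullback a b f φ) :
    IsPullback ((yon S).map a ≫ u) ((yon S).map b) ((isTerminalBase S).from X) ((yon S).map (toBase E₁)) := by
  refine isPullback_of_yon ((isTerminalBase S).hom_ext _ _) fun R ξ τ' _ => ?_
  obtain ⟨τ, rfl⟩ := (yon S).map_surjective τ'
  let d : pullback (toBase R) (toBase T) ⟶ R := pullback.fst _ _
  have hd : FqC d := hT.pullback_fst _
  have hde : Epi d := hd.epi
  obtain ⟨x', ⟨hx1, hx2⟩, hx3⟩ := h _ (pullback.snd (toBase R) (toBase T)) (d ≫ τ) ((yon S).map d ≫ ξ)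
  obtain ⟨x, hx, -⟩ := hd.desc x' (fun Z r r' hr => by
    refine (h Z (r ≫ pullback.snd _ _) (r ≫ d ≫ τ) ((yon S).map (r ≫ d) ≫ ξ)).unique ⟨?_, ?_⟩ ⟨?_, ?_⟩
    · simp only [Category.assoc, hx1]
    · rw [Functor.map_comp, Category.assoc, hx2, Functor.map_comp, Category.assoc]
    · rw [Category.assoc, hx1]
      have h7 : r' ≫ (d ≫ τ) ≫ φ = (r' ≫ d) ≫ τ ≫ φ := by simp only [Category.assoc]
      rw [h7, ← hr]
      simp only [Category.assoc]
    · rw [Functor.map_comp, Category.assoc, hx2, hr, Functor.map_comp, Category.assoc])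
  have hx' : d ≫ x = x' := hx
  have hxf : x ≫ f = τ ≫ φ := by
    rw [← cancel_epi d, ← Category.assoc, hx', hx1, Category.assoc]
  have hxu : (yon S).map x ≫ u = ξ := by
    apply hX.ext hd
    rw [← Category.assoc, ← Functor.map_comp, hx', hx2]
  refine ⟨(yon S).map (hV.lift x τ hxf), ⟨?_, ?_⟩, ?_⟩
  · rw [← Category.assoc, ← Functor.map_comp, hV.lift_fst, hxu]
  · rw [← Functor.map_comp, hV.lift_snd]
  · rintro z' ⟨hz1, hz2⟩
    obtain ⟨z, rfl⟩ := (yon S).map_surjective z'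
    have hzb : z ≫ b = τ := (yon S).map_injective (by rw [Functor.map_comp]; exact hz2)
    congr 1
    apply hV.hom_ext
    · rw [hV.lift_fst, ← cancel_epi d, hx']
      refine hx3 _ ⟨?_, ?_⟩
      · rw [Category.assoc, Category.assoc, hV.w, ← Category.assoc z, hzb, Category.assoc]
      · rw [Functor.map_comp, Functor.map_comp, Category.assoc, Category.assoc, hz1]
    · rw [hV.lift_snd, hzb]

section

variable {J : Type u} [SmallCategory J] [IsCofiltered J] (E : J ⥤ Scheme.{u}) (c : Cone E)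
    (hc : IsLimit c) [∀ (i j : J) (φ : i ⟶ j), IsAffineHom (E.map φ)]
    [∀ j, CompactSpace (E.obj j)] [∀ j, QuasiSeparatedSpace (E.obj j)]
    (t : ∀ j, E.obj j ⟶ S) (ht : ∀ {i j : J} (φ : i ⟶ j), E.map φ ≫ t j = t i)
    (s : c.pt ⟶ S) (hs : ∀ j, c.π.app j ≫ t j = s)
    {Y : Scheme.{u}} (q₀ : Y ⟶ c.pt)
    (p : (yon S).obj (Over.mk (q₀ ≫ s)) ⟶ X)
    (sq : IsPullback p ((yon S).map (Over.homMk q₀ rfl : Over.mk (q₀ ≫ s) ⟶ Over.mk s))
      ((isTerminalBase S).from X) ((yon S).map (toBase (Over.mk s))))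

include hc ht hs sq in
/-- A finite level model together with the map to `X`. -/
theorem exists_step2 (hX : IsFpqcSh X) [Flat s] [Surjective s] [QuasiCompact s] [QuasiSeparated s]
    [LocallyOfFinitePresentation q₀] [QuasiCompact q₀] [QuasiSeparated q₀] :
    ∃ (j : J) (Xj : Scheme.{u}) (fj : Xj ⟶ E.obj j) (_ : LocallyOfFinitePresentation fj)
      (_ : QuasiCompact fj) (_ : QuasiSeparated fj) (gj : Over.mk (q₀ ≫ s) ⟶ Over.mk (fj ≫ t j))
      (uj : (yon S).obj (Over.mk (fj ≫ t j)) ⟶ X),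
      IsPullback gj.left q₀ fj (c.π.app j) ∧ (yon S).map gj ≫ uj = p := by
  obtain ⟨i, Xi, fi, g, h1, h2, h3, hP⟩ := Groth.Agent.S0591.result E c hc Y q₀
  let t' : ∀ k : Over i, (Over.forget i ⋙ E).obj k ⟶ E.obj i := fun k => E.map k.hom
  have ht' : ∀ {k l : Over i} (φ : k ⟶ l), (Over.forget i ⋙ E).map φ ≫ t' l = t' k :=
    fun φ => overT_w E i φ
  have hp' : ∀ k, (overCone c i).π.app k ≫ t' k = c.π.app i := fun k => c.w k.hom
  let F := pbDiagram t' ht' fi
  let cF := pbCone t' ht' fi (overCone c i) (c.π.app i) hp' g q₀ hP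
  have hcF : IsLimit cF := isLimitPbCone t' ht' fi (overCone c i) (c.π.app i) hp' g q₀ hP
    (isLimitOverCone c hc i)
  let tF : ∀ k, F.obj k ⟶ S := fun k => pullback.snd fi (t' k) ≫ t k.left
  have htF : ∀ {k l : Over i} (φ : k ⟶ l), F.map φ ≫ tF l = tF k := fun {k l} φ => by
    have h5 := (isPullback_pbSnd t' ht' fi φ).w
    change (pbDiagram t' ht' fi).map φ ≫ pullback.snd fi (t' l) ≫ t l.left = pullback.snd fi (t' k) ≫ t k.left
    rw [← Category.assoc, h5, Category.assoc]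
    exact congrArg (pullback.snd fi (t' k) ≫ ·) (ht φ.left)
  have hsF : ∀ k, cF.π.app k ≫ tF k = q₀ ≫ s := fun k => by
    have h5 := pbCone_π_snd t' ht' fi (overCone c i) (c.π.app i) hp' g q₀ hP k
    change cF.π.app k ≫ pullback.snd fi (t' k) ≫ t k.left = q₀ ≫ s
    rw [← Category.assoc, h5]
    exact (Category.assoc _ _ _).trans (congrArg (q₀ ≫ ·) (hs k.left))
  have i1 : Flat (Over.mk s).hom := ‹Flat s›
  have i2 : Surjective (Over.mk s).hom := ‹Surjective s›
  have i3 : QuasiCompact (Over.mk s).hom := ‹QuasiCompact s›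
  have i4 : QuasiSeparated (Over.mk s).hom := ‹QuasiSeparated s›
  have i5 : LocallyOfFinitePresentation (Over.homMk q₀ rfl : Over.mk (q₀ ≫ s) ⟶ Over.mk s).left := ‹_›
  obtain ⟨k, uk, hk⟩ := exists_stage F cF hcF tF htF (q₀ ≫ s) hsF hX sq p
  exact ⟨k.left, pullback fi (E.map k.hom), pullback.snd fi (E.map k.hom), inferInstance, inferInstance,
    inferInstance,
    pr F cF tF (q₀ ≫ s) hsF k, uk, isPullback_pbCone t' ht' fi (overCone c i) (c.π.app i) hp' g q₀ hP k, hk⟩

set_option backward.isDefEq.respectTransparency false in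
include hc ht hs sq in
/-- At a finite level the map to `X` is bijective over `T`. -/
theorem exists_step3 [QuasiCompact s] [QuasiSeparated s]
    [LocallyOfFinitePresentation q₀] [QuasiCompact q₀] [QuasiSeparated q₀]
    {j : J} {Xj : Scheme.{u}} (fj : Xj ⟶ E.obj j) [LocallyOfFinitePresentation fj]
    [QuasiCompact fj] [QuasiSeparated fj] (gj : Over.mk (q₀ ≫ s) ⟶ Over.mk (fj ≫ t j))
    (uj : (yon S).obj (Over.mk (fj ≫ t j)) ⟶ X)
    (hP : IsPullback gj.left q₀ fj (c.π.app j)) (hu : (yon S).map gj ≫ uj = p) :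
    ∃ (k : J) (φ : k ⟶ j), ∀ (R : Over S) (_ : R ⟶ Over.mk s) (τ : R ⟶ Over.mk (t k))
      (ξ : (yon S).obj R ⟶ X), ∃! x : R ⟶ Over.mk (fj ≫ t j), x.left ≫ fj = τ.left ≫ E.map φ ∧
        (yon S).map x ≫ uj = ξ := by
  let T : Over S := Over.mk s
  let q : Over.mk (q₀ ≫ s) ⟶ T := Over.homMk q₀ rfl
  -- `V_j`
  let VD := pbDiagram t ht s
  have hV0 : IsPullback (pullback.fst s s) (pullback.snd s s) s s := IsPullback.of_hasPullback _ _
  let cV := pbCone t ht s c s hs (pullback.fst s s) (pullback.snd s s) hV0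
  have hcV : IsLimit cV := isLimitPbCone t ht s c s hs _ _ hV0 hc
  let πV : pullback s s ⟶ pullback s (t j) := cV.π.app j
  have hπ1 : πV ≫ pullback.fst s (t j) = pullback.fst s s := pbCone_π_fst t ht s c s hs _ _ hV0 j
  have hπ2 : πV ≫ pullback.snd s (t j) = pullback.snd s s ≫ c.π.app j := pbCone_π_snd t ht s c s hs _ _ hV0 j
  -- `W_j`
  have hWj : IsPullback (pullback.fst fj (pullback.snd s (t j))) (pullback.snd fj (pullback.snd s (t j)))
    fj (pullback.snd s (t j)) := IsPullback.of_hasPullback _ _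
  let Wj : Scheme.{u} := pullback fj (pullback.snd s (t j))
  let w1 : Wj ⟶ Xj := pullback.fst _ _
  let w2 : Wj ⟶ pullback s (t j) := pullback.snd _ _
  have hWj : IsPullback w1 w2 fj (pullback.snd s (t j)) := IsPullback.of_hasPullback _ _
  -- `R_j`
  let Rj : Scheme.{u} := pullback q₀ (pullback.fst s (t j))
  let r1 : Rj ⟶ Y := pullback.fst _ _
  let r2 : Rj ⟶ pullback s (t j) := pullback.snd _ _
  have hRj : IsPullback r1 r2 q₀ (pullback.fst s (t j)) := IsPullback.of_hasPullback _ _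
  have iw1 : LocallyOfFinitePresentation w2 := inferInstance
  have iw2 : QuasiCompact w2 := inferInstance
  have iw3 : QuasiSeparated w2 := inferInstance
  have ir1 : LocallyOfFinitePresentation r2 := inferInstance
  have ir2 : QuasiCompact r2 := inferInstance
  have ir3 : QuasiSeparated r2 := inferInstance
  -- `m_j`
  let Wj' : Over S := Over.mk (w1 ≫ fj ≫ t j)
  let w1' : Wj' ⟶ Over.mk (fj ≫ t j) := Over.homMk w1 rfl
  have hWjs : (w2 ≫ pullback.fst s (t j)) ≫ s = w1 ≫ fj ≫ t j := by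
    rw [Category.assoc, pullback.condition, ← Category.assoc, ← hWj.w, Category.assoc]
  let wT : Wj' ⟶ T := Over.homMk (w2 ≫ pullback.fst s (t j)) hWjs
  obtain ⟨mj, hmj1, hmj2⟩ := exists_point sq wT ((yon S).map w1' ≫ uj)
  have hmj1' : mj.left ≫ q₀ = w2 ≫ pullback.fst s (t j) := congrArg (fun f => f.left) hmj1
  let Mj : Wj ⟶ Rj := pullback.lift mj.left w2 hmj1'
  have hMj1 : Mj ≫ r1 = mj.left := pullback.lift_fst _ _ _
  have hMj2 : Mj ≫ r2 = w2 := pullback.lift_snd _ _ _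
  -- the limits
  let W : Scheme.{u} := pullback q₀ (pullback.snd s s)
  let W1 : W ⟶ Y := pullback.fst _ _
  let W2 : W ⟶ pullback s s := pullback.snd _ _
  have hW : IsPullback W1 W2 q₀ (pullback.snd s s) := IsPullback.of_hasPullback _ _
  let R : Scheme.{u} := pullback q₀ (pullback.fst s s)
  let R1 : R ⟶ Y := pullback.fst _ _
  let R2 : R ⟶ pullback s s := pullback.snd _ _
  have hR : IsPullback R1 R2 q₀ (pullback.fst s s) := IsPullback.of_hasPullback _ _
  have hWW : (W1 ≫ gj.left) ≫ fj = (W2 ≫ πV) ≫ pullback.snd s (t j) := by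
    rw [Category.assoc, hP.w, Category.assoc, hπ2, ← Category.assoc, hW.w, Category.assoc]
  let πW : W ⟶ Wj := pullback.lift (W1 ≫ gj.left) (W2 ≫ πV) hWW
  have hπW1 : πW ≫ w1 = W1 ≫ gj.left := pullback.lift_fst _ _ _
  have hπW2 : πW ≫ w2 = W2 ≫ πV := pullback.lift_snd _ _ _
  have hRR : R1 ≫ q₀ = (R2 ≫ πV) ≫ pullback.fst s (t j) := by
    rw [hR.w, Category.assoc, hπ1]
  let πR : R ⟶ Rj := pullback.lift R1 (R2 ≫ πV) hRR
  have hπR1 : πR ≫ r1 = R1 := pullback.lift_fst _ _ _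
  have hπR2 : πR ≫ r2 = R2 ≫ πV := pullback.lift_snd _ _ _
  have hsqW : IsPullback πW W2 w2 πV := by
    refine IsPullback.of_right ?_ hπW2 hWj
    rw [hπW1, hπ2]
    exact hW.paste_horiz hP
  have hsqR : IsPullback πR R2 r2 πV := by
    refine IsPullback.of_right ?_ hπR2 hRj
    rw [hπR1, hπ1]
    exact hR
  have hmq : (πW ≫ mj.left) ≫ q₀ = W2 ≫ pullback.fst s s := by
    rw [Category.assoc, hmj1', ← Category.assoc, hπW2, Category.assoc, hπ1]
  let M : W ⟶ R := pullback.lift (πW ≫ mj.left) W2 hmq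
  have hM1 : M ≫ R1 = πW ≫ mj.left := pullback.lift_fst _ _ _
  have hM2 : M ≫ R2 = W2 := pullback.lift_snd _ _ _
  have hMM : πW ≫ Mj = M ≫ πR := by
    apply hRj.hom_ext
    · rw [Category.assoc, hMj1, Category.assoc, hπR1, hM1]
    · rw [Category.assoc, hMj2, Category.assoc, hπR2, ← Category.assoc, hM2, hπW2]
  have hsqM : IsPullback πW M Mj πR := by
    refine IsPullback.of_bot ?_ hMM hsqR
    rw [hM2, hMj2]
    exact hsqW
  -- the inverse in the limit
  have hVs : (pullback.snd s s) ≫ s = pullback.fst s s ≫ s := pullback.condition.symm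
  let R' : Over S := Over.mk (R1 ≫ q₀ ≫ s)
  have hR2s : (R2 ≫ pullback.snd s s) ≫ s = R1 ≫ q₀ ≫ s := by
    rw [Category.assoc, hVs, ← Category.assoc, ← hR.w, Category.assoc]
  let nT : R' ⟶ T := Over.homMk (R2 ≫ pullback.snd s s) hR2s
  let R1' : R' ⟶ Over.mk (q₀ ≫ s) := Over.homMk R1 rfl
  obtain ⟨n, hn1, hn2⟩ := exists_point sq nT ((yon S).map R1' ≫ p)
  have hn1' : n.left ≫ q₀ = R2 ≫ pullback.snd s s := congrArg (fun f => f.left) hn1
  let N : R ⟶ W := pullback.lift n.left R2 hn1'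
  have hN1 : N ≫ W1 = n.left := pullback.lift_fst _ _ _
  have hN2 : N ≫ W2 = R2 := pullback.lift_snd _ _ _
  let W' : Over S := Over.mk (W1 ≫ q₀ ≫ s)
  let W1' : W' ⟶ Over.mk (q₀ ≫ s) := Over.homMk W1 rfl
  have hM' : M ≫ R1 ≫ q₀ ≫ s = W1 ≫ q₀ ≫ s := by
    rw [← Category.assoc, hM1, ← Category.assoc, hmq, Category.assoc, ← hVs, ← Category.assoc, ← hW.w,
      Category.assoc]
  let M' : W' ⟶ R' := Over.homMk M hM'
  have hπW' : πW ≫ w1 ≫ fj ≫ t j = W1 ≫ q₀ ≫ s := by
    rw [← Category.assoc, hπW1, Category.assoc]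
    congr 1
    exact Over.w gj
  let πW' : W' ⟶ Wj' := Over.homMk πW hπW'
  have e1 : M' ≫ R1' = πW' ≫ mj := Over.OverMorphism.ext hM1
  have e2 : πW' ≫ w1' = W1' ≫ gj := Over.OverMorphism.ext hπW1
  have hN' : N ≫ W1 ≫ q₀ ≫ s = R1 ≫ q₀ ≫ s := by
    rw [← Category.assoc, hN1, ← Category.assoc, hn1', hR2s]
  let N' : R' ⟶ W' := Over.homMk N hN'
  have e3 : N' ≫ W1' = n := Over.OverMorphism.ext hN1
  have hMN : M ≫ N = 𝟙 W := by
    apply hW.hom_ext
    · have h5 : M' ≫ n = W1' := by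
        apply point_ext sq
        · rw [Category.assoc, hn1]
          apply Over.OverMorphism.ext
          change M ≫ R2 ≫ pullback.snd s s = W1 ≫ q₀
          rw [← Category.assoc, hM2, hW.w]
        · rw [Functor.map_comp, Category.assoc, hn2, ← Category.assoc, ← Functor.map_comp, e1, Functor.map_comp,
            Category.assoc, hmj2, ← Category.assoc, ← Functor.map_comp, e2, Functor.map_comp, Category.assoc, hu]
      rw [Category.assoc, hN1, Category.id_comp]
      exact congrArg (fun f => f.left) h5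
    · rw [Category.assoc, hN2, hM2, Category.id_comp]
  have hNM : N ≫ M = 𝟙 R := by
    apply hR.hom_ext
    · have h5 : (N' ≫ πW') ≫ mj = R1' := by
        apply point_ext sq
        · rw [Category.assoc, hmj1]
          apply Over.OverMorphism.ext
          change (N ≫ πW) ≫ w2 ≫ pullback.fst s (t j) = R1 ≫ q₀
          rw [Category.assoc, ← Category.assoc πW, hπW2, Category.assoc, hπ1, ← Category.assoc, hN2, hR.w]
        · rw [Functor.map_comp, Category.assoc, hmj2, ← Category.assoc, ← Functor.map_comp, Category.assoc, e2,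
            ← Category.assoc, e3, Functor.map_comp, Category.assoc, hu, hn2]
      rw [Category.assoc, hM1, Category.id_comp]
      exact (Category.assoc _ _ _).symm.trans (congrArg (fun f => f.left) h5)
    · rw [Category.assoc, hM2, hN2, Category.id_comp]
  have hMi : IsIso M := ⟨N, hMN, hNM⟩
  have ix1 : LocallyOfFinitePresentation (Mj ≫ r2) := by rw [hMj2]; exact iw1
  have ix2 : QuasiCompact (Mj ≫ r2) := by rw [hMj2]; exact iw2
  have ix3 : QuasiSeparated (Mj ≫ r2) := by rw [hMj2]; exact iw3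
  have iy1 : CompactSpace (VD.obj j) := compactSpace_pbDiagram_obj t ht s j
  have iy2 : QuasiSeparatedSpace (VD.obj j) := quasiSeparatedSpace_pbDiagram_obj t ht s j
  obtain ⟨k, φ, Xk, Yk, fk, gk, pY, pX, k1, k2, k3⟩ :=
    exists_descend_of_descendsLim' Groth.Agent.Ega43.LimitDescendIso.descendsLim_isomorphisms
      VD cV hcV j Mj r2 M R2 πR πW hsqR hsqM hMi
  have k3' : IsIso fk := k3
  refine ⟨k, φ, fun Z a τ ξ => ?_⟩
  have hVk : VD.map φ ≫ pullback.fst s (t j) = pullback.fst s (t k) := pbDiagram_map_fst t ht s φ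
  have hVk2 : VD.map φ ≫ pullback.snd s (t j) = pullback.snd s (t k) ≫ E.map φ := (isPullback_pbSnd t ht s φ).w
  have haτ : a.left ≫ s = τ.left ≫ t k := (Over.w a).trans (Over.w τ).symm
  let aτ : Z.left ⟶ VD.obj k := pullback.lift a.left τ.left haτ
  have haτ1 : aτ ≫ pullback.fst s (t k) = a.left := pullback.lift_fst _ _ _
  have haτ2 : aτ ≫ pullback.snd s (t k) = τ.left := pullback.lift_snd _ _ _
  have haφ1 : (aτ ≫ VD.map φ) ≫ pullback.fst s (t j) = a.left := by
    rw [Category.assoc, hVk, haτ1]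
  have haφ2 : (aτ ≫ VD.map φ) ≫ pullback.snd s (t j) = τ.left ≫ E.map φ := by
    rw [Category.assoc, hVk2, ← Category.assoc, haτ2]
  have hcomp : ∀ (y : Z ⟶ Wj') (x : Z ⟶ Over.mk (fj ≫ t j)), y ≫ w1' = x →
      (yon S).map (y ≫ mj) ≫ p = (yon S).map x ≫ uj := by
    intro y x hyx
    rw [Functor.map_comp, Category.assoc, hmj2, ← Category.assoc, ← Functor.map_comp, hyx]
  obtain ⟨x', hx1, hx2⟩ := exists_point sq a ξ
  have hx1' : x'.left ≫ q₀ = a.left := congrArg (fun f => f.left) hx1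
  have hρw : x'.left ≫ q₀ = (aτ ≫ VD.map φ) ≫ pullback.fst s (t j) := by rw [hx1', haφ1]
  let ρ : Z.left ⟶ Rj := hRj.lift x'.left (aτ ≫ VD.map φ) hρw
  have hρ1 : ρ ≫ r1 = x'.left := hRj.lift_fst _ _ _
  have hρ2 : ρ ≫ r2 = aτ ≫ VD.map φ := hRj.lift_snd _ _ _
  let κ : Z.left ⟶ Yk := k1.lift ρ aτ hρ2
  have hκ1 : κ ≫ pY = ρ := k1.lift_fst _ _ _
  let ω : Z.left ⟶ Wj := κ ≫ inv fk ≫ pX
  have hω : ω ≫ Mj = ρ := by
    change (κ ≫ inv fk ≫ pX) ≫ Mj = ρ
    rw [Category.assoc, Category.assoc, k2.w, IsIso.inv_hom_id_assoc, hκ1]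
  have hω2 : ω ≫ w2 = aτ ≫ VD.map φ := by
    rw [← hMj2, ← Category.assoc, hω, hρ2]
  have hωfj : (ω ≫ w1) ≫ fj = τ.left ≫ E.map φ := by
    rw [Category.assoc, hWj.w, ← Category.assoc, hω2, haφ2]
  have hωw : ω ≫ w1 ≫ fj ≫ t j = Z.hom := by
    have h6 : ω ≫ w1 ≫ fj ≫ t j = ((ω ≫ w1) ≫ fj) ≫ t j := by simp only [Category.assoc]
    rw [h6, hωfj, Category.assoc, ht]
    exact Over.w τ
  let ω' : Z ⟶ Wj' := Over.homMk ω hωw
  have hω'm : ω' ≫ mj = x' := by
    apply Over.OverMorphism.ext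
    change ω ≫ mj.left = x'.left
    rw [← hMj1, ← Category.assoc, hω, hρ1]
  refine ⟨ω' ≫ w1', ⟨hωfj, by rw [← hcomp ω' _ rfl, hω'm, hx2]⟩, ?_⟩
  -- uniqueness
  have hall : ∀ x : Z ⟶ Over.mk (fj ≫ t j), x.left ≫ fj = τ.left ≫ E.map φ → (yon S).map x ≫ uj = ξ →
      x = ω' ≫ w1' := by
    intro x hxa hxb
    have hy0 : x.left ≫ fj = (aτ ≫ VD.map φ) ≫ pullback.snd s (t j) := by rw [hxa, haφ2]
    let y0 : Z.left ⟶ Wj := hWj.lift x.left (aτ ≫ VD.map φ) hy0
    have hy1 : y0 ≫ w1 = x.left := hWj.lift_fst _ _ _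
    have hy2 : y0 ≫ w2 = aτ ≫ VD.map φ := hWj.lift_snd _ _ _
    let y : Z ⟶ Wj' := Over.homMk y0 (by
      change y0 ≫ w1 ≫ fj ≫ t j = Z.hom
      rw [← Category.assoc, hy1]
      exact Over.w x)
    have hyx : y ≫ w1' = x := Over.OverMorphism.ext hy1
    have hym : y ≫ mj = x' := by
      apply point_ext sq
      · rw [Category.assoc, hmj1, hx1]
        apply Over.OverMorphism.ext
        change y0 ≫ w2 ≫ pullback.fst s (t j) = a.left
        rw [← Category.assoc, hy2, haφ1]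
      · rw [hcomp y x hyx, hxb, hx2]
    have hyM : y0 ≫ Mj = ρ := by
      apply hRj.hom_ext
      · rw [Category.assoc, hMj1, hρ1]
        exact congrArg (fun f => f.left) hym
      · rw [Category.assoc, hMj2, hy2, hρ2]
    have k4 : IsPullback pX (fk ≫ gk) (Mj ≫ r2) (VD.map φ) := k2.paste_vert k1
    have hl : y0 ≫ Mj ≫ r2 = aτ ≫ VD.map φ := by rw [hMj2, hy2]
    have hlf : k4.lift y0 aτ hl ≫ fk = κ := by
      apply k1.hom_ext
      · rw [Category.assoc, ← k2.w, ← Category.assoc, k4.lift_fst, hyM, hκ1]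
      · rw [Category.assoc, k4.lift_snd, k1.lift_snd]
    have hyω : y0 = ω := by
      rw [← k4.lift_fst y0 aτ hl]
      change _ = κ ≫ inv fk ≫ pX
      rw [← hlf, Category.assoc, IsIso.hom_inv_id_assoc]
    rw [← hyx]
    congr 1
    exact Over.OverMorphism.ext hyω
  exact fun x hx => hall x hx.1 hx.2

include hc ht hs sq in
/-- **Spreading out**: the sheaf `X` becomes representable by a scheme of finite presentation at a finite level. -/
theorem exists_model (hX : IsFpqcSh X) [Flat s] [Surjective s] [QuasiCompact s] [QuasiSeparated s]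
    [LocallyOfFinitePresentation q₀] [QuasiCompact q₀] [QuasiSeparated q₀] :
    ∃ (k : J) (V : Over S) (v : V ⟶ Over.mk (t k)) (_ : LocallyOfFinitePresentation v.left)
      (_ : QuasiCompact v.left) (_ : QuasiSeparated v.left) (uk : (yon S).obj V ⟶ X),
      IsPullback uk ((yon S).map v) ((isTerminalBase S).from X) ((yon S).map (toBase (Over.mk (t k)))) := by
  obtain ⟨j, Xj, fj, h1, h2, h3, gj, uj, hP, hu⟩ := exists_step2 E c hc t ht s hs q₀ p sq hX
  obtain ⟨k, φ, h⟩ := exists_step3 E c hc t ht s hs q₀ p sq fj gj uj hP hu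
  let f' : Over.mk (fj ≫ t j) ⟶ Over.mk (t j) := Over.homMk fj rfl
  let φ' : Over.mk (t k) ⟶ Over.mk (t j) := Over.homMk (E.map φ) (ht φ)
  have hV : IsPullback (pullback.fst f' φ') (pullback.snd f' φ') f' φ' := IsPullback.of_hasPullback _ _
  have hV' := (hV.map (Over.forget S))
  refine ⟨k, _, pullback.snd f' φ', MorphismProperty.of_isPullback (P := @LocallyOfFinitePresentation) hV' h1,
    MorphismProperty.of_isPullback (P := @QuasiCompact) hV' h2,
    MorphismProperty.of_isPullback (P := @QuasiSeparated) hV' h3, (yon S).map (pullback.fst f' φ') ≫ uj,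
    isPullback_of_unique (u := uj) hX (T := Over.mk s) ⟨‹Flat s›, ‹QuasiCompact s›, ‹Surjective s›⟩
      (fun R a τ ξ => ?_) hV⟩
  obtain ⟨x, ⟨hx1, hx2⟩, hx3⟩ := h R a τ ξ
  refine ⟨x, ⟨Over.OverMorphism.ext hx1, hx2⟩, fun y hy => hx3 y ⟨congrArg (fun f => f.left) hy.1, hy.2⟩⟩

end

end K651.LimModel
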