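import Groth.Agent.AlgSp.K651.FpqcSh
import Groth.Agent.AlgSp.K625.Prod
import Groth.Agent.Ega43.LimitDescendIso

/-!
# Fpqc sheaves which become locally of finite presentation are limit preserving

* `exists_stage` : sections over a limit come from a finite stage.
-/

set_option autoImplicit false
universe u

open CategoryTheory CategoryTheory.Limits AlgebraicGeometry Opposite

namespace K651.LimPres

open AlgSp K613.Basic K628.Fqc K651.FpqcSh K625.Prod Groth.Agent.Ega43.LimitDescend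

variable {S : Scheme.{u}} {X : Sp S} {T X' : Over S} {q : X' ⟶ T} {p : (yon S).obj X' ⟶ X}

/-- maps to `X'` -/
theorem exists_point (sq : IsPullback p ((yon S).map q) ((isTerminalBase S).from X) ((yon S).map (toBase T)))
    {R : Over S} (t : R ⟶ T) (ξ : (yon S).obj R ⟶ X) :
    ∃ x : R ⟶ X', x ≫ q = t ∧ (yon S).map x ≫ p = ξ := by
  obtain ⟨x, hx⟩ := (yon S).map_surjective (sq.lift ξ ((yon S).map t) ((isTerminalBase S).hom_ext _ _))
  refine ⟨x, ?_, ?_⟩
  · apply (yon S).map_injective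
    rw [Functor.map_comp, hx, sq.lift_snd]
  · rw [hx, sq.lift_fst]

theorem point_ext (sq : IsPullback p ((yon S).map q) ((isTerminalBase S).from X) ((yon S).map (toBase T)))
    {R : Over S} {x y : R ⟶ X'} (h1 : x ≫ q = y ≫ q) (h2 : (yon S).map x ≫ p = (yon S).map y ≫ p) : x = y := by
  apply (yon S).map_injective
  apply sq.hom_ext h2
  rw [← Functor.map_comp, ← Functor.map_comp, h1]

section pm

set_option backward.isDefEq.respectTransparency false
set_option backward.defeqAttrib.useBackward true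

variable {B X₀ X₁ : Scheme.{u}} (f₀ : X₀ ⟶ B) (f₁ : X₁ ⟶ B) (m : X₁ ⟶ X₀) (hm : m ≫ f₀ = f₁)

/-- base change of a morphism over the base -/
noncomputable def pm {Z : Scheme.{u}} (t : Z ⟶ B) : pullback f₁ t ⟶ pullback f₀ t :=
  pullback.lift (pullback.fst f₁ t ≫ m) (pullback.snd f₁ t) (by
    rw [Category.assoc, hm, pullback.condition])

theorem pm_fst {Z : Scheme.{u}} (t : Z ⟶ B) : pm f₀ f₁ m hm t ≫ pullback.fst f₀ t = pullback.fst f₁ t ≫ m :=
  pullback.lift_fst _ _ _

theorem pm_snd {Z : Scheme.{u}} (t : Z ⟶ B) : pm f₀ f₁ m hm t ≫ pullback.snd f₀ t = pullback.snd f₁ t :=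
  pullback.lift_snd _ _ _

variable {J : Type u} [SmallCategory J] {E : J ⥤ Scheme.{u}}
  (t : ∀ j, E.obj j ⟶ B) (ht : ∀ {i j : J} (φ : i ⟶ j), E.map φ ≫ t j = t i)

theorem map_pm {i j : J} (φ : i ⟶ j) : (pbDiagram t ht f₁).map φ ≫ pm f₀ f₁ m hm (t j) =
    pm f₀ f₁ m hm (t i) ≫ (pbDiagram t ht f₀).map φ := by
  apply pullback.hom_ext
  · rw [Category.assoc, pm_fst, ← Category.assoc, pbDiagram_map_fst t ht f₁ φ, Category.assoc,
      pbDiagram_map_fst t ht f₀ φ, pm_fst]
  · rw [Category.assoc, pm_snd, Category.assoc]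
    have h1 : (pbDiagram t ht f₁).map φ ≫ pullback.snd f₁ (t j) = pullback.snd f₁ (t i) ≫ E.map φ := by simp
    have h2 : (pbDiagram t ht f₀).map φ ≫ pullback.snd f₀ (t j) = pullback.snd f₀ (t i) ≫ E.map φ := by simp
    rw [h1, h2, ← Category.assoc, pm_snd]

theorem pi_pm (c : Cone E) (s : c.pt ⟶ B) (hs : ∀ j, c.π.app j ≫ t j = s) (j : J)
    (h₁ : IsPullback (pullback.fst f₁ s) (pullback.snd f₁ s) f₁ s)
    (h₀ : IsPullback (pullback.fst f₀ s) (pullback.snd f₀ s) f₀ s) :
    (pbCone t ht f₁ c s hs _ _ h₁).π.app j ≫ pm f₀ f₁ m hm (t j) =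
      pm f₀ f₁ m hm s ≫ (pbCone t ht f₀ c s hs _ _ h₀).π.app j := by
  apply pullback.hom_ext
  · rw [Category.assoc, pm_fst, ← Category.assoc, pbCone_π_fst, Category.assoc, pbCone_π_fst, pm_fst]
  · rw [Category.assoc, pm_snd, pbCone_π_snd, Category.assoc, pbCone_π_snd, ← Category.assoc, pm_snd]

end pm

section stage

variable {J : Type u} [SmallCategory J] [IsCofiltered J] (E : J ⥤ Scheme.{u}) (c : Cone E)
    (hc : IsLimit c) [∀ {i j : J} (φ : i ⟶ j), IsAffineHom (E.map φ)]
    [∀ j, CompactSpace (E.obj j)] [∀ j, QuasiSeparatedSpace (E.obj j)]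
    (t : ∀ j, E.obj j ⟶ S) (ht : ∀ {i j : J} (φ : i ⟶ j), E.map φ ≫ t j = t i)
    (s : c.pt ⟶ S) (hs : ∀ j, c.π.app j ≫ t j = s)

/-- the stages as schemes over `S` -/
noncomputable abbrev st (j : J) : Over S := Over.mk (t j)

/-- the projection from the limit -/
noncomputable abbrev pr (j : J) : Over.mk s ⟶ st E t j := Over.homMk (c.π.app j) (hs j)

/-- the transition maps -/
noncomputable abbrev tr {i j : J} (φ : i ⟶ j) : st E t i ⟶ st E t j := Over.homMk (E.map φ) (ht φ)

include hc ht in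
/-- Sections over a limit come from a finite stage. -/
theorem exists_stage (hX : IsFpqcSh X) [Flat T.hom] [Surjective T.hom] [QuasiCompact T.hom]
    [QuasiSeparated T.hom] [LocallyOfFinitePresentation q.left]
    (sq : IsPullback p ((yon S).map q) ((isTerminalBase S).from X) ((yon S).map (toBase T)))
    (u : (yon S).obj (Over.mk s) ⟶ X) :
    ∃ (j : J) (uj : (yon S).obj (st E t j) ⟶ X), (yon S).map (pr E c t s hs j) ≫ uj = u := by
  -- the base change to `T`
  have hP0 : IsPullback (pullback.fst T.hom s) (pullback.snd T.hom s) T.hom s := IsPullback.of_hasPullback _ _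
  let cP := pbCone t ht T.hom c s hs (pullback.fst T.hom s) (pullback.snd T.hom s) hP0
  have hcP : IsLimit cP := isLimitPbCone t ht T.hom c s hs _ _ hP0 hc
  let P : Over S := Over.mk (pullback.fst T.hom s ≫ T.hom)
  let d : P ⟶ Over.mk s := Over.homMk (pullback.snd T.hom s) pullback.condition.symm
  let tP : P ⟶ T := Over.homMk (pullback.fst T.hom s) rfl
  obtain ⟨v, hv1, hv2⟩ := exists_point sq tP ((yon S).map d ≫ u)
  let Pj : ∀ j, Over S := fun j => Over.mk (pullback.fst T.hom (t j) ≫ T.hom)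
  let tPj : ∀ j, Pj j ⟶ T := fun j => Over.homMk (pullback.fst T.hom (t j)) rfl
  let dj : ∀ j, Pj j ⟶ st E t j := fun j => Over.homMk (pullback.snd T.hom (t j)) pullback.condition.symm
  have hdj : ∀ j, FqC (dj j) := by
    intro j
    have h1 : (dj j).left = pullback.snd T.hom (t j) := rfl
    exact ⟨by rw [h1]; infer_instance, by rw [h1]; infer_instance, by rw [h1]; infer_instance⟩
  have hd : FqC d := by
    have h1 : d.left = pullback.snd T.hom s := rfl
    exact ⟨by rw [h1]; infer_instance, by rw [h1]; infer_instance, by rw [h1]; infer_instance⟩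
  have hDP : ∀ {i j : J} (φ : i ⟶ j), (pbDiagram t ht T.hom).map φ ≫ (pullback.fst T.hom (t j)) =
      pullback.fst T.hom (t i) := fun φ => pbDiagram_map_fst t ht T.hom φ
  obtain ⟨i, g, hg1, hg2⟩ := Scheme.exists_π_app_comp_eq_of_locallyOfFinitePresentation
    (pbDiagram t ht T.hom) (toConst (fun j ↦ pullback.fst T.hom (t j)) hDP) q.left cP hcP v.left (by
      ext j
      have h1 := pbCone_π_fst t ht T.hom c s hs _ _ hP0 j
      change (pbCone t ht T.hom c s hs _ _ hP0).π.app j ≫ pullback.fst T.hom (t j) = v.left ≫ q.left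
      rw [h1, ← Over.comp_left, hv1]
      rfl)
  replace hg2 : g ≫ q.left = pullback.fst T.hom (t i) := hg2
  let g' : Pj i ⟶ X' := Over.homMk g (by
    change g ≫ X'.hom = pullback.fst T.hom (t i) ≫ T.hom
    rw [← Over.w q]
    exact (Category.assoc _ _ _).symm.trans (congrArg (· ≫ T.hom) hg2))
  have hg' : g' ≫ q = tPj i := Over.OverMorphism.ext hg2
  let prP : ∀ j, P ⟶ Pj j := fun j => Over.homMk (cP.π.app j) (by
    change cP.π.app j ≫ pullback.fst T.hom (t j) ≫ T.hom = _
    rw [← Category.assoc, pbCone_π_fst]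
    rfl)
  have hprP : ∀ j, prP j ≫ dj j = d ≫ pr E c t s hs j := fun j =>
    Over.OverMorphism.ext (pbCone_π_snd t ht T.hom c s hs _ _ hP0 j)
  have hprg : prP i ≫ g' = v := Over.OverMorphism.ext hg1
  let trP : ∀ {i j : J} (φ : i ⟶ j), Pj i ⟶ Pj j := fun {i j} φ =>
    Over.homMk ((pbDiagram t ht T.hom).map φ) (by
      change (pbDiagram t ht T.hom).map φ ≫ pullback.fst T.hom (t j) ≫ T.hom = _
      rw [← Category.assoc, hDP]
      rfl)
  have hprtr : ∀ {i j : J} (φ : i ⟶ j), prP i ≫ trP φ = prP j := fun {i j} φ =>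
    Over.OverMorphism.ext (cP.w φ)
  -- the base change to `T × T`
  let f₂ : pullback T.hom T.hom ⟶ S := pullback.fst T.hom T.hom ≫ T.hom
  have hf₂ : pullback.snd T.hom T.hom ≫ T.hom = f₂ := pullback.condition.symm
  have hQ0 : IsPullback (pullback.fst f₂ s) (pullback.snd f₂ s) f₂ s := IsPullback.of_hasPullback _ _
  let cQ := pbCone t ht f₂ c s hs (pullback.fst f₂ s) (pullback.snd f₂ s) hQ0
  have hcQ : IsLimit cQ := isLimitPbCone t ht f₂ c s hs _ _ hQ0 hc
  have hDQ : ∀ {i j : J} (φ : i ⟶ j), (pbDiagram t ht f₂).map φ ≫ (pullback.fst f₂ (t j)) =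
      pullback.fst f₂ (t i) := fun φ => pbDiagram_map_fst t ht f₂ φ
  let Qj : ∀ j, Over S := fun j => Over.mk (pullback.fst f₂ (t j) ≫ f₂)
  let Q : Over S := Over.mk (pullback.fst f₂ s ≫ f₂)
  let aj : ∀ j, Qj j ⟶ Pj j := fun j => Over.homMk (pm T.hom f₂ (pullback.fst _ _) rfl (t j)) (by
      change pm _ _ _ _ _ ≫ pullback.fst T.hom (t j) ≫ T.hom = pullback.fst f₂ (t j) ≫ f₂
      rw [← Category.assoc, pm_fst, Category.assoc])
  let bj : ∀ j, Qj j ⟶ Pj j := fun j => Over.homMk (pm T.hom f₂ (pullback.snd _ _) hf₂ (t j)) (by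
      change pm _ _ _ _ _ ≫ pullback.fst T.hom (t j) ≫ T.hom = pullback.fst f₂ (t j) ≫ f₂
      rw [← Category.assoc, pm_fst, Category.assoc, hf₂])
  let prQ : ∀ j, Q ⟶ Qj j := fun j => Over.homMk (cQ.π.app j) (by
    change cQ.π.app j ≫ pullback.fst f₂ (t j) ≫ f₂ = _
    rw [← Category.assoc, pbCone_π_fst]
    rfl)
  let dQ : Q ⟶ Over.mk s := Over.homMk (pullback.snd f₂ s) pullback.condition.symm
  let α : Qj i ⟶ X' := aj i ≫ g'
  obtain ⟨β, hβ1, hβ2⟩ := exists_point sq (aj i ≫ tPj i) ((yon S).map (bj i ≫ g') ≫ p)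
  have hαq : α ≫ q = aj i ≫ tPj i := by rw [Category.assoc, hg']
  have hαl : α.left ≫ q.left = pullback.fst f₂ (t i) ≫ pullback.fst _ _ := by
    rw [← Over.comp_left, hαq]
    exact pullback.lift_fst _ _ _
  have hβl : β.left ≫ q.left = pullback.fst f₂ (t i) ≫ pullback.fst _ _ := by
    rw [← Over.comp_left, hβ1]
    exact pullback.lift_fst _ _ _
  -- both agree in the limit
  let aQ : Q ⟶ P := Over.homMk (pm T.hom f₂ (pullback.fst _ _) rfl s) (by
      change pm _ _ _ _ _ ≫ pullback.fst T.hom s ≫ T.hom = pullback.fst f₂ s ≫ f₂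
      rw [← Category.assoc, pm_fst, Category.assoc])
  let bQ : Q ⟶ P := Over.homMk (pm T.hom f₂ (pullback.snd _ _) hf₂ s) (by
      change pm _ _ _ _ _ ≫ pullback.fst T.hom s ≫ T.hom = pullback.fst f₂ s ≫ f₂
      rw [← Category.assoc, pm_fst, Category.assoc, hf₂])
  have haQd : aQ ≫ d = dQ := Over.OverMorphism.ext (pm_snd T.hom f₂ (pullback.fst _ _) rfl s)
  have hbQd : bQ ≫ d = dQ := Over.OverMorphism.ext (pm_snd T.hom f₂ (pullback.snd _ _) hf₂ s)
  have haQ : ∀ j, prQ j ≫ aj j = aQ ≫ prP j := fun j =>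
    Over.OverMorphism.ext (pi_pm T.hom f₂ (pullback.fst _ _) rfl t ht c s hs j hQ0 hP0)
  have hbQ : ∀ j, prQ j ≫ bj j = bQ ≫ prP j := fun j =>
    Over.OverMorphism.ext (pi_pm T.hom f₂ (pullback.snd _ _) hf₂ t ht c s hs j hQ0 hP0)
  have hαβ : prQ i ≫ α = prQ i ≫ β := by
    apply point_ext sq
    · have e1 : (prQ i ≫ α) ≫ q = prQ i ≫ (α ≫ q) := Category.assoc _ _ _
      rw [e1, hαq, Category.assoc, hβ1]
    · have e0 : (yon S).map (prQ i ≫ β) ≫ p = (yon S).map (prQ i ≫ bj i ≫ g') ≫ p := by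
        rw [Functor.map_comp, Category.assoc, hβ2, ← Category.assoc, ← Functor.map_comp]
      rw [e0]
      have e1 : prQ i ≫ α = aQ ≫ v := by
        change prQ i ≫ aj i ≫ g' = aQ ≫ v
        rw [← Category.assoc, haQ, Category.assoc, hprg]
      have e2 : prQ i ≫ bj i ≫ g' = bQ ≫ v := by
        rw [← Category.assoc, hbQ, Category.assoc, hprg]
      rw [e1, e2, Functor.map_comp, Functor.map_comp, Category.assoc, Category.assoc, hv2, ← Category.assoc,
        ← Category.assoc, ← Functor.map_comp, ← Functor.map_comp, haQd, hbQd]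
  obtain ⟨k, φ, hφ⟩ := Scheme.exists_hom_comp_eq_comp_of_locallyOfFiniteType (pbDiagram t ht f₂)
    (toConst (fun j ↦ pullback.fst f₂ (t j) ≫ pullback.fst _ _) (fun φ => by
      rw [← Category.assoc, hDQ])) q.left cQ hcQ α.left β.left hαl.symm hβl.symm
      (congrArg (fun f => f.left) hαβ)
  let trQ : Qj k ⟶ Qj i := Over.homMk ((pbDiagram t ht f₂).map φ) (by
      change (pbDiagram t ht f₂).map φ ≫ pullback.fst f₂ (t i) ≫ f₂ = _
      rw [← Category.assoc, hDQ]
      rfl)
  have hφ' : trQ ≫ α = trQ ≫ β := Over.OverMorphism.ext hφ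
  have htra : trQ ≫ aj i = aj k ≫ trP φ :=
    Over.OverMorphism.ext (map_pm T.hom f₂ (pullback.fst _ _) rfl t ht φ)
  have htrb : trQ ≫ bj i = bj k ≫ trP φ :=
    Over.OverMorphism.ext (map_pm T.hom f₂ (pullback.snd _ _) hf₂ t ht φ)
  -- descent
  obtain ⟨uk, huk, -⟩ := hX (dj k) (hdj k) ((yon S).map (trP φ ≫ g') ≫ p) (fun R a b hab => by
    have hw : (a.left ≫ pullback.fst T.hom (t k)) ≫ T.hom = (b.left ≫ pullback.fst T.hom (t k)) ≫ T.hom := by
      rw [Category.assoc, Category.assoc]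
      exact (Over.w a).trans (Over.w b).symm
    have hab' : a.left ≫ pullback.snd T.hom (t k) = b.left ≫ pullback.snd T.hom (t k) :=
      congrArg (fun f => f.left) hab
    let r : R ⟶ Qj k := Over.homMk (pullback.lift (pullback.lift _ _ hw) (a.left ≫ pullback.snd T.hom (t k)) (by
      rw [← Category.assoc, pullback.lift_fst, Category.assoc, Category.assoc, pullback.condition])) (by
      change pullback.lift _ _ _ ≫ pullback.fst f₂ (t k) ≫ pullback.fst T.hom T.hom ≫ T.hom = _
      rw [pullback.lift_fst_assoc, pullback.lift_fst_assoc, Category.assoc]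
      exact Over.w a)
    have hra : r ≫ aj k = a := by
      apply Over.OverMorphism.ext
      change pullback.lift _ _ _ ≫ pm T.hom f₂ (pullback.fst _ _) rfl (t k) = a.left
      apply pullback.hom_ext
      · rw [Category.assoc, pm_fst, pullback.lift_fst_assoc, pullback.lift_fst]
      · rw [Category.assoc, pm_snd, pullback.lift_snd]
    have hrb : r ≫ bj k = b := by
      apply Over.OverMorphism.ext
      change pullback.lift _ _ _ ≫ pm T.hom f₂ (pullback.snd _ _) hf₂ (t k) = b.left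
      apply pullback.hom_ext
      · rw [Category.assoc, pm_fst, pullback.lift_fst_assoc, pullback.lift_snd]
      · rw [Category.assoc, pm_snd, pullback.lift_snd, hab']
    rw [← Category.assoc, ← Category.assoc, ← Functor.map_comp, ← Functor.map_comp]
    have e1 : a ≫ trP φ ≫ g' = r ≫ trQ ≫ α := by
      rw [← hra, Category.assoc, ← Category.assoc (aj k), ← htra, Category.assoc]
    have e2 : b ≫ trP φ ≫ g' = r ≫ trQ ≫ bj i ≫ g' := by
      rw [← hrb, Category.assoc, ← Category.assoc (bj k), ← htrb, Category.assoc]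
    rw [e1, e2, hφ', (yon S).map_comp r, (yon S).map_comp r, (yon S).map_comp trQ, (yon S).map_comp trQ]
    simp only [Category.assoc]
    rw [hβ2])
  refine ⟨k, uk, ?_⟩
  apply hX.ext hd
  rw [← Category.assoc, ← Functor.map_comp, ← hprP, Functor.map_comp, Category.assoc, huk, ← Category.assoc,
    ← Functor.map_comp, ← Category.assoc, hprtr, hprg, hv2]

end stage

end K651.LimPres
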