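import Groth.Agent.AlgSp.K651.Hens2
import Groth.Agent.AlgSp.K651.Sigma
import Mathlib.AlgebraicGeometry.Morphisms.LocalFlatDescent
import Mathlib.AlgebraicGeometry.EffectiveEpi
import Mathlib.Logic.Small.Basic

/-!
# Charts of algebraic spaces through all points over a Henselian local ring
-/

set_option autoImplicit false
universe v w u

open CategoryTheory CategoryTheory.Limits AlgebraicGeometry Opposite

namespace K651.Points

open AlgSp K613.Basic K613.Cover K613.Chart K613.Diag K651.FieldLift K651.HensSec K651.Hens K651.Sigma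

/-- A monomorphism through which a flat surjective quasi-compact morphism factors is an isomorphism. -/
theorem isIso_of_factor {U T T' : Scheme.{u}} (m : U ⟶ T) [Mono m] (q : T' ⟶ T) [Flat q]
    [Surjective q] [QuasiCompact q] (w : T' ⟶ U) (hw : w ≫ m = q) : IsIso m := by
  have h1 : IsIso (pullback.fst q m) := by
    have : Mono (pullback.fst q m) := inferInstance
    let s : T' ⟶ pullback q m := pullback.lift (𝟙 _) w (by simp [hw])
    have hs : s ≫ pullback.fst q m = 𝟙 _ := pullback.lift_fst _ _ _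
    exact ⟨s, by rw [← cancel_mono (pullback.fst q m), Category.assoc, hs]; simp, hs⟩
  exact MorphismProperty.of_pullback_fst_of_descendsAlong (P := MorphismProperty.isomorphisms Scheme.{u})
    (Q := @Surjective ⊓ @Flat ⊓ @QuasiCompact) (f := q) (g := m)
    ⟨⟨‹_›, ‹_›⟩, ‹_›⟩ h1

variable {S : Scheme.{u}} {X : Sp S}

/-- A sheaf with representable diagonal is separated for flat surjective quasi-compact morphisms. -/
theorem eq_of_fpqc (hX : Representable (Limits.diag X)) {T T' : Over S} (q : T' ⟶ T) (h1 : Flat q.left)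
    (h2 : Surjective q.left) (h3 : QuasiCompact q.left) (a b : (yon S).obj T ⟶ X)
    (h : (yon S).map q ≫ a = (yon S).map q ≫ b) : a = b := by
  obtain ⟨E, e, he⟩ := representable_diag_iff.1 hX T a b
  obtain ⟨r, hr, -⟩ := he.lift T' q h
  have hm : Mono e := he.mono
  have hm' : Mono e.left := inferInstance
  have hi : IsIso e.left := isIso_of_factor e.left q.left r.left (congrArg (·.left) hr)
  have hi' : IsIso e := by
    have : IsIso ((Over.forget S).map e) := hi
    exact isIso_of_reflects_iso e (Over.forget S)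
  have := he.w
  rwa [← cancel_epi ((yon S).map e)]

variable {k : Type u} [Field k] (str : Spec (CommRingCat.of k) ⟶ S)

theorem eq_of_field (hX : Representable (Limits.diag X)) (K : Type u) [Field K] [Algebra k K]
    (a b : (yon S).obj (Over.mk str) ⟶ X) (h : (yon S).map (ptc str K) ≫ a = (yon S).map (ptc str K) ≫ b) : a = b := by
  refine eq_of_fpqc hX (ptc str K) (flat_to_field _) ⟨fun y => ⟨(default : Spec (CommRingCat.of K)),
    Subsingleton.elim (α := Spec (CommRingCat.of k)) _ _⟩⟩ ?_ a b h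
  exact inferInstanceAs (QuasiCompact (Spec.map (CommRingCat.ofHom (algebraMap k K))))

/-- field points lift to a chart over a finite separable extension -/
theorem exists_lift_separable (hX : Representable (Limits.diag X)) {U₀ : Over S} {p₀ : (yon S).obj U₀ ⟶ X} (hp₀ : Ch p₀)
    (x : (yon S).obj (Over.mk str) ⟶ X) :
    ∃ (L : Type u) (_ : Field L) (_ : Algebra k L) (_ : FiniteDimensional k L) (_ : Algebra.IsSeparable k L)
      (u : pt k str L ⟶ U₀), (yon S).map u ≫ p₀ = (yon S).map (ptc str L) ≫ x := by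
  obtain ⟨V₀, f₀, s₀, sq₀⟩ := exists_refine hX (𝟙 X) p₀ x
  rw [Category.comp_id] at sq₀
  have hs₀ : EtC s₀ := ⟨hp₀.et.2 _ _ _ sq₀, hp₀.surj.2 _ _ _ sq₀⟩
  obtain ⟨v₀, -⟩ := hs₀.surj.surj (default : Spec (CommRingCat.of k))
  obtain ⟨L, i1, i2, i3, i4, jL, hjm, hjf, hjv⟩ := exists_point s₀.left hs₀.etale v₀
  let j : pt k str L ⟶ V₀ := Over.homMk jL (by
    rw [← Over.w s₀, reassoc_of% hjf]; rfl)
  have hjs : j ≫ s₀ = ptc str L := by
    ext1
    exact hjf
  refine ⟨L, i1, i2, i3, i4, j ≫ f₀, ?_⟩
  rw [Functor.map_comp, Category.assoc, sq₀.w, ← Category.assoc, ← Functor.map_comp, hjs]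

/-- The points of an algebraic space with values in a (small) field form a small set. -/
theorem small_points (hX : IsAlgSpace X) : Small.{u} ((yon S).obj (Over.mk str) ⟶ X) := by
  obtain ⟨U₀, p₀, hp₀⟩ := exists_ch hX
  have h : ∀ x : (yon S).obj (Over.mk str) ⟶ X, ∃ u : pt k str (SeparableClosure k) ⟶ U₀,
      (yon S).map u ≫ p₀ = (yon S).map (ptc str (SeparableClosure k)) ≫ x := by
    intro x
    obtain ⟨L, i1, i2, i3, i4, u, hu⟩ := exists_lift_separable str hX.diag hp₀ x
    let i : L →ₐ[k] SeparableClosure k := IsSepClosed.lift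
    refine ⟨ptm str i ≫ u, ?_⟩
    rw [Functor.map_comp, Category.assoc, hu, ← Category.assoc, ← Functor.map_comp, ptm_ptc]
  choose u hu using h
  refine small_of_injective (f := u) fun x y hxy => ?_
  apply eq_of_field str hX.diag (SeparableClosure k)
  rw [← hu x, ← hu y, hxy]

/-- Lifting of `R/a`-points to a chart through all points over the residue field. -/
theorem exists_lift_quot {R : Type u} [CommRing R] [HenselianLocalRing R] (str : Spec (CommRingCat.of R) ⟶ S)
    {Z : Over S} {p : (yon S).obj Z ⟶ X} (hp : RepWith @Etale p)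
    (hpt : ∀ x : (yon S).obj (Over.mk (Spec.map (CommRingCat.ofHom (IsLocalRing.residue R)) ≫ str)) ⟶ X,
      ∃ g : Over.mk (Spec.map (CommRingCat.ofHom (IsLocalRing.residue R)) ≫ str) ⟶ Z, (yon S).map g ≫ p = x)
    (a : Ideal R) (x : (yon S).obj (Over.mk (Spec.map (CommRingCat.ofHom (Ideal.Quotient.mk a)) ≫ str)) ⟶ X) :
    ∃ g : Over.mk (Spec.map (CommRingCat.ofHom (Ideal.Quotient.mk a)) ≫ str) ⟶ Z, (yon S).map g ≫ p = x := by
  by_cases ha : a = ⊤
  · -- the empty scheme
    have hs : Subsingleton (R ⧸ a) := Ideal.Quotient.subsingleton_iff.2 ha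
    have he : IsEmpty (Spec (CommRingCat.of (R ⧸ a))) := inferInstanceAs (IsEmpty (PrimeSpectrum (R ⧸ a)))
    let g₀ : Spec (CommRingCat.of (R ⧸ a)) ⟶ Z.left := (isInitialOfIsEmpty (X := Spec (CommRingCat.of (R ⧸ a)))).to _
    refine ⟨Over.homMk g₀ ((isInitialOfIsEmpty (X := Spec (CommRingCat.of (R ⧸ a)))).hom_ext _ _), ?_⟩
    exact eq_of_isEmpty (R := Over.mk (Spec.map (CommRingCat.ofHom (Ideal.Quotient.mk a)) ≫ str)) he _ _
  · have := henselianLocalRing_quotient R a ha
    have hle : a ≤ IsLocalRing.maximalIdeal R := IsLocalRing.le_maximalIdeal ha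
    -- the comparison of the residue fields
    let b : Ideal (R ⧸ a) := (IsLocalRing.maximalIdeal R).map (Ideal.Quotient.mk a)
    let ρ : IsLocalRing.ResidueField R →+* (R ⧸ a) ⧸ b :=
      Ideal.Quotient.lift _ ((Ideal.Quotient.mk b).comp (Ideal.Quotient.mk a)) (fun r hr => by
        rw [RingHom.comp_apply, Ideal.Quotient.eq_zero_iff_mem]
        exact Ideal.mem_map_of_mem _ hr)
    let σ : (R ⧸ a) ⧸ b →+* IsLocalRing.ResidueField R :=
      Ideal.Quotient.lift _ (Ideal.Quotient.lift a (IsLocalRing.residue R) (fun r hr => by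
        rw [IsLocalRing.residue_eq_zero_iff]
        exact hle hr)) (by
        intro r hr
        have : b ≤ RingHom.ker (Ideal.Quotient.lift a (IsLocalRing.residue R) (fun r hr => by
            rw [IsLocalRing.residue_eq_zero_iff]
            exact hle hr)) := by
          rw [Ideal.map_le_iff_le_comap]
          intro s hs
          rw [Ideal.mem_comap, RingHom.mem_ker, Ideal.Quotient.lift_mk, IsLocalRing.residue_eq_zero_iff]
          exact hs
        exact this hr)
    have hρσ : σ.comp ρ = RingHom.id _ := by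
      ext r
      obtain ⟨r, rfl⟩ := IsLocalRing.residue_surjective r
      rfl
    have hσ : σ.comp ((Ideal.Quotient.mk b).comp (Ideal.Quotient.mk a)) = IsLocalRing.residue R := by
      ext r
      rfl
    have hρ : ρ.comp (IsLocalRing.residue R) = (Ideal.Quotient.mk b).comp (Ideal.Quotient.mk a) := by
      ext r
      rfl
    have hbt : b ≠ ⊤ := by
      intro hb
      have h1 : Subsingleton ((R ⧸ a) ⧸ b) := Ideal.Quotient.subsingleton_iff.2 hb
      have h2 : (1 : IsLocalRing.ResidueField R) = 0 := by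
        rw [← map_one σ, ← map_zero σ, Subsingleton.elim (1 : (R ⧸ a) ⧸ b) 0]
      exact one_ne_zero h2
    let str' : Spec (CommRingCat.of (R ⧸ a)) ⟶ S := Spec.map (CommRingCat.ofHom (Ideal.Quotient.mk a)) ≫ str
    let sk : Over.mk (Spec.map (CommRingCat.ofHom (IsLocalRing.residue R)) ≫ str) ⟶ Over.mk str' :=
      Over.homMk (Spec.map (CommRingCat.ofHom (σ.comp (Ideal.Quotient.mk b)))) (by
        change Spec.map _ ≫ Spec.map _ ≫ str = _
        rw [← Spec.map_comp_assoc, ← CommRingCat.ofHom_comp]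
        rfl)
    obtain ⟨g₀, hg₀⟩ := hpt ((yon S).map sk ≫ x)
    let mb : Over.mk (Spec.map (CommRingCat.ofHom (Ideal.Quotient.mk b)) ≫ str') ⟶
        Over.mk (Spec.map (CommRingCat.ofHom (IsLocalRing.residue R)) ≫ str) :=
      Over.homMk (Spec.map (CommRingCat.ofHom ρ)) (by
        change Spec.map _ ≫ Spec.map _ ≫ str = Spec.map _ ≫ Spec.map _ ≫ str
        rw [← Spec.map_comp_assoc, ← CommRingCat.ofHom_comp, ← Spec.map_comp_assoc, ← CommRingCat.ofHom_comp, hρ])
    have hρσ' : ρ.comp σ = RingHom.id _ := by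
      ext r
      rfl
    have hmb : mb ≫ sk = Over.homMk (Spec.map (CommRingCat.ofHom (Ideal.Quotient.mk b))) rfl := by
      ext1
      change Spec.map _ ≫ Spec.map _ = Spec.map _
      rw [← Spec.map_comp, ← CommRingCat.ofHom_comp, ← RingHom.comp_assoc, hρσ', RingHom.id_comp]
    obtain ⟨g', hg', -⟩ := exists_lift_of_chart (R := R ⧸ a) str' x (repWith_smooth_of_etale hp) b hbt (mb ≫ g₀) (by
      have h5 := congrArg (fun m => (yon S).map m ≫ x) hmb
      refine Eq.trans ?_ h5
      change _ = (yon S).map (mb ≫ sk) ≫ x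
      rw [Functor.map_comp, Category.assoc, hg₀, Functor.map_comp, Category.assoc])
    exact ⟨g', hg'⟩

variable (S) in
theorem isSeparated_hom_of_isAffine {Z : Over S} (h : IsAffine Z.left) : IsSeparated Z.hom := by
  have : IsSeparated (Z.hom ≫ terminal.from S) := by
    rw [Subsingleton.elim (Z.hom ≫ terminal.from S) (terminal.from Z.left)]
    infer_instance
  exact IsSeparated.of_comp Z.hom (terminal.from S)

theorem exists_separated_chart (hX : IsAlgSpace X)
    (R : Type u) [CommRing R] [HenselianLocalRing R] (str : Spec (CommRingCat.of R) ⟶ S) :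
    ∃ (Z : Over S) (p : (yon S).obj Z ⟶ X), IsSeparated Z.hom ∧ RepWith @Etale p ∧
      ∀ (a : Ideal R) (x : (yon S).obj (Over.mk (Spec.map (CommRingCat.ofHom (Ideal.Quotient.mk a)) ≫ str)) ⟶ X),
        ∃ g : Over.mk (Spec.map (CommRingCat.ofHom (Ideal.Quotient.mk a)) ≫ str) ⟶ Z, (yon S).map g ≫ p = x := by
  have := small_points (k := IsLocalRing.ResidueField R) (Spec.map (CommRingCat.ofHom (IsLocalRing.residue R)) ≫ str) hX
  let I := (yon S).obj (Over.mk (Spec.map (CommRingCat.ofHom (IsLocalRing.residue R)) ≫ str)) ⟶ X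
  choose Z p g hZ hp hg using fun i : I => exists_affine_chart_lift (k := IsLocalRing.ResidueField R)
    (Spec.map (CommRingCat.ofHom (IsLocalRing.residue R)) ≫ str) hX i
  let e : Shrink.{u} I → I := (equivShrink I).symm
  obtain ⟨q, hq, hq'⟩ := exists_union hX.diag (fun i => Z (e i)) (fun i => p (e i)) (fun i => hp (e i))
  refine ⟨_, q, isSeparated_sig _ (fun i => isSeparated_hom_of_isAffine S (hZ _)), hq, exists_lift_quot str hq ?_⟩
  intro x
  obtain ⟨i, rfl⟩ := (equivShrink I).symm.surjective x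
  refine ⟨g (e i) ≫ inc (fun i => Z (e i)) i, ?_⟩
  rw [Functor.map_comp, Category.assoc, hq', hg]

theorem exists_affine_chart (hX : IsAlgSpace X)
    (R : Type u) [CommRing R] [HenselianLocalRing R] (str : Spec (CommRingCat.of R) ⟶ S)
    (hfin : Finite ((yon S).obj (Over.mk (Spec.map (CommRingCat.ofHom (IsLocalRing.residue R)) ≫ str)) ⟶ X)) :
    ∃ (Z : Over S) (p : (yon S).obj Z ⟶ X), IsAffine Z.left ∧ RepWith @Etale p ∧
      ∀ (a : Ideal R) (x : (yon S).obj (Over.mk (Spec.map (CommRingCat.ofHom (Ideal.Quotient.mk a)) ≫ str)) ⟶ X),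
        ∃ g : Over.mk (Spec.map (CommRingCat.ofHom (Ideal.Quotient.mk a)) ≫ str) ⟶ Z, (yon S).map g ≫ p = x := by
  let I := (yon S).obj (Over.mk (Spec.map (CommRingCat.ofHom (IsLocalRing.residue R)) ≫ str)) ⟶ X
  have : Finite I := hfin
  have := small_points (k := IsLocalRing.ResidueField R) (Spec.map (CommRingCat.ofHom (IsLocalRing.residue R)) ≫ str) hX
  choose Z p g hZ hp hg using fun i : I => exists_affine_chart_lift (k := IsLocalRing.ResidueField R)
    (Spec.map (CommRingCat.ofHom (IsLocalRing.residue R)) ≫ str) hX i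
  let e : Shrink.{u} I → I := (equivShrink I).symm
  have : Finite (Shrink.{u} I) := Finite.of_equiv I (equivShrink I)
  obtain ⟨q, hq, hq'⟩ := exists_union hX.diag (fun i => Z (e i)) (fun i => p (e i)) (fun i => hp (e i))
  refine ⟨_, q, isAffine_sig _ (fun i => hZ _), hq, exists_lift_quot str hq ?_⟩
  intro x
  obtain ⟨i, rfl⟩ := (equivShrink I).symm.surjective x
  refine ⟨g (e i) ≫ inc (fun i => Z (e i)) i, ?_⟩
  rw [Functor.map_comp, Category.assoc, hq', hg]

end K651.Points
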