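import Groth.Agent.AlgSp.K651.WTheta
import Groth.Agent.EGA2.K34.FtSub
import Groth.Agent.EGA2.K36.AffEmb
import Groth.Agent.PerfA.QCohSerre
import Groth.Agent.Sga67.IdealTorsion

/-!
# Equations of a closed subscheme of an affine `X`-scheme

`π : V ⟶ X` affine of finite type, `X` Noetherian, `i : I ⟶ V` a closed immersion: there are a coherent `F` on `X` and
`φ : F ⟶ π_* O_V` such that a quasi-compact `g : T ⟶ V` factors through `i` iff `F ⟶ π_* O_V ⟶ (g ≫ π)_* O_T` vanishes.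
-/

set_option autoImplicit false
universe u

open CategoryTheory CategoryTheory.Limits AlgebraicGeometry Opposite TopologicalSpace AlgebraicGeometry.Scheme.Modules
open K651.WTheta

namespace K651.WCopres

theorem isQCoh_D {T S : Scheme.{u}} (t : T ⟶ S) [QuasiCompact t] [QuasiSeparated t] : Coh.IsQCoh (D t) :=
  Groth.Agent.Ega1.QcqsPush.isQCoh_pushforward t _ (Groth.Agent.Fdesc.StructMod.isQCoh_structureModule T)

theorem exists_copres {X V I : Scheme.{u}} [IsNoetherian X] (π : V ⟶ X) [IsAffineHom π] [LocallyOfFiniteType π]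
    (i : I ⟶ V) [IsClosedImmersion i] :
    ∃ (F : X.Modules) (_ : Coh.IsCoh F) (φ : F ⟶ D π), φ ≫ Dm i rfl = 0 ∧
      ∀ {T : Scheme.{u}} (t : T ⟶ X) (g : T ⟶ V) (w : g ≫ π = t) [QuasiCompact g], φ ≫ Dm g w = 0 →
        ∃ g' : T ⟶ I, g' ≫ i = g := by
  have hVn : IsLocallyNoetherian V := LocallyOfFiniteType.isLocallyNoetherian π
  obtain ⟨J, hJ, U, hU, hcov⟩ := K36.AffEmb.exists_finite_affine_cover X
  have hfg : ∀ k : J, ∃ s : Finset Γ(V, π ⁻¹ᵁ (U k)), Ideal.span (s : Set Γ(V, π ⁻¹ᵁ (U k))) =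
      RingHom.ker (i.app (π ⁻¹ᵁ (U k))).hom := fun k => by
    have : IsNoetherianRing Γ(V, π ⁻¹ᵁ (U k)) :=
      IsLocallyNoetherian.component_noetherian ⟨_, (hU k).preimage π⟩
    exact (isNoetherianRing_iff_ideal_fg _).1 this _
  choose s hs using hfg
  let κ : D π ⟶ D (i ≫ π) := Dm i rfl
  have hK : Coh.IsQCoh (kernel κ) := Groth.Agent.PerfA.QCohSerre.isQCoh_kernel κ (isQCoh_D π) (isQCoh_D _)
  have hsec : ∀ p : (Σ k : J, {x // x ∈ s k}), ∃ y : Γ(kernel κ, U p.1),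
      (kernel.ι κ).app (U p.1) y = (show Γ(D π, U p.1) from p.2.1) := fun p => by
    refine Groth.Agent.Sga67.IdealTorsion.exists_kernel_ι κ (U p.1) _ ?_
    have h1 : (p.2.1 : Γ(V, π ⁻¹ᵁ (U p.1))) ∈ RingHom.ker (i.app (π ⁻¹ᵁ (U p.1))).hom := by
      rw [← hs]
      exact Ideal.subset_span p.2.2
    have h2 : i.appLE (π ⁻¹ᵁ (U p.1)) ((i ≫ π) ⁻¹ᵁ (U p.1)) (pre_le i rfl (U p.1)) = i.app (π ⁻¹ᵁ (U p.1)) := by
      exact Scheme.Hom.appLE_eq_app i
    have h3 : (κ.app (U p.1) (show Γ(D π, U p.1) from p.2.1) : Γ(I, (i ≫ π) ⁻¹ᵁ (U p.1))) =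
      (i.appLE (π ⁻¹ᵁ (U p.1)) ((i ≫ π) ⁻¹ᵁ (U p.1)) (pre_le i rfl (U p.1))).hom p.2.1 := rfl
    rw [h2] at h3
    exact h3.trans h1
  choose y hy using hsec
  obtain ⟨F, e, he, hF, hFt, hl⟩ := K34.FtSub.exists_ft_sub hK (fun p : (Σ k : J, {x // x ∈ s k}) => U p.1)
    (fun p => hU p.1) y
  refine ⟨F, ⟨hF, hFt⟩, e ≫ kernel.ι κ, ?_, ?_⟩
  · have h1 : kernel.ι κ ≫ κ = 0 := kernel.condition κ
    rw [Category.assoc, h1, comp_zero]
  · intro T t g w hg h0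
    subst w
    have hle : i.ker ≤ g.ker := by
      refine Scheme.IdealSheafData.le_of_iSup_eq_top (fun k => ⟨π ⁻¹ᵁ (U k), (hU k).preimage π⟩) ?_ fun k => ?_
      · rw [eq_top_iff]
        intro v _
        obtain ⟨k, hk⟩ := hcov (π v)
        exact Opens.mem_iSup.2 ⟨k, hk⟩
      · rw [Scheme.Hom.ker_apply, Scheme.Hom.ker_apply]
        change RingHom.ker (i.app (π ⁻¹ᵁ (U k))).hom ≤ RingHom.ker (g.app (π ⁻¹ᵁ (U k))).hom
        rw [← hs, Ideal.span_le]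
        intro x hx
        obtain ⟨z, hz⟩ := hl ⟨k, x, hx⟩
        have h1 : (e ≫ kernel.ι κ).app (U k) z = (show Γ(D π, U k) from x) := by
          have h2 := hy ⟨k, x, hx⟩
          rw [← hz] at h2
          exact h2
        have h3 : ((e ≫ kernel.ι κ) ≫ Dm g rfl).app (U k) z = 0 := by
          rw [h0]
          rfl
        have h4 : ((e ≫ kernel.ι κ) ≫ Dm g rfl).app (U k) z = (Dm g rfl).app (U k) ((e ≫ kernel.ι κ).app (U k) z) := rfl
        rw [h4, h1] at h3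
        have h5 : g.appLE (π ⁻¹ᵁ (U k)) ((g ≫ π) ⁻¹ᵁ (U k)) (pre_le g rfl (U k)) = g.app (π ⁻¹ᵁ (U k)) :=
          Scheme.Hom.appLE_eq_app g
        have h6 : ((Dm g rfl).app (U k) (show Γ(D π, U k) from x) : Γ(T, (g ≫ π) ⁻¹ᵁ (U k))) =
          (g.appLE (π ⁻¹ᵁ (U k)) ((g ≫ π) ⁻¹ᵁ (U k)) (pre_le g rfl (U k))).hom x := rfl
        rw [h5] at h6
        exact h6.symm.trans h3
    exact ⟨IsClosedImmersion.lift i g hle, IsClosedImmersion.lift_fac i g hle⟩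

end K651.WCopres
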