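import Mathlib.Algebra.Homology.DerivedCategory.TStructure
import Mathlib.Algebra.Homology.DerivedCategory.HomologySequence
import Mathlib.CategoryTheory.Triangulated.TStructure.TruncLTGE
import Groth.Agent.PerfA.PostAbs
import Groth.Agent.PerfA.ExactD
import Mathlib.Algebra.Homology.DerivedCategory.FullyFaithful

/-!
# Truncations and universal arrows

* `bijective_truncGEπ`: `Hom(τ_{≥ n} B, K) = Hom(B, K)` for `K ∈ D^{≥ n}`;
* `bijective_of_isIso_homology`: precomposition with an `H^{≥ 0}`-isomorphism onto `M ∈ D^{≥ 0}` is bijective on `D^{≥ 0}`;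
* `exists_arrow`: `B ∈ D^{≤ 0}` has a universal arrow to the heart.
-/

set_option autoImplicit false

universe u v u' v' w w'

open CategoryTheory Limits Pretriangulated DerivedCategory

namespace K651.WTrunc

variable {C : Type u} [Category.{v} C] [Abelian C] [HasDerivedCategory.{w} C]

/-- Truncation is left adjoint to the inclusion. -/
lemma bijective_truncGEπ (B K : DerivedCategory C) (n : ℤ) [K.IsGE n] :
    Function.Bijective (fun φ : (TStructure.t.truncGE n).obj B ⟶ K => (TStructure.t.truncGEπ n).app B ≫ φ) := by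
  constructor
  · intro a b h
    exact TStructure.t.from_truncGE_obj_ext h
  · intro b
    exact ⟨TStructure.t.descTruncGE b n, TStructure.t.π_descTruncGE b n⟩

/-- If `H^i(α)` is an isomorphism for `i ≥ 0` and `H^{-1}` of the target vanishes, precomposition with `α` is bijective
onto objects of `D^{≥ 0}`. -/
lemma bijective_of_isIso_homology {P M : DerivedCategory C} (α : P ⟶ M)
    (h : ∀ i : ℤ, -1 < i → IsIso ((homologyFunctor C i).map α))
    (h' : IsZero ((homologyFunctor C (-1)).obj M))
    (K : DerivedCategory C) [K.IsGE 0] : Function.Bijective (fun φ : M ⟶ K => α ≫ φ) := by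
  obtain ⟨Z, g, d, hT⟩ := distinguished_cocone_triangle α
  have hZ : Z.IsLE (-2) := by
    rw [isLE_iff]
    intro i hi
    have h1 : Epi ((homologyFunctor C i).map α) := by
      rcases lt_or_ge (-1) i with h2 | h2
      · have := h i h2
        infer_instance
      · obtain rfl : i = -1 := by lia
        exact ⟨fun a b _ => h'.eq_of_src _ _⟩
    have h2 : Mono ((homologyFunctor C (i + 1)).map α) := by
      have := h (i + 1) (by lia)
      infer_instance
    exact (HomologySequence.exact₃ _ hT i (i + 1) rfl).isZero_of_both_zeros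
      ((HomologySequence.epi_homologyMap_mor₁_iff _ hT i).1 h1)
      ((HomologySequence.mono_homologyMap_mor₁_iff _ hT i (i + 1) rfl).1 h2)
  constructor
  · suffices H : ∀ x : M ⟶ K, α ≫ x = 0 → x = 0 by
      intro x y hxy
      rw [← sub_eq_zero]
      apply H
      rw [Preadditive.comp_sub, sub_eq_zero]
      exact hxy
    intro x hx
    obtain ⟨y, hy⟩ := Triangle.yoneda_exact₂ _ hT x hx
    rw [hy, TStructure.t.zero_of_isLE_of_isGE y (-2) 0 (by lia) hZ inferInstance]
    exact comp_zero
  · intro x
    have h0 : (Triangle.mk α g d).invRotate.mor₁ ≫ x = 0 :=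
      TStructure.t.zero_of_isLE_of_isGE _ (-1) 0 (by lia)
        (TStructure.t.isLE_shift Z (-2) (-1) (-1) (by lia)) inferInstance
    obtain ⟨y, hy⟩ := Triangle.yoneda_exact₂ _ (inv_rot_of_distTriang _ hT) x h0
    exact ⟨y, hy.symm⟩

section Main

variable {D : Type u'} [Category.{v'} D] [Abelian D] [HasDerivedCategory.{w'} D]

lemma isZero_homology_single (M : D) (i : ℤ) (hi : i ≠ 0) :
    IsZero ((homologyFunctor D i).obj ((singleFunctor D 0).obj M)) := by
  rcases lt_or_gt_of_ne hi with h | h
  · exact isZero_of_isGE _ 0 i h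
  · exact isZero_of_isLE _ 0 i h

variable (F : C ⥤ D) [F.Additive] [PreservesFiniteLimits F] [PreservesFiniteColimits F]
  (QC : C → Prop)

/-- From a universal arrow in the derived category to a universal arrow for the hearts. -/
theorem exists_arrow (hQC : ∀ {M N : C}, (M ≅ N) → QC M → QC N) (hQ0 : ∀ {M : C}, IsZero M → QC M)
    {P : DerivedCategory D} {M : D} (α : P ⟶ (singleFunctor D 0).obj M)
    (hα : ∀ i : ℤ, -1 < i → IsIso ((homologyFunctor D i).map α))
    {B : DerivedCategory C} (hB : ∀ i, QC ((homologyFunctor C i).obj B))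
    (x : P ⟶ F.mapDerivedCategory.obj B)
    (hx : ∀ K : DerivedCategory C, (∀ i, QC ((homologyFunctor C i).obj K)) →
      Function.Bijective (fun φ : B ⟶ K => x ≫ F.mapDerivedCategory.map φ)) :
    ∃ (Y : C) (_ : Nonempty (Y ≅ (homologyFunctor C 0).obj B)) (q : M ⟶ F.obj Y),
      ∀ N : C, QC N → Function.Bijective (fun g : Y ⟶ N => q ≫ F.map g) := by
  have hP : P.IsLE 0 := by
    rw [isLE_iff]
    intro i hi
    have := hα i (by lia)
    exact (isZero_homology_single M i (by lia)).of_iso (asIso ((homologyFunctor D i).map α))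
  have hBT : ∀ a i : ℤ, QC ((homologyFunctor C i).obj ((TStructure.t.truncGE a).obj B)) := by
    intro a i
    rcases lt_or_ge i a with h | h
    · have : ((TStructure.t.truncGE a).obj B).IsGE a :=
        inferInstanceAs (TStructure.t.IsGE ((TStructure.t.truncGE a).obj B) a)
      exact hQ0 (isZero_of_isGE _ a i h)
    · have := Groth.Agent.PerfA.PostAbs.isIso_homology_truncGEπ B a i h
      exact hQC (asIso ((homologyFunctor C i).map ((TStructure.t.truncGEπ a).app B))) (hB i)
  have hB0 : TStructure.t.IsLE B 0 := by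
    rw [TStructure.t.isLE_iff_isZero_truncGE_obj 0 1 rfl, IsZero.iff_id_eq_zero]
    have h1 : ((TStructure.t.truncGE 1).obj B).IsGE 1 :=
      inferInstanceAs (TStructure.t.IsGE ((TStructure.t.truncGE 1).obj B) 1)
    have h2 := Groth.Agent.PerfA.ExactD.isGE_map F ((TStructure.t.truncGE 1).obj B) 1
    have h3 : ((TStructure.t.truncGEπ 1).app B) = 0 := by
      apply (hx _ (hBT 1)).1
      exact (TStructure.t.zero_of_isLE_of_isGE _ 0 1 (by lia) hP h2).trans
        (TStructure.t.zero_of_isLE_of_isGE _ 0 1 (by lia) hP h2).symm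
    exact TStructure.t.from_truncGE_obj_ext (by rw [h3, zero_comp, zero_comp])
  have hG : ((TStructure.t.truncGE 0).obj B).IsGE 0 :=
    inferInstanceAs (TStructure.t.IsGE ((TStructure.t.truncGE 0).obj B) 0)
  have hL : ((TStructure.t.truncGE 0).obj B).IsLE 0 :=
    inferInstanceAs (TStructure.t.IsLE ((TStructure.t.truncGE 0).obj B) 0)
  obtain ⟨Y, ⟨e⟩⟩ := exists_iso_singleFunctor_obj_of_isGE_of_isLE ((TStructure.t.truncGE 0).obj B) 0
  have h0 := Groth.Agent.PerfA.PostAbs.isIso_homology_truncGEπ B 0 0 le_rfl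
  let s : ∀ N : C, F.mapDerivedCategory.obj ((singleFunctor C 0).obj N) ≅ (singleFunctor D 0).obj (F.obj N) :=
    fun N => (F.mapDerivedCategorySingleFunctor 0).app N
  have hs : ∀ {N N' : C} (u : N ⟶ N'), F.mapDerivedCategory.map ((singleFunctor C 0).map u) ≫ (s N').hom =
      (s N).hom ≫ (singleFunctor D 0).map (F.map u) := fun u =>
    (F.mapDerivedCategorySingleFunctor 0).hom.naturality u
  have hα' : IsZero ((homologyFunctor D (-1)).obj ((singleFunctor D 0).obj M)) :=
    isZero_homology_single M (-1) (by lia)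
  have hbij : ∀ N : D, Function.Bijective (fun v : M ⟶ N => α ≫ (singleFunctor D 0).map v) := fun N =>
    (bijective_of_isIso_homology α hα hα' ((singleFunctor D 0).obj N)).comp
      (Functor.FullyFaithful.ofFullyFaithful (singleFunctor D 0)).homEquiv.bijective
  obtain ⟨q, hq⟩ := (hbij (F.obj Y)).2 (x ≫ F.mapDerivedCategory.map ((TStructure.t.truncGEπ 0).app B ≫ e.hom) ≫
    (s Y).hom)
  refine ⟨Y, ⟨(((singleFunctorCompHomologyFunctorIso C 0).app Y).symm ≪≫ (homologyFunctor C 0).mapIso e.symm ≪≫
    (asIso ((homologyFunctor C 0).map ((TStructure.t.truncGEπ 0).app B))).symm)⟩, q, fun N hN => ?_⟩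
  have hN0 : ∀ i, QC ((homologyFunctor C i).obj ((singleFunctor C 0).obj N)) := by
    intro i
    by_cases hi : i = 0
    · subst hi
      exact hQC ((singleFunctorCompHomologyFunctorIso C 0).app N).symm hN
    · exact hQ0 (isZero_homology_single N i hi)
  refine (Function.Bijective.of_comp_iff' (hbij (F.obj N)) _).1 ?_
  have h1 := (Functor.FullyFaithful.ofFullyFaithful (singleFunctor C 0)).homEquiv (X := Y) (Y := N) |>.bijective
  have h2 : Function.Bijective (fun φ : (singleFunctor C 0).obj Y ⟶ (singleFunctor C 0).obj N => e.hom ≫ φ) :=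
    (e.symm.homFromEquiv (Z := (singleFunctor C 0).obj N)).bijective
  have h3 := bijective_truncGEπ B ((singleFunctor C 0).obj N) 0
  have h4 := hx _ hN0
  have h5 : Function.Bijective (fun φ : P ⟶ F.mapDerivedCategory.obj ((singleFunctor C 0).obj N) =>
      φ ≫ (s N).hom) := ((s N).homToEquiv (Z := P)).bijective
  convert h5.comp (h4.comp (h3.comp (h2.comp h1))) using 1
  funext g
  change α ≫ (singleFunctor D 0).map (q ≫ F.map g) =
    (x ≫ F.mapDerivedCategory.map ((TStructure.t.truncGEπ 0).app B ≫ e.hom ≫ (singleFunctor C 0).map g)) ≫ (s N).hom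
  have hq' : α ≫ (singleFunctor D 0).map q =
      x ≫ F.mapDerivedCategory.map ((TStructure.t.truncGEπ 0).app B ≫ e.hom) ≫ (s Y).hom := hq
  rw [Functor.map_comp, ← Category.assoc, hq']
  simp only [Functor.map_comp, Category.assoc]
  rw [hs]

end Main

end K651.WTrunc
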