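import Groth.Agent.Perf.K369.Corep
import Groth.Agent.S1103
import Groth.Agent.S1006
import Groth.Agent.AlgSp.K651.WTrunc
import Groth.Agent.PerfB.PCNoeth
import Groth.Agent.PerfA.QCohD
import Groth.Agent.PerfA.QCohSerre

/-!
# Corepresentability of `N ↦ Hom(M, f^* N)` for `f` proper and flat

`f : X ⟶ S` proper and flat, `S` Noetherian, `M` coherent: there are a coherent `Q` on `S` and `q : M ⟶ f^* Q` with
`Hom(Q, N) → Hom(M, f^* N)` bijective for `N` quasi-coherent.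
-/

set_option autoImplicit false

universe u v v' w

open CategoryTheory Limits MonoidalCategory AlgebraicGeometry
attribute [local instance] HasDerivedCategory.standard

open scoped Groth.Agent.Dcoh.MonCat Groth.Agent.Dcoh.ModD

namespace K651.WCorep

open Groth.Agent Groth.Agent.Dcoh Groth.Agent.Dcoh.ModD Groth.Agent.Dual.H323.PerfPush K369.Corep

variable {X Y : Scheme.{u}} (f : X ⟶ Y) [QuasiCompact f] [QuasiSeparated f]

/-- `K ↦ Hom(P, Lf^* K)` is corepresentable on `D_QCoh(Y)` by a perfect object, if `P` is perfect and `Rf_*` preserves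
perfect objects. -/
theorem exists_univArrow [DCoh.HasRpush f] [DCoh.HasLpull f]
    (hf : ∀ E : DCoh.D X, DCoh.IsPerfect E → DCoh.IsPerfect ((DCoh.Rpush f).obj E))
    (P : DCoh.D X) (hP : DCoh.IsPerfect P) :
    ∃ (B : DCoh.D Y) (_ : DCoh.IsPerfect B) (x : P ⟶ (DCoh.Lpull f).obj B),
      IsUnivArrow (DCoh.Lpull f) DCoh.IsQCohD x := by
  obtain ⟨V, hV, ⟨hVP⟩⟩ := exists_leftDual P hP
  obtain ⟨W, hW, ⟨hVW⟩⟩ := PerfDual.exists_exactPairing ((DCoh.Rpush f).obj V) (hf V hV)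
  obtain ⟨t, ht⟩ := exists_proj f V (PerfA.PCohQCoh.isQCohD_of_isPerfect hV)
  let _ := Dcoh.MonPull.monPull f
  let _ : (DCoh.Lpull f).Monoidal := Dcoh.MonLpull182.lpullMonoidal f
  let adj := DerPull.lpullAdj f
  let F : ∀ K : DCoh.D Y, (W ⊗ 𝟙_ (DCoh.D Y) ⟶ K) → (P ⟶ (DCoh.Lpull f).obj K) := fun K φ =>
    (ρ_ P).inv ≫ (tensorLeftHomEquiv (𝟙_ (DCoh.D X)) V P ((DCoh.Lpull f).obj K)).symm
      ((Functor.Monoidal.εIso (DCoh.Lpull f)).hom ≫
        (adj.homEquiv (𝟙_ (DCoh.D Y)) (V ⊗ (DCoh.Lpull f).obj K)).symm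
          ((tensorLeftHomEquiv (𝟙_ (DCoh.D Y)) ((DCoh.Rpush f).obj V) W K) φ ≫ t.app K))
  refine ⟨W ⊗ 𝟙_ (DCoh.D Y), LocalD.isPerfect_of_iso (ρ_ W).symm hW,
    F _ (𝟙 _), IsUnivArrow.of_bij F (fun K hK => ?_) (fun K K' φ v => ?_)⟩
  · have := ht K hK
    have h1 : Function.Bijective (fun g : P ⊗ 𝟙_ (DCoh.D X) ⟶ (DCoh.Lpull f).obj K => (ρ_ P).inv ≫ g) :=
      ((ρ_ P).homFromEquiv (Z := (DCoh.Lpull f).obj K)).bijective
    have h2 := (tensorLeftHomEquiv (𝟙_ (DCoh.D X)) V P ((DCoh.Lpull f).obj K)).symm.bijective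
    have h3 : Function.Bijective (fun g : (DCoh.Lpull f).obj (𝟙_ (DCoh.D Y)) ⟶ V ⊗ (DCoh.Lpull f).obj K =>
        (Functor.Monoidal.εIso (DCoh.Lpull f)).hom ≫ g) :=
      ((Functor.Monoidal.εIso (DCoh.Lpull f)).symm.homFromEquiv (Z := V ⊗ (DCoh.Lpull f).obj K)).bijective
    have h4 := (adj.homEquiv (𝟙_ (DCoh.D Y)) (V ⊗ (DCoh.Lpull f).obj K)).symm.bijective
    have h5 : Function.Bijective (fun g : 𝟙_ (DCoh.D Y) ⟶ (DCoh.Rpush f).obj V ⊗ K => g ≫ t.app K) :=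
      ((asIso (t.app K)).homToEquiv (Z := 𝟙_ (DCoh.D Y))).bijective
    have h6 := (tensorLeftHomEquiv (𝟙_ (DCoh.D Y)) ((DCoh.Rpush f).obj V) W K).bijective
    exact h1.comp (h2.comp (h3.comp (h4.comp (h5.comp h6))))
  · have h1 : (DCoh.Rpush f).obj V ◁ v ≫ t.app K' =
        t.app K ≫ (DCoh.Rpush f).map (V ◁ (DCoh.Lpull f).map v) := t.naturality v
    have h2 : ∀ a : P ⊗ 𝟙_ (DCoh.D X) ⟶ (DCoh.Lpull f).obj K,
        tensorLeftHomEquiv (𝟙_ (DCoh.D X)) V P ((DCoh.Lpull f).obj K') (a ≫ (DCoh.Lpull f).map v) =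
        tensorLeftHomEquiv (𝟙_ (DCoh.D X)) V P ((DCoh.Lpull f).obj K) a ≫ V ◁ (DCoh.Lpull f).map v :=
      fun a => tensorLeftHomEquiv_naturality a _
    have h3 : ∀ b : 𝟙_ (DCoh.D X) ⟶ V ⊗ (DCoh.Lpull f).obj K,
        (tensorLeftHomEquiv (𝟙_ (DCoh.D X)) V P ((DCoh.Lpull f).obj K')).symm
          (b ≫ V ◁ (DCoh.Lpull f).map v) =
        (tensorLeftHomEquiv (𝟙_ (DCoh.D X)) V P ((DCoh.Lpull f).obj K)).symm b ≫
          (DCoh.Lpull f).map v := by
      intro b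
      rw [Equiv.symm_apply_eq, h2, Equiv.apply_symm_apply]
    dsimp only [F]
    rw [tensorLeftHomEquiv_naturality, Category.assoc, h1, ← Category.assoc _ (t.app K),
      adj.homEquiv_naturality_right_symm, ← Category.assoc _ _ (V ◁ (DCoh.Lpull f).map v), h3,
      Category.assoc]
    rfl

section Univ

variable {C : Type u} [Category.{v} C] {D : Type w} [Category.{v'} D] {g g' : C ⥤ D} {Q : C → Prop}

/-- Change of functor. -/
lemma isUnivArrow_of_iso (s : g ≅ g') {P : D} {B : C} {x : P ⟶ g.obj B} (hx : IsUnivArrow g Q x) :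
    IsUnivArrow g' Q (x ≫ s.hom.app B) := by
  intro K hK
  have h4 : Function.Bijective (fun φ : P ⟶ g.obj K => φ ≫ s.hom.app K) :=
    ((s.app K).homToEquiv (Z := P)).bijective
  convert h4.comp (hx K hK) using 2 with φ
  simp

end Univ

/-- **Corepresentability of `N ↦ Hom(M, f^* N)`** for `f` proper and flat over a Noetherian scheme and `M` coherent. -/
theorem exists_corep {X S : Scheme.{u}} [IsNoetherian S] (f : X ⟶ S) [IsProper f] [Flat f] (M : X.Modules)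
    (hM : Coh.IsCoh M) :
    ∃ (Q : S.Modules) (_ : Coh.IsCoh Q) (q : M ⟶ (Scheme.Modules.pullback f).obj Q),
      ∀ N : S.Modules, Coh.IsQCoh N → Function.Bijective (fun a : Q ⟶ N => q ≫ (Scheme.Modules.pullback f).map a) := by
  have hXn : IsLocallyNoetherian X := LocallyOfFiniteType.isLocallyNoetherian f
  have hXc : CompactSpace X := QuasiCompact.compactSpace_of_compactSpace f
  have : LocallyOfFinitePresentation f := LocallyOfFinitePresentation.iff_locallyOfFiniteType.2 inferInstance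
  have := Groth.Agent.Dcoh.DerSch.hasRpush f
  have := Groth.Agent.PerfC.FlatExact.preservesFiniteLimits_pullback f
  have := PerfC.LpullFlat.hasLpull f
  obtain ⟨r, hr⟩ := Groth.Agent.S1103.result X Set.univ isClosed_univ (by simp)
  obtain ⟨P, α, hP, -, hα, -⟩ := hr (-1) (DCoh.inD X M) (PerfA.QCohD.isQCohD_inD M hM.1)
    (PerfB.PCNoeth.pc_of_isCoh (0 - (-1 - r) + 1).toNat (DCoh.inD X M) 0 (-1 - r) inferInstance (by lia)
      (fun i _ => PerfA.QCohD.isCohD_inD M hM i)) (fun _ _ => Set.subset_univ _)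
  obtain ⟨B, hB, x, hx⟩ := exists_univArrow f (fun E hE => Groth.Agent.S1002.result f E hE) P hP
  have hx' := isUnivArrow_of_iso (PerfC.LpullFlat.lpullIso f) hx
  obtain ⟨Q, ⟨e⟩, q, hq⟩ := K651.WTrunc.exists_arrow (Scheme.Modules.pullback f) (fun N : S.Modules => Coh.IsQCoh N)
    (fun e h => PerfA.QCohSerre.isQCoh_of_iso e h) (fun h => PerfA.QCohSerre.isQCoh_of_isZero h) α hα
    (B := B) (PerfA.PCohQCoh.isQCohD_of_isPerfect hB) _ hx'
  exact ⟨Q, PerfA.CohSerre.isCoh_of_iso e.symm ((Groth.Agent.S1006.result S B hB).1 0), q, hq⟩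

end K651.WCorep
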