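import Groth.Agent.AlgSp.K651.WRGlue
import Groth.Agent.AlgSp.K651.WMain

/-!
# Representability of the Weil restriction along a proper flat morphism

* `exists_rep`: `T` locally Noetherian, `f : X ⟶ T` proper flat, `I ⟶ X` affine of finite type: `WR f I` is represented by a
  scheme affine and of finite type over `T`.
-/

set_option autoImplicit false
universe u

open CategoryTheory CategoryTheory.Limits AlgebraicGeometry Opposite

namespace K651.WRRep

open AlgSp K613.Basic K625.Prod K651.FpqcSh K651.WRGlue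

theorem exists_rep {T X : Scheme.{u}} [IsLocallyNoetherian T] (f : X ⟶ T) [IsProper f] [Flat f] (I : Over X)
    [IsAffineHom I.hom] [LocallyOfFiniteType I.hom] :
    ∃ (Y : Over T) (_ : (yon T).obj Y ≅ WR f I), IsAffineHom Y.hom ∧ LocallyOfFiniteType Y.hom := by
  obtain ⟨Y, y, e, -, hy⟩ := K651.LocGlue.exists_rep_over (S := T) (X := WR f I)
    (@IsAffineHom ⊓ @LocallyOfFiniteType) (Z := Over.mk (𝟙 T)) (fun z => by
      obtain ⟨U, hU, hz, -⟩ := exists_isAffineOpen_mem_and_subset (X := T) (x := z) (U := ⊤) trivial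
      have hUa : IsAffine (U : Scheme.{u}) := hU
      have hUc : CompactSpace (U : Scheme.{u}) := isCompact_iff_compactSpace.1 hU.isCompact
      have hUn : IsNoetherian (U : Scheme.{u}) := {}
      have haff : IsAffineHom (Over.mk (I.hom ∣_ (f ⁻¹ᵁ U))).hom :=
        MorphismProperty.of_isPullback (P := @IsAffineHom) (isPullback_morphismRestrict I.hom (f ⁻¹ᵁ U)).flip
          inferInstance
      have hft : LocallyOfFiniteType (Over.mk (I.hom ∣_ (f ⁻¹ᵁ U))).hom :=
        inferInstanceAs (LocallyOfFiniteType (I.hom ∣_ (f ⁻¹ᵁ U)))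
      obtain ⟨R₀, q₀, h1, h2, h3⟩ := K651.WMain.exists_isWeilRes (f ∣_ U) (Over.mk (I.hom ∣_ (f ⁻¹ᵁ U)))
      exact ⟨U, Over.mk (R₀.hom ≫ U.ι), Over.mk U.ι, Over.homMk R₀.hom rfl, _, hz,
        ⟨Over.homMk (𝟙 _) (by simp [opnObj])⟩, ⟨h1, h2⟩,
        isPullback_of_isWeilRes (isPullback_morphismRestrict f U)
          (isPullback_morphismRestrict I.hom (f ⁻¹ᵁ U)).flip h3⟩)
  have hfst : IsIso (prod.fst : WR f I ⨯ (yon T).obj (Over.mk (𝟙 T)) ⟶ WR f I) := by
    refine ⟨prod.lift (𝟙 _) ((isTerminalBase T).from _), ?_, prod.lift_fst _ _⟩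
    apply prod.hom_ext
    · rw [Category.assoc, prod.lift_fst, Category.comp_id, Category.id_comp]
    · exact (isTerminalBase T).hom_ext _ _
  have hYw : y.left = Y.hom := by
    have := Over.w y
    simpa using this
  refine ⟨Y, e ≪≫ asIso prod.fst, ?_, ?_⟩
  · rw [← hYw]; exact hy.1
  · rw [← hYw]; exact hy.2

/-- A sheaf represented by an affine scheme of finite type is a separated algebraic space of finite type. -/
theorem of_rep {S : Scheme.{u}} {F : Sp S} {Y : Over S} (e : (yon S).obj Y ≅ F) [IsSeparated Y.hom]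
    [LocallyOfFiniteType Y.hom] [QuasiCompact Y.hom] :
    IsAlgSpace F ∧ IsSeparatedSp F ∧ ∀ t : F ⟶ (yon S).obj (Over.mk (𝟙 S)), IsFiniteTypeMor t := by
  refine ⟨(IsAlgSpace.yon_obj Y).of_iso e, ?_, fun t => ?_⟩
  · have h1 : RepWith @IsClosedImmersion (Limits.diag ((yon S).obj Y)) :=
      (repWith_diag_yon_iff _ Y).2 inferInstance
    have h2 : Limits.diag F = e.inv ≫ Limits.diag ((yon S).obj Y) ≫ prod.map e.hom e.hom := by ext <;> simp
    rw [IsSeparatedSp, h2]
    exact MorphismProperty.RespectsIso.precomp _ _ _ (MorphismProperty.RespectsIso.postcomp _ _ _ h1)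
  · have h1 : t = e.inv ≫ (yon S).map (toBase Y) := by
      rw [Iso.eq_inv_comp]
      exact (isTerminalBase S).hom_ext _ _
    have h2 : RepWith @LocallyOfFiniteType t := by
      rw [h1]
      exact MorphismProperty.RespectsIso.precomp _ _ _
        ((repWith_yon_map_iff _ _).2 (inferInstanceAs (LocallyOfFiniteType Y.hom)))
    have h3 : RepWith @QuasiCompact t := by
      rw [h1]
      exact MorphismProperty.RespectsIso.precomp _ _ _
        ((repWith_yon_map_iff _ _).2 (inferInstanceAs (QuasiCompact Y.hom)))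
    exact ⟨K597.locP_of_repWith (fun _ _ _ e f he hf => by
      have := he
      have := hf
      infer_instance) h2, K596.QC.isQuasiCompactMor_of_repWith h3⟩

end K651.WRRep
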