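import Groth.Agent.CohqA.AffineBaseChange
import Groth.Agent.Fga.UnitRestrict
import Groth.Agent.Fdesc.StructMod

/-!
# `f^* t_* O_T ≅ p_* O_{T ×_S X}` for `t` affine, naturally in `T`

* `Dm u w : t₂_* O ⟶ t₁_* O` for `u : T₁ ⟶ T₂` over `S`;
* `theta w : f^* t_* O_T ⟶ p_* O_{X'}` for a commutative square; an isomorphism for `t` affine and a cartesian square;
* `Phi`: from `Hom(Q, t_* O)` to `Hom(M, p_* O)` for `q : M ⟶ f^* Q`; bijective if `q` is universal.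
-/

set_option autoImplicit false
universe u

open CategoryTheory CategoryTheory.Limits AlgebraicGeometry Opposite TopologicalSpace AlgebraicGeometry.Scheme.Modules
open Groth.Agent.CohqA.PullbackUniv Groth.Agent.CohqA.AffineBaseChange Groth.Agent.Fga.UnitRestrict

namespace K651.WTheta

variable {S X T T₁ T₂ T₃ P P₁ P₂ : Scheme.{u}}

/-- `t_* O_T`. -/
noncomputable abbrev D (t : T ⟶ S) : S.Modules := (pushforward t).obj (Coh.structureModule T)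

theorem pre_le {t₁ : T₁ ⟶ S} {t₂ : T₂ ⟶ S} (u : T₁ ⟶ T₂) (w : u ≫ t₂ = t₁) (U : S.Opens) :
    t₁ ⁻¹ᵁ U ≤ u ⁻¹ᵁ (t₂ ⁻¹ᵁ U) := by
  subst w; exact le_rfl

/-- Functoriality of `t_* O_T`. -/
noncomputable def Dm {t₁ : T₁ ⟶ S} {t₂ : T₂ ⟶ S} (u : T₁ ⟶ T₂) (w : u ≫ t₂ = t₁) : D t₂ ⟶ D t₁ :=
  (pushforward t₂).map (unitToPush u) ≫ (pushforwardComp u t₂).hom.app _ ≫ (pushforwardCongr w).hom.app _

theorem Dm_app {t₁ : T₁ ⟶ S} {t₂ : T₂ ⟶ S} (u : T₁ ⟶ T₂) (w : u ≫ t₂ = t₁) (U : S.Opens) (a : Γ(T₂, t₂ ⁻¹ᵁ U)) :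
    ((Dm u w).app U a : Γ(T₁, t₁ ⁻¹ᵁ U)) = u.appLE (t₂ ⁻¹ᵁ U) (t₁ ⁻¹ᵁ U) (pre_le u w U) a := rfl

theorem ext_D {M : S.Modules} {t : T ⟶ S} {a b : M ⟶ D t}
    (h : ∀ (U : S.Opens) (x : Γ(M, U)), (a.app U x : Γ(T, t ⁻¹ᵁ U)) = b.app U x) : a = b := by
  ext U x
  exact h U x

@[reassoc]
theorem Dm_comp {t₁ : T₁ ⟶ S} {t₂ : T₂ ⟶ S} {t₃ : T₃ ⟶ S} (u : T₁ ⟶ T₂) (v : T₂ ⟶ T₃) (w : u ≫ t₂ = t₁)
    (w' : v ≫ t₃ = t₂) (w'' : (u ≫ v) ≫ t₃ = t₁) : Dm v w' ≫ Dm u w = Dm (u ≫ v) w'' := by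
  refine ext_D fun U x => ?_
  have h := (Scheme.Hom.appLE_comp_appLE u v (t₃ ⁻¹ᵁ U) (t₂ ⁻¹ᵁ U) (t₁ ⁻¹ᵁ U) (pre_le v w' U) (pre_le u w U))
  exact congr($(h).hom x)

theorem isUniv_unitToPush (a : T ⟶ S) : IsUniv a (unitToPush a) := by
  have h := (isUniv_unit a (Coh.structureModule S)).comp_iso (pullbackUnitIso a)
  have h2 : (pullbackPushforwardAdjunction a).unit.app (Coh.structureModule S) ≫
      (pushforward a).map (pullbackUnitIso a).hom = unitToPush a := unit_pullbackUnitHom a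
  rwa [h2] at h

section theta

variable {f : X ⟶ S} {t : T ⟶ S} {g : P ⟶ T} {p : P ⟶ X}

/-- `t_* O_T ⟶ f_* p_* O_P` for a commutative square. -/
noncomputable def beta (w : g ≫ t = p ≫ f) : D t ⟶ (pushforward f).obj (D p) :=
  pushSquare t f g p w (unitToPush g)

theorem beta_le (w : g ≫ t = p ≫ f) (U : S.Opens) : p ⁻¹ᵁ (f ⁻¹ᵁ U) ≤ g ⁻¹ᵁ (t ⁻¹ᵁ U) := by
  rw [← Scheme.Hom.comp_preimage, ← Scheme.Hom.comp_preimage, w]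

theorem beta_app (w : g ≫ t = p ≫ f) (U : S.Opens) (a : Γ(T, t ⁻¹ᵁ U)) :
    ((beta w).app U a : Γ(P, p ⁻¹ᵁ (f ⁻¹ᵁ U))) = g.appLE (t ⁻¹ᵁ U) (p ⁻¹ᵁ (f ⁻¹ᵁ U)) (beta_le w U) a := rfl

/-- `f^* t_* O_T ⟶ p_* O_P` for a commutative square. -/
noncomputable def theta (w : g ≫ t = p ≫ f) : (Scheme.Modules.pullback f).obj (D t) ⟶ D p :=
  ((pullbackPushforwardAdjunction f).homEquiv _ _).symm (beta w)

theorem isIso_theta (h : IsPullback g p t f) [IsAffineHom t] : IsIso (theta h.w) := by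
  have : (Coh.structureModule T).IsQuasicoherent := Groth.Agent.Fdesc.StructMod.isQCoh_structureModule T
  exact (isUniv_iff_isIso f _).1 (isUniv_pushSquare h _ (isUniv_unitToPush g))

end theta

section nat

variable {f : X ⟶ S} {t₁ : T₁ ⟶ S} {t₂ : T₂ ⟶ S} {g₁ : P₁ ⟶ T₁} {g₂ : P₂ ⟶ T₂} {p₁ : P₁ ⟶ X} {p₂ : P₂ ⟶ X}
  (w₁ : g₁ ≫ t₁ = p₁ ≫ f) (w₂ : g₂ ≫ t₂ = p₂ ≫ f) (u : T₁ ⟶ T₂) (v : P₁ ⟶ P₂) (hu : u ≫ t₂ = t₁)
  (hv : v ≫ p₂ = p₁) (hg : v ≫ g₂ = g₁ ≫ u)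

include hg in
theorem Dm_beta : Dm u hu ≫ beta w₁ = beta w₂ ≫ (pushforward f).map (Dm v hv) := by
  ext U x
  change (g₁.appLE (t₁ ⁻¹ᵁ U) (p₁ ⁻¹ᵁ (f ⁻¹ᵁ U)) (beta_le w₁ U)).hom ((u.appLE _ _ (pre_le u hu U)).hom x) =
    (v.appLE (p₂ ⁻¹ᵁ (f ⁻¹ᵁ U)) (p₁ ⁻¹ᵁ (f ⁻¹ᵁ U)) (pre_le v hv _)).hom ((g₂.appLE _ _ (beta_le w₂ U)).hom x)
  have h1 := Scheme.Hom.appLE_comp_appLE g₁ u (t₂ ⁻¹ᵁ U) (t₁ ⁻¹ᵁ U) (p₁ ⁻¹ᵁ (f ⁻¹ᵁ U)) (pre_le u hu U) (beta_le w₁ U)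
  have h2 := Scheme.Hom.appLE_comp_appLE v g₂ (t₂ ⁻¹ᵁ U) (p₂ ⁻¹ᵁ (f ⁻¹ᵁ U)) (p₁ ⁻¹ᵁ (f ⁻¹ᵁ U)) (beta_le w₂ U)
    (pre_le v hv _)
  have h3 := h1.trans (Eq.trans (by congr 1; exact hg.symm) h2.symm)
  exact congr($(h3).hom x)

include hg in
theorem map_Dm_theta : (Scheme.Modules.pullback f).map (Dm u hu) ≫ theta w₁ = theta w₂ ≫ Dm v hv := by
  apply ((pullbackPushforwardAdjunction f).homEquiv _ _).injective
  rw [Adjunction.homEquiv_naturality_left, Adjunction.homEquiv_naturality_right, theta, theta,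
    Equiv.apply_symm_apply, Equiv.apply_symm_apply]
  exact Dm_beta w₁ w₂ u v hu hv hg

end nat

section Phi

variable {f : X ⟶ S} {t : T ⟶ S} {g : P ⟶ T} {p : P ⟶ X} {M : X.Modules} {Q : S.Modules} (q : M ⟶ (Scheme.Modules.pullback f).obj Q)

/-- `Hom(Q, t_* O_T) → Hom(M, p_* O_P)`. -/
noncomputable def Phi (w : g ≫ t = p ≫ f) (a : Q ⟶ D t) : M ⟶ D p := q ≫ (Scheme.Modules.pullback f).map a ≫ theta w

theorem bijective_Phi (hq : ∀ N : S.Modules, Coh.IsQCoh N → Function.Bijective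
    (fun a : Q ⟶ N => q ≫ (Scheme.Modules.pullback f).map a)) (h : IsPullback g p t f) [IsAffineHom t] :
    Function.Bijective (Phi q h.w) := by
  have := isIso_theta h
  have hD : Coh.IsQCoh (D t) := by
    have : (Coh.structureModule T).IsQuasicoherent := Groth.Agent.Fdesc.StructMod.isQCoh_structureModule T
    exact Groth.Agent.Ega1.QcqsPush.isQCoh_pushforward t _ (Groth.Agent.Fdesc.StructMod.isQCoh_structureModule T)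
  have h1 : Function.Bijective (fun b : M ⟶ (Scheme.Modules.pullback f).obj (D t) => b ≫ theta h.w) :=
    ((asIso (theta h.w)).homToEquiv (Z := M)).bijective
  convert h1.comp (hq _ hD) using 1
  funext a
  change q ≫ (Scheme.Modules.pullback f).map a ≫ theta h.w = (q ≫ (Scheme.Modules.pullback f).map a) ≫ theta h.w
  rw [Category.assoc]

end Phi

section Phinat

variable {f : X ⟶ S} {t₁ : T₁ ⟶ S} {t₂ : T₂ ⟶ S} {g₁ : P₁ ⟶ T₁} {g₂ : P₂ ⟶ T₂} {p₁ : P₁ ⟶ X} {p₂ : P₂ ⟶ X}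
  {M : X.Modules} {Q : S.Modules} (q : M ⟶ (Scheme.Modules.pullback f).obj Q)
  (w₁ : g₁ ≫ t₁ = p₁ ≫ f) (w₂ : g₂ ≫ t₂ = p₂ ≫ f) (u : T₁ ⟶ T₂) (v : P₁ ⟶ P₂) (hu : u ≫ t₂ = t₁)
  (hv : v ≫ p₂ = p₁) (hg : v ≫ g₂ = g₁ ≫ u)

include hg in
theorem Phi_Dm (a : Q ⟶ D t₂) : Phi q w₁ (a ≫ Dm u hu) = Phi q w₂ a ≫ Dm v hv := by
  rw [Phi, Phi, Functor.map_comp, Category.assoc, Category.assoc, Category.assoc,
    map_Dm_theta w₁ w₂ u v hu hv hg]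

end Phinat

end K651.WTheta
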