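import Groth.Agent.AlgSp.K613.Diag

/-!
# Finite wide fibre products of a chart, loci where two points of an étale separated chart agree
-/

set_option autoImplicit false
universe v w u

open CategoryTheory CategoryTheory.Limits AlgebraicGeometry Opposite

namespace K651.Wide

open AlgSp K613.Basic K613.Cover K613.Chart K613.Diag

section cat

variable {C : Type w} [Category.{v} C] [HasPullbacks C] {X U : C} (p : U ⟶ X) (Q : MorphismProperty C)

/-- `(G, b, π)` is the wide fibre product of `ι` copies of `p`. -/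
structure IsWide {ι : Type u} {G : C} (b : G ⟶ X) (π : ι → (G ⟶ U)) : Prop where
  w : ∀ i, π i ≫ p = b
  lift : ∀ {T : C} (x : T ⟶ X) (u : ι → (T ⟶ U)), (∀ i, u i ≫ p = x) → ∃ g : T ⟶ G, g ≫ b = x ∧ ∀ i, g ≫ π i = u i
  ext : ∀ {T : C} (g g' : T ⟶ G), g ≫ b = g' ≫ b → (∀ i, g ≫ π i = g' ≫ π i) → g = g'

theorem exists_wide [Q.IsStableUnderBaseChange] [Q.IsMultiplicative] (hp : Q p) (ι : Type u) [Finite ι] :
    ∃ (G : C) (b : G ⟶ X) (π : ι → (G ⟶ U)), IsWide p b π ∧ Q b ∧ ∀ i, Q (π i) := by
  induction ι using Finite.induction_empty_option with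
  | of_equiv e h =>
    obtain ⟨G, b, π, hπ, hb, hq⟩ := h
    refine ⟨G, b, fun i => π (e.symm i), ⟨fun i => hπ.w _, fun x u hu => ?_, fun g g' h1 h2 => ?_⟩, hb,
      fun i => hq _⟩
    · obtain ⟨g, hg, hg'⟩ := hπ.lift x (fun i => u (e i)) (fun i => hu _)
      exact ⟨g, hg, fun i => by rw [hg', Equiv.apply_symm_apply]⟩
    · exact hπ.ext g g' h1 fun i => by simpa using h2 (e i)
  | h_empty =>
    exact ⟨X, 𝟙 X, fun i => i.elim, ⟨fun i => i.elim, fun x u hu => ⟨x, Category.comp_id _, fun i => i.elim⟩,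
      fun g g' h1 _ => by simpa using h1⟩, Q.id_mem X, fun i => i.elim⟩
  | h_option h =>
    obtain ⟨G, b, π, hπ, hb, hq⟩ := h
    have sq := IsPullback.of_hasPullback b p
    have h1 : Q (pullback.fst b p) := MorphismProperty.pullback_fst _ _ hp
    have h2 : Q (pullback.snd b p) := MorphismProperty.pullback_snd _ _ hb
    refine ⟨pullback b p, pullback.fst b p ≫ b, fun i => i.elim (pullback.snd b p) (fun j => pullback.fst b p ≫ π j),
      ⟨?_, ?_, ?_⟩, Q.comp_mem _ _ h1 hb, ?_⟩
    · rintro (_ | i)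
      · exact pullback.condition.symm
      · dsimp only [Option.elim]
        rw [Category.assoc, hπ.w]
    · intro T x u hu
      obtain ⟨g, hg, hg'⟩ := hπ.lift x (fun i => u (some i)) (fun i => hu _)
      refine ⟨pullback.lift g (u none) (by rw [hg, hu]), ?_, ?_⟩
      · rw [← Category.assoc, pullback.lift_fst, hg]
      · rintro (_ | i)
        · exact pullback.lift_snd _ _ _
        · dsimp only [Option.elim]
          rw [← Category.assoc, pullback.lift_fst, hg']
    · intro T g g' e1 e2
      apply pullback.hom_ext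
      · refine hπ.ext _ _ (by simpa using e1) fun i => ?_
        simpa using e2 (some i)
      · exact e2 none
    · rintro (_ | i)
      · exact h2
      · exact Q.comp_mem _ _ h1 (hq i)

end cat

variable {S : Scheme.{u}} {X : Sp S} {U : Over S} {p : (yon S).obj U ⟶ X}

/-- The diagonal of an étale morphism is an open immersion. -/
theorem diagonal_openImmersion {F : Sp S} {f : F ⟶ X} (hf : RepWith @Etale f) :
    RepWith @IsOpenImmersion (pullback.diagonal f) := by
  rw [repWith_diagonal_iff]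
  intro T a b hab
  obtain ⟨V, snd, fst, sq⟩ := hf.1 (a ≫ f)
  have hsnd : Etale snd.left := hf.2 _ _ _ sq
  have h1 : a ≫ f = 𝟙 _ ≫ a ≫ f := by rw [Category.id_comp]
  have h2 : b ≫ f = 𝟙 _ ≫ a ≫ f := by rw [Category.id_comp, hab]
  have hd : RepWith @IsOpenImmersion (pullback.diagonal ((yon S).map snd)) :=
    (repWith_diagonal_yon_map_iff _ _).2 inferInstance
  obtain ⟨E, e, he, ho⟩ := (repWith_diagonal_iff _ _).1 hd T (sq.lift _ _ h1) (sq.lift _ _ h2) (by
    rw [sq.lift_snd, sq.lift_snd])
  refine ⟨E, e, ⟨?_, fun R r hr => ?_⟩, ho⟩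
  · have := congrArg (· ≫ fst) he.w
    simpa using this
  · refine he.lift R r ?_
    apply sq.hom_ext
    · simpa using hr
    · simp

/-- `a` and `b` agree nowhere. -/
def NEq {T U : Over S} (a b : T ⟶ U) : Prop :=
  ∀ (R : Over S) (r : R ⟶ T), Nonempty R.left → r ≫ a ≠ r ≫ b

theorem NEq.symm {T U : Over S} {a b : T ⟶ U} (h : NEq a b) : NEq b a := fun R r hR e => h R r hR e.symm

theorem NEq.precomp {T T' U : Over S} {a b : T ⟶ U} (h : NEq a b) (t : T' ⟶ T) : NEq (t ≫ a) (t ≫ b) := by
  intro R r hR e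
  rw [← Category.assoc, ← Category.assoc] at e
  exact h R (r ≫ t) hR e

/-- The locus where two points of an étale separated chart agree is open and closed. -/
theorem exists_clopen (hp : RepWith @Etale p) (hU : IsSeparated U.hom) {T : Over S} (a b : T ⟶ U)
    (hab : (yon S).map a ≫ p = (yon S).map b ≫ p) :
    ∃ (E : Over S) (e : E ⟶ T), IsOpenImmersion e.left ∧ IsClosedImmersion e.left ∧ e ≫ a = e ≫ b ∧
      ∀ (R : Over S) (r : R ⟶ T), r ≫ a = r ≫ b → ∃ r' : R ⟶ E, r' ≫ e = r := by
  obtain ⟨E, e, he, ho⟩ := (repWith_diagonal_iff _ _).1 (diagonal_openImmersion hp) T _ _ hab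
  have hc : RepWith @IsClosedImmersion (Limits.diag ((yon S).obj U)) :=
    (repWith_diag_yon_iff _ _).2 inferInstance
  obtain ⟨E', e', he', hc'⟩ := (repWith_diag_iff _).1 hc T ((yon S).map a) ((yon S).map b)
  obtain ⟨i, hi⟩ := he.uniq he'
  refine ⟨E, e, ho, ?_, ?_, fun R r hr => ?_⟩
  · have hc'' : IsClosedImmersion e'.left := hc'
    have hi' : IsIso i.hom.left := inferInstanceAs (IsIso ((Over.forget S).map i.hom))
    rw [← hi]
    exact inferInstanceAs (IsClosedImmersion (i.hom.left ≫ e'.left))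
  · apply (yon S).map_injective
    rw [Functor.map_comp, Functor.map_comp, he.w]
  · obtain ⟨r', hr', -⟩ := he.lift R r (by rw [← Functor.map_comp, ← Functor.map_comp, hr])
    exact ⟨r', hr'⟩

theorem isSeparated_of_isAffine (U : Over S) [IsAffine U.left] : IsSeparated U.hom := inferInstance

end K651.Wide
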